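import Cfsg.Agent.UGT.Blk.StrEnd
import Cfsg.Agent.PermParts.Consumer

/-!
# The closing for blocks: end

* `Blk.commutator_mem`: for a Sylow 2-subgroup `S` of `G` in `H`: `[x^g, y] ∈ O(G)` for `x ∈ S ∩ A`, `y ∈ S ∩ B`,
  `A ≠ B` in `Λ` and `g ∈ K° = ⟨(S ∩ ⟨Λ⟩)^G⟩`;
* `Blk.false_of`: `G` is not simple.
-/

set_option autoImplicit false

open Subgroup Cfsg

namespace Cfsg.Agent.UGT.Blk

universe u

variable {G : Type u} [Group G]

namespace Blk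

variable {Λ : Set (Subgroup G)} {H : Subgroup G} (h : Blk Λ H)
include h

/-- **The closing, simple groups.** -/
theorem false_of [Finite G] [IsSimpleGroup G] : False := by
  obtain ⟨S, hS⟩ := h.exists_sylow
  obtain ⟨A, hA, B, hB, hAB⟩ := h.two
  have h1 := Cfsg.Agent.PermParts.Consumer.eq_of_data (h.data hS) (fun i => h.rich_inf hS i.2)
    (i := ⟨A, hA⟩) (j := ⟨B, hB⟩) (h.inf_ne_bot hS hA) (h.inf_ne_bot hS hB)
  exact hAB (congrArg Subtype.val h1)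

/-- **The closing, any group.** -/
theorem commutator_mem [Finite G] {S : Sylow 2 G} (hS : (S : Subgroup G) ≤ H) {A B : Subgroup G} (hA : A ∈ Λ)
    (hB : B ∈ Λ) (hAB : A ≠ B) {x y g : G} (hx : x ∈ (S : Subgroup G) ⊓ A) (hy : y ∈ (S : Subgroup G) ⊓ B)
    (hg : g ∈ Cfsg.Agent.TwoFusion.ClosedFam.fam (fam0 Λ (S : Subgroup G)) (⊤ : Subgroup G)) :
    g * x * g⁻¹ * y * (g * x * g⁻¹)⁻¹ * y⁻¹ ∈ Cfsg.oddCore G :=
  Cfsg.Agent.PermParts.Consumer.commutator_mem_of_data (h.data hS) (fun i => h.rich_inf hS i.2)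
    (i := ⟨A, hA⟩) (j := ⟨B, hB⟩) (fun e => hAB (congrArg Subtype.val e)) hx hy hg

end Blk

end Cfsg.Agent.UGT.Blk
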