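import Cfsg.Agent.UGT.TT.FactsL2
import Cfsg.Agent.UGT.Res.EFacts
import Cfsg.Agent.UGT.Res.PGLFacts

/-!
# Facts on `PSL(2,F)`, `|F| ∈ {5,7,9}`, used in the adjacency files
-/

set_option autoImplicit false

namespace Cfsg.Agent.UGT.Blk.KSmall

open Cfsg.Agent.GH.L2Aut Cfsg.Agent.UGT.SL

variable {F : Type*} [Field F] [Finite F] {L : Type*} [Group L] (R : Cfsg.Agent.GH.L2Aut.Rep F L)

/-- matrices of an involution -/
theorem exists_gl {φ : MulAut L} (h1 : φ ∈ R.PGL) (hne : φ ≠ 1) (h : φ * φ = 1) :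
    ∃ g : GL (Fin 2) F, g.1.trace = 0 ∧ φ = R.gl g := by
  obtain ⟨g, rfl⟩ := R.mem_PGL.1 h1
  exact ⟨g, R.tr_of_inv hne h, rfl⟩

include R in
theorem conj_ne {a : L} (h : a ≠ 1) : (MulAut.conj a : MulAut L) ≠ 1 := fun e =>
  h (R.conj_injective (by rw [e, map_one]))

theorem conj_sq {a : L} (h : a * a = 1) : (MulAut.conj a : MulAut L) * MulAut.conj a = 1 := by
  rw [← map_mul, h, map_one]

include R in
/-- for `|F| ≤ 9` centralizers of involutions are 2-groups -/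
theorem cent_two (h9 : Nat.card F ≤ 9) (h5 : 5 ≤ Nat.card F) {a : L} (ha : a * a = 1) (ha1 : a ≠ 1) {x : L}
    (hx : x * a = a * x) : x ^ 2 ^ (if Nat.card F = 5 then 2 else 3) = 1 := by
  obtain ⟨g, htr, hg⟩ := exists_gl R (R.conj_mem_PGL a) (conj_ne R ha1) (conj_sq ha)
  have hfix : R.gl g x = x := by
    rw [← hg, MulAut.conj_apply, ← hx, mul_inv_cancel_right]
  have hc := OddCyclic.PGLTorus.card_Tor_inn R htr (by rw [← hg]; exact ⟨a, rfl⟩)
  have hF := OddCyclic.PGLTorus.odd_card R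
  rcases OddCyclic.PGLTorus.mem_Cp_or_sq R hfix with h3 | h3
  · have h4 : orderOf (MulAut.conj x) ∣ Nat.card (OddCyclic.PGLTorus.Tor R g) :=
      Subgroup.orderOf_dvd_natCard _ h3
    have h5' : orderOf x = orderOf (MulAut.conj x) := (orderOf_injective _ R.conj_injective x).symm
    apply orderOf_dvd_iff_pow_eq_one.1
    rw [h5']
    refine h4.trans ?_
    rw [hc]
    obtain ⟨q, hq'⟩ : ∃ q, q = Nat.card F := ⟨_, rfl⟩
    rw [← hq'] at h9 h5 hF ⊢
    unfold OddCyclic.PGLTorus.nu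
    have h6 : q = 5 ∨ q = 7 ∨ q = 9 := by omega
    rcases h6 with rfl | rfl | rfl <;> norm_num
  · have h4 : x ^ 2 = 1 := by rw [pow_two, h3]
    split_ifs
    · rw [show 2 ^ 2 = 2 * 2 by norm_num, pow_mul, h4, one_pow]
    · rw [show 2 ^ 3 = 2 * 4 by norm_num, pow_mul, h4, one_pow]

include R in
/-- for `|F| = 5` centralizers of involutions have exponent 2 -/
theorem cent_five (h5 : Nat.card F = 5) {a : L} (ha : a * a = 1) (ha1 : a ≠ 1) {x : L}
    (hx : x * a = a * x) : x * x = 1 := by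
  have hfin := R.finite
  have h1 := cent_two R (by omega) (by omega) ha ha1 hx
  rw [if_pos h5] at h1
  have h2 : IsPGroup 2 (Subgroup.zpowers x) := isPGroup_zpowers ⟨2, h1⟩
  obtain ⟨S, hS⟩ := h2.exists_le_sylow
  have hxS : x ∈ S := hS (Subgroup.mem_zpowers x)
  obtain ⟨d, r, hd⟩ := R.exists_dih S
  have h3 := R.card_mul_two
  rw [h5] at h3
  have h4 : Nat.card L = 60 := by omega
  obtain ⟨n, hn⟩ := (IsPGroup.iff_card.mp S.2 : ∃ n, Nat.card S = 2 ^ n)
  have h6 : 2 ^ n ∣ 60 := by rw [← hn, ← h4]; exact Subgroup.card_subgroup_dvd_card _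
  have h61 : n ≤ 2 := by
    by_contra hcon
    have h7 : 2 ^ 3 ∣ 60 := (pow_dvd_pow 2 (by omega)).trans h6
    norm_num at h7
  have h7 : Nat.card S = 2 * orderOf d := hd.card
  have h8 : orderOf d = 2 := by
    have h9 : orderOf d ≠ 1 := fun h => hd.d1 (orderOf_eq_one_iff.mp h)
    have h10 : 0 < orderOf d := orderOf_pos d
    have h11 : 2 ^ n ≤ 2 ^ 2 := Nat.pow_le_pow_right (by norm_num) h61
    omega
  have hdd : d * d = 1 := by rw [← pow_two, ← h8, pow_orderOf_eq_one]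
  rcases hd.cov x hxS with h9 | ⟨k, h9⟩
  · obtain ⟨k, rfl⟩ := Subgroup.mem_zpowers_iff.1 h9
    rw [← zpow_add, ← two_mul, zpow_mul, zpow_ofNat, pow_two, hdd, one_zpow]
  · rw [h9]; exact hd.pow_r_sq k

include R in
/-- for `|F| ≥ 7` the centralizer of an involution contains an element of order at least 3 -/
theorem exists_nonsq (h7 : 7 ≤ Nat.card F) {a : L} (ha : a * a = 1) (ha1 : a ≠ 1) :
    ∃ x : L, x * a = a * x ∧ x * x ≠ 1 := by
  obtain ⟨b, hb, hb1, hba, hab⟩ := TT.PGLSolv.four R ha ha1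
  -- `x` fixed by `a`, not commuting with `b`
  obtain ⟨x, hx, hxb⟩ := exists_fix_not_comm R h7 hb hb1 (conj_sq ha) (conj_ne R ha1)
    (fun h => hba (R.conj_injective h).symm) (by rw [MulAut.conj_apply, hab, mul_inv_cancel_right])
  have hxa : x * a = a * x := by
    rw [MulAut.conj_apply, mul_inv_eq_iff_eq_mul] at hx
    exact hx.symm
  by_contra hcon
  push Not at hcon
  have h1 := hcon x hxa
  have h2 := hcon (x * b) (by rw [mul_assoc, ← hab, ← mul_assoc, hxa, mul_assoc])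
  apply hxb
  calc x * b = x * b * (x * b * (x * b))⁻¹ * (x * x) * (b * b) := by rw [h1, hb, h2]; group
    _ = b⁻¹ * x⁻¹ * (x * x) * (b * b) := by group
    _ = b⁻¹ * x * (b * b) := by group
    _ = b * x := by rw [hb, mul_one, inv_eq_of_mul_eq_one_right hb]

/-- for `|F| ≥ 7` an involution of `PGL` centralizing `C_L(a)` is trivial or `a` -/
theorem eq_of_cent (h7 : 7 ≤ Nat.card F) {a : L} (ha : a * a = 1) (ha1 : a ≠ 1) {δ : MulAut L}
    (hδ : δ ∈ R.PGL) (h2 : δ * δ = 1) (h : ∀ x, x * a = a * x → δ x = x) : δ = 1 ∨ δ = MulAut.conj a := by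
  obtain ⟨A, -, -, hcomm, huniq, hcov⟩ := R.inv_cent (R.conj_mem_PGL a) (conj_ne R ha1) (conj_sq ha)
  have hfa : δ a = a := h a rfl
  rcases hcov δ hδ (Rep.conj_comm_iff.mpr (by rw [hfa])).symm with h3 | ⟨-, h3⟩
  · exact huniq δ h3 h2
  · exfalso
    obtain ⟨x, hx, hxx⟩ := exists_nonsq R h7 ha ha1
    have hxA : MulAut.conj x ∈ A := by
      rcases hcov (MulAut.conj x) (R.conj_mem_PGL x) (by rw [← map_mul, hx, map_mul]) with h4 | ⟨h4, -⟩
      · exact h4
      · exact absurd (R.conj_injective (by rw [map_mul, h4, map_one])) hxx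
    have h5 := h3 _ hxA
    rw [conj_conj, h x hx, ← map_inv] at h5
    have h6 := R.conj_injective h5
    apply hxx
    nth_rewrite 2 [h6]
    rw [mul_inv_cancel]

/-- an element of order 3 permuting a four-group -/
theorem exists_three {a : L} (ha : a * a = 1) (ha1 : a ≠ 1) :
    ∃ b y : L, Four a b ∧ y * y * y = 1 ∧ y * a * y⁻¹ = b ∧ a * b = y⁻¹ * a * y ∧
      ∀ α ∈ R.PGL, α a = a → α b = b → ∃ u : L, (u = 1 ∨ u = a ∨ u = b ∨ u = a * b) ∧ α = MulAut.conj u := by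
  obtain ⟨b, hb, hb1, hba, hab⟩ := TT.PGLSolv.four R ha ha1
  have hF : Four a b := ⟨ha, hb, ha1, hb1, hba.symm, hab⟩
  obtain ⟨Φ, y, δ, -, -, -, -, h3, -, h4, h5, -, -, -, -, -, h6, -⟩ := R.exists_frame hF
  refine ⟨b, y, hF, h3, h4, ?_, ?_⟩
  · have h7 : y * (a * b) * y⁻¹ = a := by
      calc y * (a * b) * y⁻¹ = (y * a * y⁻¹) * (y * b * y⁻¹) := by group
        _ = b * (a * b) := by rw [h4, h5]
        _ = a := by rw [hab, ← mul_assoc, hb, one_mul]
    calc a * b = y⁻¹ * (y * (a * b) * y⁻¹) * y := by group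
      _ = y⁻¹ * a * y := by rw [h7]
  · intro α hα h7 h8
    obtain ⟨u, hu, h9⟩ := h6 α h7 h8
    refine ⟨u, hu, ?_⟩
    rw [R.mem_PGL_iff_fld.1 hα, map_one, mul_one] at h9
    exact h9

include R in
/-- commuting involutions `a, b, x`: `x ∈ ⟨a, b⟩` -/
theorem mem_four {a b x : L} (h : Four a b) (hx : x * x = 1) (hxa : x * a = a * x) (hxb : x * b = b * x) :
    x = 1 ∨ x = a ∨ x = b ∨ x = a * b := by
  have key : ∀ {u v : L}, u * u = 1 → v * u = 1 → v = u := by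
    intro u v hu hv
    rw [eq_inv_of_mul_eq_one_left hv, inv_eq_of_mul_eq_one_right hu]
  have inj : ∀ {u : L}, (MulAut.conj u : MulAut L) = 1 → u = 1 := fun h => R.conj_injective (by rw [h, map_one])
  have h1 := TT.PGLSolv.rank R (R.conj_mem_PGL a) (R.conj_mem_PGL b) (R.conj_mem_PGL x) (conj_sq h.aa) (conj_sq h.bb)
    (conj_sq hx) (by rw [← map_mul, ← map_mul, h.comm]) (by rw [← map_mul, ← map_mul, hxa])
    (by rw [← map_mul, ← map_mul, hxb])
  rw [← map_mul, ← map_mul, ← map_mul, ← map_mul] at h1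
  rcases h1 with h1 | h1 | h1 | h1 | h1 | h1 | h1
  · exact absurd (inj h1) h.a1
  · exact absurd (inj h1) h.b1
  · exact Or.inl (inj h1)
  · exact absurd (key h.bb (inj h1)) h.ne
  · exact Or.inr (Or.inl (key hx (inj h1)).symm)
  · exact Or.inr (Or.inr (Or.inl (key hx (inj h1)).symm))
  · exact Or.inr (Or.inr (Or.inr (key hx (inj h1)).symm))

/-- an involution outside `PGL` fixes an `A₄` -/
theorem fld_a4 {α : MulAut L} (h1 : α * α = 1) (h2 : α ∉ R.PGL) :
    ∃ a y : L, a * a = 1 ∧ a ≠ 1 ∧ α a = a ∧ α y = y ∧ a * (y * a * y⁻¹) = y⁻¹ * a * y := by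
  obtain ⟨R', -, -, h3, h4⟩ := R.ftype_rep h2 h1
  obtain ⟨K, hK, hcard⟩ := exists_fixed_field (R.fld α)
  have hfix : ∀ x ∈ R'.sub K, α x = x := by
    intro x hx
    rw [h3]
    exact R'.sub_le_fix hK hx
  obtain ⟨a, b, hab⟩ := (R'.subRep K).exists_four
  obtain ⟨b, y, hF, -, h5, h6, -⟩ := exists_three (R'.subRep K) hab.aa hab.a1
  refine ⟨a, y, congrArg Subtype.val hab.aa, fun h => hab.a1 (Subtype.ext h), hfix _ a.2, hfix _ y.2, ?_⟩
  rw [← h5] at h6
  exact congrArg Subtype.val h6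

end Cfsg.Agent.UGT.Blk.KSmall
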