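import Cfsg.Agent.UGT.Blk.Act
import Cfsg.Agent.UGT.Blk.KSmall

/-!
# `LF L (pgl R)` for `R : Rep F L`, `|F| ≥ 5` odd
-/

set_option autoImplicit false

open Subgroup
open scoped commutatorElement
open Cfsg.Agent.OddHalf.D6 (act act_apply act_mul act_congr act_one_iff act_eq_iff)
open Cfsg.Agent.UGT.Res.EFacts (act_one_iff' act_of_mem act_inv act_comm' act_sq act_fix)

namespace Cfsg.Agent.UGT.Blk

variable {G : Type*} [Group G] {L : Subgroup G}

theorem as_iff {u a : G} (hu : u ∈ normalizer (L : Set G)) (ha : a ∈ L) :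
    As L u a ↔ act L u hu = MulAut.conj (⟨a, ha⟩ : L) := by
  constructor
  · intro h
    ext x
    exact h x x.2
  · intro h x hx
    have := congrArg (fun f : MulAut L => ((f ⟨x, hx⟩ : L) : G)) h
    exact this

theorem inn_iff {u : G} (hu : u ∈ normalizer (L : Set G)) :
    Inn L u ↔ ∃ a : L, act L u hu = MulAut.conj a := by
  constructor
  · rintro ⟨a, ha, h⟩
    exact ⟨⟨a, ha⟩, (as_iff hu ha).mp h⟩
  · rintro ⟨a, ha⟩
    exact ⟨a, a.2, (as_iff hu a.2).mpr ha⟩

theorem Inn.norm {u : G} (h : Inn L u) : u ∈ normalizer (L : Set G) := by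
  obtain ⟨a, ha, h⟩ := h
  exact h.norm ha

/-- the image of a perfect group in `Aut(L)` -/
theorem exists_image {D : Subgroup G} (hD : ⁅D, D⁆ = D) (hn : D ≤ normalizer (L : Set G)) :
    ∃ J : Subgroup (MulAut L), J ≤ ⁅J, J⁆ ∧ (∀ β ∈ J, ∃ d ∈ D, ∃ h : d ∈ normalizer (L : Set G), β = act L d h) ∧
      ∀ d ∈ D, ∀ h : d ∈ normalizer (L : Set G), act L d h ∈ J := by
  obtain ⟨E, hE⟩ : ∃ E, E = D.subgroupOf (normalizer (L : Set G)) := ⟨_, rfl⟩
  have hEm : E.map (normalizer (L : Set G)).subtype = D := by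
    rw [hE, subgroupOf_map_subtype, inf_eq_left.mpr hn]
  have hEE : ⁅E, E⁆ = E := by
    apply map_injective (normalizer (L : Set G)).subtype_injective
    rw [map_commutator, hEm, hD]
  refine ⟨E.map L.normalizerMonoidHom, ?_, ?_, ?_⟩
  · rw [← map_commutator, hEE]
  · rintro _ ⟨d, hd, rfl⟩
    rw [hE] at hd
    exact ⟨d, hd, d.2, rfl⟩
  · intro d hd h
    exact ⟨⟨d, h⟩, by rw [hE]; exact hd, rfl⟩

variable {F : Type*} [Field F] [Finite F] (R : Cfsg.Agent.GH.L2Aut.Rep F L)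

/-- the elements inducing elements of `PGL(2,F)` -/
noncomputable def pgl : Subgroup G := (R.PGL.comap L.normalizerMonoidHom).map (normalizer (L : Set G)).subtype

theorem mem_pgl {u : G} : u ∈ pgl R ↔ ∃ h : u ∈ normalizer (L : Set G), act L u h ∈ R.PGL := by
  constructor
  · rintro ⟨u, hu, rfl⟩
    exact ⟨u.2, hu⟩
  · rintro ⟨h1, h2⟩
    exact ⟨⟨u, h1⟩, h2, rfl⟩

theorem act_ne {u : G} (hu : u ∈ normalizer (L : Set G)) (h : u ∉ centralizer (L : Set G)) : act L u hu ≠ 1 :=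
  fun e => h ((act_one_iff' hu).mp e)

theorem sub_sq {t : G} (ht : t ∈ L) (h2 : orderOf t = 2) : (⟨t, ht⟩ : L) * ⟨t, ht⟩ = 1 :=
  Subtype.ext (inv2_sq h2)

theorem sub_ne {t : G} (ht : t ∈ L) (h2 : orderOf t = 2) : (⟨t, ht⟩ : L) ≠ 1 :=
  fun e => inv2_ne h2 (congrArg Subtype.val e)

theorem ord_sub {t : L} (h : t * t = 1) (h1 : t ≠ 1) : orderOf (t : G) = 2 :=
  ord2_of (congrArg Subtype.val h) fun e => h1 (Subtype.ext e)

theorem fld_comm (σ τ : F ≃+* F) : σ * τ = τ * σ := Res.EFacts.ringAut_comm σ τ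

include R in
/-- `noA4` in `Aut(L)` -/
theorem noA4_aut {t : L} (ht : t * t = 1) (ht1 : t ≠ 1) {α β : MulAut L} (hα : α * α = 1) (hαt : α t = t)
    (hβt : β t = t) (h : α * (β * α * β⁻¹) = β⁻¹ * α * β) : α = 1 := by
  have h1 : R.fld α = 1 := by
    have h2 := congrArg R.fld h
    simp only [map_mul, map_inv] at h2
    rw [fld_comm (R.fld β), mul_inv_cancel_right, fld_comm (R.fld β)⁻¹, mul_assoc, inv_mul_cancel, mul_one] at h2
    exact mul_eq_right.mp h2
  have h2 : R.o1 α = 1 := by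
    have h2 := congrArg R.o1 h
    simp only [map_mul, map_inv] at h2
    rw [mul_comm (R.o1 β), mul_inv_cancel_right, mul_comm (R.o1 β)⁻¹, mul_assoc, inv_mul_cancel, mul_one] at h2
    exact mul_eq_right.mp h2
  obtain ⟨v, hv⟩ := R.mem_inn_iff.2 ⟨h1, h2⟩
  have hvv : v * v = 1 := R.conj_injective (by rw [map_mul, hv, hα, map_one])
  have hvt : v * t = t * v := by
    rw [← hv, MulAut.conj_apply, mul_inv_eq_iff_eq_mul] at hαt
    exact hαt
  by_cases hv1 : v = 1
  · rw [← hv, hv1, map_one]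
  exfalso
  have e1 : β * α * β⁻¹ = MulAut.conj (β v) := by
    rw [← hv]; exact Cfsg.Agent.GH.L2Aut.conj_conj β v
  have e2 : β⁻¹ * α * β = MulAut.conj (β⁻¹ v) := by
    have := Cfsg.Agent.GH.L2Aut.conj_conj β⁻¹ v
    rwa [inv_inv, hv] at this
  have e3 : v * β v = β⁻¹ v := by
    apply R.conj_injective
    rw [map_mul, ← e1, ← e2, hv]
    exact h
  have hβt' : β⁻¹ t = t := by
    nth_rewrite 1 [← hβt]
    exact MulAut.inv_apply_self _ β t
  have b1 : β v * β v = 1 := by rw [← map_mul, hvv, map_one]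
  have b2 : β⁻¹ v * β⁻¹ v = 1 := by rw [← map_mul, hvv, map_one]
  have hbv1 : β v ≠ 1 := fun e => hv1 ((map_eq_one_iff β β.injective).mp e)
  have hbv2 : β⁻¹ v ≠ 1 := fun e => hv1 ((map_eq_one_iff β⁻¹ (β⁻¹).injective).mp e)
  have hc : v * β v = β v * v := by
    have : v * β v * (v * β v) = 1 := by rw [e3]; exact b2
    calc v * β v = (v * β v)⁻¹ := eq_inv_of_mul_eq_one_left this
      _ = β v * v := by
          rw [mul_inv_rev, inv_eq_of_mul_eq_one_right hvv, inv_eq_of_mul_eq_one_right b1]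
  have hF : Cfsg.Agent.GH.L2Aut.Four v (β v) := by
    refine ⟨hvv, b1, hv1, hbv1, fun e => hbv2 ?_, hc⟩
    rw [← e3, ← e, hvv]
  have hbt : β v * t = t * β v := by
    nth_rewrite 1 [← hβt]; nth_rewrite 2 [← hβt]
    rw [← map_mul, ← map_mul, hvt]
  rcases KSmall.mem_four R hF ht hvt.symm hbt.symm with e | e | e | e
  · exact ht1 e
  · rw [e] at hβt
    exact hF.ne hβt.symm
  · have : v = t := by
      have h5 : β v = β t := by rw [← e, hβt]
      exact β.injective h5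
    rw [this] at hF
    exact hF.ne (by rw [hβt])
  · rw [e3] at e
    have h5 : v = t := by
      have h6 := congrArg β e
      rw [hβt, MulAut.apply_inv_self] at h6
      exact h6.symm
    rw [h5] at hF
    exact hF.ne (by rw [hβt])

theorem cen_le_norm {u : G} (h : u ∈ centralizer (L : Set G)) : u ∈ normalizer (L : Set G) := by
  rw [mem_normalizer_iff]
  intro x
  have hc := mem_cenL.mp h
  constructor
  · intro hx
    rw [← hc x hx, mul_inv_cancel_right]; exact hx
  · intro hx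
    have h1 := hc _ hx
    have h2 : u * x * u⁻¹ = x := by
      have h3 : u * x * u⁻¹ * u = u * (u * x * u⁻¹) := h1
      rw [inv_mul_cancel_right] at h3
      exact (mul_left_cancel h3).symm
    rw [← h2]; exact hx

theorem as_of_act {u : G} (hu : u ∈ normalizer (L : Set G)) {a : L} (h : act L u hu = MulAut.conj a) :
    As L u a := (as_iff hu a.2).mpr h

/-- Big -/
theorem big_of_rep (h11 : 11 ≤ Nat.card F) : Big L (pgl R) := by
  intro a ha ha2 u hu v hv huu hvv huv hs hvc huvc X hXu hXv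
  have T := TT.tfacts R h11
  obtain ⟨hun, hup⟩ := (mem_pgl R).mp hu
  obtain ⟨hvn, hvp⟩ := (mem_pgl R).mp hv
  have ea := (as_iff hun ha).mp hs
  have hβ := act_sq hvn hvv
  have hβ1 := act_ne hvn hvc
  have hfixa : act L v hvn ⟨a, ha⟩ = ⟨a, ha⟩ := by
    rw [act_fix hvn ha]
    have h1 : a * u = u * a := hs.self_comm ha
    -- `v a v⁻¹` acts as `v u v⁻¹ = u`
    have h2 : act L v hvn * act L u hun = act L u hun * act L v hvn := (act_comm' hun hvn huv).symm
    rw [ea] at h2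
    have h3 : MulAut.conj (act L v hvn ⟨a, ha⟩) = MulAut.conj (⟨a, ha⟩ : L) := by
      rw [← Cfsg.Agent.GH.L2Aut.conj_conj, h2, mul_inv_cancel_right]
    exact (act_fix hvn ha).mp (R.conj_injective h3)
  have hX1 : ∀ x : L, x * ⟨a, ha⟩ = ⟨a, ha⟩ * x → x ∈ X.subgroupOf L := by
    intro x hx
    rw [mem_subgroupOf]
    exact hXu x x.2 ((hs.comm_iff x.2).mpr (congrArg Subtype.val hx))
  have hX2 : ∀ x : L, act L v hvn x = x → x ∈ X.subgroupOf L := by
    intro x hx
    rw [mem_subgroupOf]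
    exact hXv x x.2 ((act_fix hvn x.2).mp hx)
  have key : X.subgroupOf L = ⊤ := by
    by_cases hin : ∀ q, act L v hvn ≠ MulAut.conj q
    · exact T.genOI _ hvp hβ hin _ (sub_sq ha ha2) (sub_ne ha ha2) hfixa _ hX2 hX1
    · push Not at hin
      obtain ⟨b, hb⟩ := hin
      have hb1 : b ≠ 1 := by rintro rfl; rw [map_one] at hb; exact hβ1 hb
      have hbb : b * b = 1 := R.conj_injective (by rw [map_mul, ← hb, hβ, map_one])
      have hba : b ≠ ⟨a, ha⟩ := by
        rintro rfl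
        refine huvc ((act_one_iff' (mul_mem hun hvn)).mp ?_)
        rw [← act_mul hun hvn, ea, hb, ← map_mul, hbb, map_one]
      have hab : (⟨a, ha⟩ : L) * b = b * ⟨a, ha⟩ := by
        rw [hb, MulAut.conj_apply, mul_inv_eq_iff_eq_mul] at hfixa
        exact hfixa.symm
      refine T.genII ⟨a, ha⟩ b (sub_sq ha ha2) (sub_ne ha ha2) hbb hb1 hba hab _ hX1 ?_
      intro x hx
      apply hX2
      rw [hb, MulAut.conj_apply, ← hx, mul_inv_cancel_right]
  exact subgroupOf_eq_top.mp key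

theorem med_of_rep (h7 : 7 ≤ Nat.card F) (h9 : Nat.card F ≤ 9) : Med L (pgl R) := by
  intro a ha ha2
  refine ⟨fun x hx hxa => ⟨_, congrArg Subtype.val (KSmall.cent_two R h9 (by omega) (sub_sq ha ha2) (sub_ne ha ha2)
    (x := ⟨x, hx⟩) (Subtype.ext hxa))⟩, ?_⟩
  intro d hd hdd hc
  obtain ⟨hdn, hdp⟩ := (mem_pgl R).mp hd
  rcases KSmall.eq_of_cent R h7 (sub_sq ha ha2) (sub_ne ha ha2) hdp (act_sq hdn hdd) (by
    intro x hx
    exact (act_fix hdn x.2).mpr (hc x x.2 (congrArg Subtype.val hx))) with e | e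
  · exact Or.inl ((act_one_iff' hdn).mp e)
  · exact Or.inr ((as_iff hdn ha).mpr e)

theorem fiv_of_rep (h5 : Nat.card F = 5) : Fiv L (pgl R) := by
  intro a ha ha2
  have hsq : ∀ x ∈ L, x * a = a * x → x * x = 1 := fun x hx hxa =>
    congrArg Subtype.val (KSmall.cent_five R h5 (sub_sq ha ha2) (sub_ne ha ha2) (x := ⟨x, hx⟩) (Subtype.ext hxa))
  obtain ⟨b, y, hF, h3, h4, h6, h7⟩ := KSmall.exists_three R (sub_sq ha ha2) (sub_ne ha ha2)
  refine ⟨hsq, ⟨y, y.2, congrArg Subtype.val h3, ?_, ?_⟩, ?_⟩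
  · rw [← h4] at h6
    exact congrArg Subtype.val h6
  · intro x hx hxa
    have hxb : (⟨x, hx⟩ : L) * b = b * ⟨x, hx⟩ := by
      have e1 : (x * b) * (x * b) = 1 := hsq _ (mul_mem hx b.2) (by
        have := congrArg Subtype.val hF.comm
        calc x * b * a = x * (b * a) := by group
          _ = x * (a * b) := by rw [show b * a = a * (b : G) from this.symm]
          _ = a * (x * b) := by rw [← mul_assoc, hxa, mul_assoc])
      have e2 := hsq x hx hxa
      have e3 : (b : G) * b = 1 := congrArg Subtype.val hF.bb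
      apply Subtype.ext
      calc x * b = (x * b)⁻¹ := eq_inv_of_mul_eq_one_left e1
        _ = b * x := by rw [mul_inv_rev, inv_eq_of_mul_eq_one_right e2, inv_eq_of_mul_eq_one_right e3]
    rcases KSmall.mem_four R hF (Subtype.ext (hsq x hx hxa)) (Subtype.ext hxa) hxb with e | e | e | e
    · exact Or.inl (congrArg Subtype.val e)
    · exact Or.inr (Or.inl (congrArg Subtype.val e))
    · rw [← h4] at e
      exact Or.inr (Or.inr (Or.inl (congrArg Subtype.val e)))
    · rw [h6] at e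
      exact Or.inr (Or.inr (Or.inr (congrArg Subtype.val e)))
  · intro d hd hdd hc
    obtain ⟨hdn, hdp⟩ := (mem_pgl R).mp hd
    have hca := hc a ha rfl
    have hcb := hc b b.2 (congrArg Subtype.val hF.comm.symm)
    obtain ⟨u, hu, he⟩ := h7 _ hdp ((act_fix hdn ha).mpr hca) ((act_fix hdn b.2).mpr hcb)
    refine ⟨u, u.2, ?_, as_of_act hdn he⟩
    rcases hu with rfl | rfl | rfl | rfl
    · simp
    · rfl
    · exact congrArg Subtype.val hF.comm.symm
    · have : (⟨a, ha⟩ : L) * b * ⟨a, ha⟩ = ⟨a, ha⟩ * (⟨a, ha⟩ * b) := by rw [mul_assoc, ← hF.comm]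
      exact congrArg Subtype.val this

include R in
theorem perfect_of_rep (h5 : 5 ≤ Nat.card F) : ⁅L, L⁆ = L := by
  have := TT.PGLSolv.isSimple R (by omega)
  have h1 := TT.PGLSolv.top_le_commutator (TT.PGLSolv.nab R)
  have h2 : (⁅(⊤ : Subgroup L), (⊤ : Subgroup L)⁆).map L.subtype = (⊤ : Subgroup L).map L.subtype :=
    congrArg _ (le_antisymm le_top h1)
  rwa [map_commutator, ← MonoidHom.range_eq_map, L.range_subtype] at h2

/-- **`LF` for `L ≅ L₂(q)`, `q ≥ 5` odd** -/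
theorem LF.of_rep (h5 : 5 ≤ Nat.card F) : LF L (pgl R) where
  pgle := by rintro _ ⟨u, -, rfl⟩; exact u.2
  le := fun l hl => (mem_pgl R).mpr ⟨le_normalizer hl, by rw [act_of_mem hl]; exact R.conj_mem_PGL _⟩
  cenle := fun u hu => (mem_pgl R).mpr ⟨cen_le_norm hu, by rw [(act_one_iff' _).mpr hu]; exact one_mem _⟩
  fld := by
    intro u hu h2 hn
    have hα : act L u hu ∉ R.PGL := fun h => hn ((mem_pgl R).mpr ⟨hu, h⟩)
    obtain ⟨a, y, h3, h4, h6, h7, h8⟩ := KSmall.fld_a4 R (act_sq hu h2) hα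
    exact ⟨a, a.2, y, y.2, ord_sub h3 h4, (act_fix hu a.2).mp h6, (act_fix hu y.2).mp h7, congrArg Subtype.val h8⟩
  noA4 := by
    intro t ht ht2 v hv h hh hvv hvt hht hr
    refine (act_one_iff' hv).mp (noA4_aut R (sub_sq ht ht2) (sub_ne ht ht2) (act_sq hv hvv)
      ((act_fix hv ht).mpr hvt.symm) (β := act L h hh) ((act_fix hh ht).mpr hht.symm) ?_)
    rw [← act_inv, act_mul, act_mul, act_mul, act_mul, act_mul]
    exact act_congr _ _ hr
  idx := by
    intro u hu v hv hnu hnv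
    obtain ⟨hun, hup⟩ := (mem_pgl R).mp hu
    obtain ⟨hvn, hvp⟩ := (mem_pgl R).mp hv
    have key : ∀ {w : G} (hw : w ∈ normalizer (L : Set G)), ¬ Inn L w →
        act L w hw ∉ (MulAut.conj : L →* MulAut L).range := by
      rintro w hw h ⟨a, ha⟩
      exact h ((inn_iff hw).mpr ⟨a, ha.symm⟩)
    obtain ⟨q, hq⟩ := R.mul_mem_inn hup (key hun hnu) hvp (key hvn hnv)
    exact (inn_iff (mul_mem hun hvn)).mpr ⟨q, by rw [← act_mul hun hvn, hq]⟩
  four := by
    intro t ht ht2 v hv w hw hvv hww hvw hvt hwt hnv hnw hnvw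
    obtain ⟨hvn, hvp⟩ := (mem_pgl R).mp hv
    obtain ⟨hwn, hwp⟩ := (mem_pgl R).mp hw
    have htn := le_normalizer ht
    rcases Res.EFacts.four_cens R (R.conj_mem_PGL ⟨t, ht⟩) (KSmall.conj_ne R (sub_ne ht ht2))
      (KSmall.conj_sq (sub_sq ht ht2)) hvp (act_ne hvn hnv) (act_sq hvn hvv) hwp (act_ne hwn hnw) (act_sq hwn hww)
      (act_comm' hvn hwn hvw) (by rw [act_mul hvn hwn]; exact act_ne _ hnvw)
      (by rw [← act_of_mem ht]; exact act_comm' hvn htn hvt)
      (by rw [← act_of_mem ht]; exact act_comm' hwn htn hwt) with e | e | e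
    · exact Or.inl ((as_iff hvn ht).mpr e)
    · exact Or.inr (Or.inl ((as_iff hwn ht).mpr e))
    · rw [act_mul hvn hwn] at e
      exact Or.inr (Or.inr ((as_iff (mul_mem hvn hwn) ht).mpr e))
  solv := by
    intro t ht ht2 D hD hDn hDt d hd
    obtain ⟨J, hJ, hJ1, hJ2⟩ := exists_image hD hDn
    have h1 : J = ⊥ := by
      refine TT.PGLSolv.solv R (R.conj_mem_PGL ⟨t, ht⟩) (KSmall.conj_sq (sub_sq ht ht2))
        (KSmall.conj_ne R (sub_ne ht ht2)) hJ ?_
      intro β hβ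
      obtain ⟨d, hd, hdn, rfl⟩ := hJ1 β hβ
      rw [← act_of_mem ht]
      exact act_comm' hdn (le_normalizer ht) (hDt d hd)
    have h2 := hJ2 d hd (hDn hd)
    rw [h1, mem_bot] at h2
    exact (act_one_iff' _).mp h2
  perf := by
    intro D hD hDn d hd
    obtain ⟨J, hJ, -, hJ2⟩ := exists_image hD hDn
    have h1 := hJ2 d hd (hDn hd)
    have h2 : R.fld (act L d (hDn hd)) = 1 := R.mem_PGL_iff_fld.1 (TT.PGLSolv.perfect_le_PGL R hJ h1)
    have h3 : J ≤ R.o1.ker := by
      refine hJ.trans ?_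
      rw [commutator_le]
      intro x _ y _
      rw [MonoidHom.mem_ker, map_commutatorElement, commutatorElement_eq_one_iff_mul_comm]
      exact mul_comm _ _
    obtain ⟨a, ha⟩ := R.mem_inn_iff.2 ⟨h2, h3 h1⟩
    exact (inn_iff (hDn hd)).mpr ⟨a, ha.symm⟩
  fix := by
    intro u hu h2
    have := R.finite
    obtain ⟨z, h3, h4, h6⟩ := TT.PGLSolv.fixed (TT.PGLSolv.two_dvd R) (act_sq hu h2)
    exact ⟨z, z.2, ord_sub h3 h4, (act_fix hu z.2).mp h6⟩
  partner := by
    intro a ha ha2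
    obtain ⟨b, h1, h2, h3, h4⟩ := TT.PGLSolv.four R (sub_sq ha ha2) (sub_ne ha ha2)
    exact ⟨b, b.2, ord_sub h1 h2, fun e => h3 (Subtype.ext e), congrArg Subtype.val h4⟩
  perfect := perfect_of_rep R h5
  conj2 := by
    intro t ht u hu ht2 hu2
    obtain ⟨g, hg⟩ := R.inv_conj (sub_sq ht ht2) (sub_ne ht ht2) (sub_sq hu hu2) (sub_ne hu hu2)
    exact ⟨g, g.2, congrArg Subtype.val hg⟩
  simple := fun N h1 h2 => Res.EFacts.simp R (by omega) N h1 h2
  size := by
    have hF := Cfsg.Agent.OddCyclic.PGLTorus.odd_card R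
    by_cases h11 : 11 ≤ Nat.card F
    · exact Or.inl (big_of_rep R h11)
    · by_cases h7 : 7 ≤ Nat.card F
      · exact Or.inr (Or.inl (med_of_rep R h7 (by omega)))
      · exact Or.inr (Or.inr (fiv_of_rep R (by omega)))

end Cfsg.Agent.UGT.Blk
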