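import Cfsg.Agent.UGT.Blk.Top
import Cfsg.Agent.UGT.BL.Close
import Cfsg.Agent.UGT.Res.TwoSup
import Cfsg.Agent.UGT.Res.HonW

/-!
# The commuting case of the residual world is impossible

`X ≤ G` simple (of index at most two, or containing the components in question).

* `false_of_rel`, `false_of_pair`: no pair `L ~ P` in `X` with `MemB L`, `MemB P`.
* `false_of_twoPair`: no `TwoPair.Pair Q x e N N'`; `eq_of_triples`: at most one triple `(x, a, L)` of type `Q` for each
  `(x, a)`, given `TwoPair.World G Q`.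
* `one_cfx`, `one_W`: `Hon.One G`.
* `np`: `HonW.NP G`.
-/

set_option autoImplicit false

open Cfsg Subgroup
open Cfsg.Agent.SignalizersComponents
open Cfsg.Agent.SignalizersComponents.IntrinsicBasic
open Cfsg.Agent.Intrinsic.Basic
open Cfsg.Agent.UGT.Triple Cfsg.Agent.UGT.TriBase
open Cfsg.Agent.UGT.Res.KFacts (Pgl)
open Cfsg.Agent.UGT.Blk.Top

namespace Cfsg.Agent.UGT.Blk.TopEnd

universe u

variable {G : Type u} [Group G] [Finite G]

/-- no system with two partners inside a simple subgroup -/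
theorem false_of_sys {X : Subgroup G} (hX : IsSimpleGroup ↥X) {SS : Set (Subgroup G)} (S : BL.Sys SS)
    {A B : Subgroup G} (hA : A ∈ SS) (hB : B ∈ SS) (hP : BL.P A B) (hAX : A ≤ X) (hBX : B ≤ X) : False :=
  BL.false_of' (fun _ _ _ _ _ _ h => h.false_of) (Nat.card ↥X) ↥X _ le_rfl (S.sub hA hB hP hAX hBX)

omit [Finite G] in
/-- a simple group of index at most two contains the simple components -/
theorem le_of_index {X : Subgroup G} (h2 : ∀ {g h : G}, g ∉ X → h ∉ X → g * h ∈ X)
    {L : Subgroup G} (h : MemB L) : L ≤ X := by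
  obtain ⟨x, a, T, -⟩ := h
  exact le_of_two T.comp.perfect fun x _ y _ hx hy => h2 hx hy

section

variable (H : Pgl G) {X : Subgroup G} (hX : IsSimpleGroup ↥X)

include H hX

theorem false_of_rel {L P : Subgroup G} (h : Rel ⊤ L P) (hL : MemB L) (hP : MemB P) (hLX : L ≤ X)
    (hPX : P ≤ X) : False :=
  false_of_sys hX (sys_of_pair H h hL hP) ⟨1, Or.inl (cj_one L).symm⟩ ⟨1, Or.inr (cj_one P).symm⟩
    (BL.P.of_rel h) hLX hPX

/-- components of the centralizers of all involutions of each other -/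
theorem false_of_pair {L P : Subgroup G} (hL : MemB L) (hP : MemB P) (hLX : L ≤ X) (hPX : P ≤ X) (hne : L ≠ P)
    (hc : ∀ n ∈ L, ∀ n' ∈ P, n * n' = n' * n)
    (h1 : ∀ t ∈ P, orderOf t = 2 → IsComp (centralizer ({t} : Set G)) L)
    (h2 : ∀ t ∈ L, orderOf t = 2 → IsComp (centralizer ({t} : Set G)) P) : False :=
  false_of_rel H hX (Rel.mk' hne hc (fun t ht o => cmp_of_comp (h1 t ht o)) fun t ht o => cmp_of_comp (h2 t ht o))
    hL hP hLX hPX

variable (h2 : ∀ {g h : G}, g ∉ X → h ∉ X → g * h ∈ X)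

include h2

/-- **no `~`-pair** -/
theorem false_of_twoPair {Q : Subgroup G → Prop} {x e : G} {N N' : Subgroup G}
    (P : Res.TwoPair.Pair Q x e N N') : False := by
  have m1 := memB_of_pair H P.T.toIsTriple P.T'.toIsTriple P.bot P.bot' P.comm
  have m2 := memB_of_pair H P.T'.toIsTriple P.T.toIsTriple P.bot' P.bot fun n hn n' hn' => (P.comm n' hn' n hn).symm
  exact false_of_pair H hX m1 m2 (le_of_index h2 m1) (le_of_index h2 m2) P.ne P.comm P.left P.right

/-- **at most one `L` of type `Q` for each pair `(x, a)`** -/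
theorem eq_of_triples {Q : Subgroup G → Prop} (W : Res.TwoPair.World G Q) {x a : G} {L₁ L₂ : Subgroup G}
    (T₁ : Res.TwoPair.Tri Q x a L₁) (T₂ : Res.TwoPair.Tri Q x a L₂) : L₁ = L₂ := by
  by_contra hne
  obtain ⟨x', e, N, N', P⟩ := Res.TwoPair.exists_pair W T₁ T₂ hne
  exact false_of_twoPair H hX h2 P

omit h2 in
/-- **at most one `L` for each pair `(x, a)`**, `X` core-free -/
theorem one_cfx (hB : ∀ v : G, orderOf v = 2 → HasBProperty ↥(centralizer ({v} : Set G))) (C : Res.Hon.CFX X) :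
    Res.Hon.One G := fun T T' =>
  eq_of_triples H hX C.mul (Res.TwoSup.world_cfx H hB C) (Res.TwoSup.tri T) (Res.TwoSup.tri T')

/-- **at most one `L` for each pair `(x, a)`**, `W = 1` -/
theorem one_W (hB : ∀ v : G, orderOf v = 2 → HasBProperty ↥(centralizer ({v} : Set G)))
    (hW : Res.TwoSup.WOne G) : Res.Hon.One G := fun T T' =>
  eq_of_triples H hX h2 (Res.TwoSup.world_W H hB hW) (Res.TwoSup.tri T) (Res.TwoSup.tri T')

omit H hX h2 in
theorem memB_of_honW {x : G} {L : Subgroup G} (h : Res.HonW.HonW x L) : MemB L := by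
  obtain ⟨t, u, ht, hu, hne, hc⟩ := h.four
  exact ⟨x, t, h.good ht, h.cb, t, u, ht, hu, hne, hc⟩

/-- **no commuting honest components in the sense of `HonW`** -/
theorem np : Res.HonW.NP G := by
  intro x x' L P hL hP hne hc h1 h1'
  have m1 := memB_of_honW hL
  have m2 := memB_of_honW hP
  exact false_of_pair H hX m1 m2 (le_of_index h2 m1) (le_of_index h2 m2) hne
    (fun n hn n' hn' => (mem_centralizer_iff.mp (hc hn) n' hn').symm) h1 h1'

end

omit [Finite G] in
/-- `G` simple -/
theorem isSimple_top [IsSimpleGroup G] : IsSimpleGroup ↥(⊤ : Subgroup G) :=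
  (Subgroup.topEquiv (G := G)).isSimpleGroup

end Cfsg.Agent.UGT.Blk.TopEnd
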