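import Cfsg.Agent.UGT.Blk.CmpTool
import Cfsg.Agent.UGT.TriBase
import Cfsg.Agent.UGT.Res.Torus

/-!
# A bad involution normalises no commuting conjugate

`L` simple with one class of involutions, `x ∈ N(L)` a 2-element such that `L` is a component of `C(t)` for all
involutions `t ∈ C(L) ∩ C(x)`.

* `Hyp.rel_of`: if `[L, L^h] = 1`, `x ∈ N(L^h)` and `x^h ∈ N(L)`, then `L ~ L^h`.
* `Hyp.twin`: if `L ~ L^g` for no `g`, then `x` normalises no conjugate of `L` commuting with `L`.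
-/

set_option autoImplicit false

open Cfsg Subgroup
open Cfsg.Agent.SignalizersComponents
open Cfsg.Agent.SignalizersComponents.IntrinsicBasic
open Cfsg.Agent.Intrinsic.Basic Cfsg.Agent.Intrinsic.Cen Cfsg.Agent.Intrinsic.Diag
open Cfsg.Agent.McLLyComp.Act
open Cfsg.Agent.UGT.TriBase

namespace Cfsg.Agent.UGT.Blk.Twin

variable {G : Type*} [Group G]

/-- The hypotheses. -/
structure Hyp (L : Subgroup G) (x : G) : Prop where
  sp : SP L
  even : ∃ t ∈ L, orderOf t = 2
  conj2 : ∀ t ∈ L, ∀ u ∈ L, orderOf t = 2 → orderOf u = 2 → ∃ l ∈ L, l * t * l⁻¹ = u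
  two : IsPGroup 2 ↥(zpowers x)
  mem : x ∈ normalizer (L : Set G)
  cmp : ∀ t ∈ centralizer (L : Set G), orderOf t = 2 → t * x = x * t → Cmp (centralizer ({t} : Set G)) L

theorem order_conj (g t : G) : orderOf (g * t * g⁻¹) = orderOf t := (MulAut.conj g).orderOf_eq t

theorem order_conj' (g t : G) : orderOf (g⁻¹ * t * g) = orderOf t := by
  have h := order_conj g⁻¹ t
  rwa [inv_inv] at h

namespace Hyp

variable {L : Subgroup G} {x : G}

theorem cj (H : Hyp L x) (g : G) : Hyp (IntrinsicBasic.cj g L) (g * x * g⁻¹) where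
  sp := H.sp.cj g
  even := by
    obtain ⟨t, ht, h2⟩ := H.even
    refine ⟨g * t * g⁻¹, mem_cj.mpr ?_, by rw [order_conj, h2]⟩
    have : g⁻¹ * (g * t * g⁻¹) * g = t := by group
    rwa [this]
  conj2 := by
    intro t ht u hu h2 h3
    obtain ⟨l, hl, h4⟩ := H.conj2 _ (mem_cj.mp ht) _ (mem_cj.mp hu) (by rw [order_conj', h2])
      (by rw [order_conj', h3])
    refine ⟨g * l * g⁻¹, mem_cj.mpr ?_, ?_⟩
    · have : g⁻¹ * (g * l * g⁻¹) * g = l := by group
      rwa [this]
    · calc g * l * g⁻¹ * t * (g * l * g⁻¹)⁻¹ = g * (l * (g⁻¹ * t * g) * l⁻¹) * g⁻¹ := by group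
        _ = g * (g⁻¹ * u * g) * g⁻¹ := by rw [h4]
        _ = u := by group
  two := by
    have h1 : zpowers (g * x * g⁻¹) = (zpowers x).map (MulAut.conj g).toMonoidHom := by
      rw [MonoidHom.map_zpowers]
      rfl
    rw [h1]
    exact H.two.map _
  mem := by
    rw [mem_normalizer_iff]
    intro l
    rw [mem_cj, mem_cj]
    have h1 := mem_normalizer_iff.mp H.mem (g⁻¹ * l * g)
    have h2 : g⁻¹ * (g * x * g⁻¹ * l * (g * x * g⁻¹)⁻¹) * g = x * (g⁻¹ * l * g) * x⁻¹ := by group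
    rw [h2]
    exact h1
  cmp := by
    intro t ht h2 h3
    have h4 : g⁻¹ * t * g ∈ centralizer (L : Set G) := by
      rw [mem_centralizer_iff]
      intro l hl
      have h5 := mem_centralizer_iff.mp ht (g * l * g⁻¹) (mem_cj.mpr (by
        have : g⁻¹ * (g * l * g⁻¹) * g = l := by group
        rwa [this]))
      calc l * (g⁻¹ * t * g) = g⁻¹ * (g * l * g⁻¹ * t) * g := by group
        _ = g⁻¹ * (t * (g * l * g⁻¹)) * g := by rw [h5]
        _ = g⁻¹ * t * g * l := by group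
    have h5 := H.cmp _ h4 (by rw [order_conj', h2]) (by
      calc g⁻¹ * t * g * x = g⁻¹ * (t * (g * x * g⁻¹)) * g := by group
        _ = g⁻¹ * (g * x * g⁻¹ * t) * g := by rw [h3]
        _ = x * (g⁻¹ * t * g) := by group)
    have h6 := h5.cj g
    rw [cj_centralizer] at h6
    have h7 : g * (g⁻¹ * t * g) * g⁻¹ = t := by group
    rwa [h7] at h6

variable [Finite G]

/-- `x` commutes with an involution of a subgroup of even order which it normalises -/
theorem exists_fix (hx : IsPGroup 2 ↥(zpowers x)) {J : Subgroup G} (hxJ : x ∈ normalizer (J : Set G))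
    (hJ : ∃ t ∈ J, orderOf t = 2) : ∃ t ∈ J, orderOf t = 2 ∧ t * x = x * t := by
  obtain ⟨B, hB, hxB⟩ := exists_isSyl (E := normalizer (J : Set G)) hx (zpowers_le.mpr hxJ)
  have h1 := hB.inf (L := J) le_normalizer le_rfl
  obtain ⟨t, ht, h2⟩ := hJ
  have hne : B ⊓ J ≠ ⊥ := by
    intro h0
    have h3 : IsPGroup 2 ↥(zpowers t) := by
      rw [IsPGroup.iff_card]
      exact ⟨1, by rw [Nat.card_zpowers, h2, pow_one]⟩
    obtain ⟨g, hg, h4⟩ := h1.conj h3 (zpowers_le.mpr ht)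
    rw [h0, cj_def, Subgroup.map_bot, zpowers_le, mem_bot] at h4
    rw [h4, orderOf_one] at h2
    omega
  obtain ⟨e, he, h3, h4⟩ := TriBase.exists_central hB.two inf_le_left (by
    intro b hb
    apply mem_normalizer_iff_cj.mpr
    rw [cj_inf, mem_normalizer_iff_cj.mp (hB.le hb), cj_eq_self_of_mem hb]) hne
  exact ⟨e, he.2, h3, (h4 x (hxB (mem_zpowers x))).symm⟩

omit [Finite G] in
/-- if `L` is a component of `C(t₁)`, then of `C(t)` for all `t ∈ J` -/
theorem cmp_all {J : Subgroup G} (hc : Comm L J)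
    (conj2 : ∀ t ∈ J, ∀ u ∈ J, orderOf t = 2 → orderOf u = 2 → ∃ l ∈ J, l * t * l⁻¹ = u) {t₁ : G}
    (ht : t₁ ∈ J) (h2 : orderOf t₁ = 2) (h : Cmp (centralizer ({t₁} : Set G)) L) :
    ∀ t ∈ J, orderOf t = 2 → Cmp (centralizer ({t} : Set G)) L := by
  intro t htJ ht2
  obtain ⟨l, hl, h3⟩ := conj2 t₁ ht t htJ h2 ht2
  have h4 := h.cj l
  rw [cj_centralizer, h3] at h4
  have h5 : IntrinsicBasic.cj l L = L := by
    apply mem_normalizer_iff_cj.mp
    apply centralizer_le_normalizer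
    rw [mem_centralizer_iff]
    intro m hm
    exact hc m hm l hl
  rwa [h5] at h4

/-- the symmetric case -/
theorem rel_of (H : Hyp L x) {h : G} (hc : Comm L (IntrinsicBasic.cj h L))
    (h1 : x ∈ normalizer (IntrinsicBasic.cj h L : Set G)) (h2 : h * x * h⁻¹ ∈ normalizer (L : Set G)) :
    Rel ⊤ L (IntrinsicBasic.cj h L) := by
  have H' := H.cj h
  have key : ∀ {A B : Subgroup G} {y : G}, Hyp A y → Comm A B →
      y ∈ normalizer (B : Set G) → (∃ t ∈ B, orderOf t = 2) →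
      (∀ t ∈ B, ∀ u ∈ B, orderOf t = 2 → orderOf u = 2 → ∃ l ∈ B, l * t * l⁻¹ = u) →
      ∀ t ∈ B, orderOf t = 2 → Cmp (centralizer ({t} : Set G)) A := by
    intro A B y HA hAB hy hev hcj
    obtain ⟨t, ht, h3, h4⟩ := exists_fix HA.two hy hev
    exact cmp_all hAB hcj ht h3 (HA.cmp t (mem_centralizer_iff.mpr fun a ha => hAB a ha t ht) h3 h4)
  refine ⟨le_top, le_top, fun he => ?_, hc, ?_, ?_⟩
  · rw [← he] at hc
    exact H.sp.not_comm_self hc
  · intro t ht ht2
    rw [top_inf_eq]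
    exact key H hc h1 H'.even H'.conj2 t ht ht2
  · intro t ht ht2
    rw [top_inf_eq]
    exact key H' (Comm.symm hc) h2 H.even H.conj2 t ht ht2

/-- **(9b)**: `x` normalises no conjugate of `L` commuting with `L` -/
theorem false_of (H : Hyp L x) (nop : ∀ g, ¬ Rel ⊤ L (IntrinsicBasic.cj g L)) {g : G}
    (hc : Comm L (IntrinsicBasic.cj g L)) (hx : x ∈ normalizer (IntrinsicBasic.cj g L : Set G)) : False := by
  have H₁ := H.cj g
  obtain ⟨L₁, hL₁⟩ : ∃ L₁, L₁ = IntrinsicBasic.cj g L := ⟨_, rfl⟩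
  rw [← hL₁] at hc hx H₁
  obtain ⟨D, hD⟩ : ∃ D, D = normalizer (L : Set G) ⊓ normalizer (L₁ : Set G) := ⟨_, rfl⟩
  have hxD : x ∈ D := by
    rw [hD]
    exact ⟨H.mem, hx⟩
  have hL₁D : L₁ ≤ D := by
    rw [hD]
    refine le_inf (fun l hl => ?_) le_normalizer
    apply centralizer_le_normalizer
    exact mem_centralizer_iff.mpr fun a ha => hc a ha l hl
  obtain ⟨B, hB, hxB⟩ := exists_isSyl (E := D) H.two (zpowers_le.mpr hxD)
  rw [zpowers_le] at hxB
  have hBN₁ : B ≤ normalizer (L₁ : Set G) := hB.le.trans (by rw [hD]; exact inf_le_right)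
  have hBN : B ≤ normalizer (L : Set G) := hB.le.trans (by rw [hD]; exact inf_le_left)
  obtain ⟨P, hP, hBP⟩ := exists_isSyl (E := normalizer (L₁ : Set G)) hB.two hBN₁
  by_cases hPB : P ≤ B
  · -- `B` is a Sylow subgroup of `N(L₁)`
    have hPe : P = B := le_antisymm hPB hBP
    rw [hPe] at hP
    obtain ⟨n, hn, h1⟩ := hP.conj H₁.two (zpowers_le.mpr H₁.mem)
    rw [zpowers_le, mem_cj] at h1
    have h2 : IntrinsicBasic.cj (n⁻¹ * g) L = L₁ := by
      rw [cj_mul, ← hL₁]
      exact mem_normalizer_iff_cj.mp (inv_mem hn)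
    have h3 : n⁻¹ * g * x * (n⁻¹ * g)⁻¹ = n⁻¹ * (g * x * g⁻¹) * n := by group
    apply nop (n⁻¹ * g)
    apply H.rel_of
    · rwa [h2]
    · rwa [h2]
    · rw [h3]
      exact hBN h1
  · obtain ⟨h, hhP, hhB, hhN⟩ := Res.Torus.exists_norm hP.two hBP hPB
    have hhL : h ∉ normalizer (L : Set G) := by
      intro hh
      apply hhB
      have h1 : IsPGroup 2 ↥(P ⊓ D) := hP.two.to_le inf_le_left
      have h2 := hB.max _ h1 inf_le_right (le_inf hBP hB.le)
      rw [← h2]
      refine ⟨hhP, ?_⟩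
      rw [hD]
      exact ⟨hh, hP.le hhP⟩
    -- the involution in `Z(B) ∩ L₁`
    have hsyl := hB.inf (L := L₁) hL₁D (by rw [hD]; exact inf_le_right)
    have hne : B ⊓ L₁ ≠ ⊥ := by
      intro h0
      obtain ⟨t, ht, h2⟩ := H₁.even
      have h3 : IsPGroup 2 ↥(zpowers t) := by
        rw [IsPGroup.iff_card]
        exact ⟨1, by rw [Nat.card_zpowers, h2, pow_one]⟩
      obtain ⟨g, hg, h4⟩ := hsyl.conj h3 (zpowers_le.mpr ht)
      rw [h0, cj_def, Subgroup.map_bot, zpowers_le, mem_bot] at h4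
      rw [h4, orderOf_one] at h2
      omega
    obtain ⟨t, ht, ht2, hct⟩ := TriBase.exists_central hB.two inf_le_left (by
      intro b hb
      apply mem_normalizer_iff_cj.mpr
      rw [cj_inf, mem_normalizer_iff_cj.mp (hBN₁ hb), cj_eq_self_of_mem hb]) hne
    have hB' : IntrinsicBasic.cj h B = B := mem_normalizer_iff_cj.mp hhN
    have hxh : h * x * h⁻¹ ∈ B := by
      rw [← hB', mem_cj]
      have : h⁻¹ * (h * x * h⁻¹) * h = x := by group
      rwa [this]
    have h1 := H.cmp t (mem_centralizer_iff.mpr fun a ha => hc a ha t ht.2) ht2 (hct x hxB).symm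
    have hc2 : Comm (IntrinsicBasic.cj h L) L₁ := by
      have h2 := comm_cj hc h
      rwa [mem_normalizer_iff_cj.mp (hP.le hhP)] at h2
    have h2 := (H.cj h).cmp t (mem_centralizer_iff.mpr fun a ha => hc2 a ha t ht.2) ht2
      (hct _ hxh).symm
    have h3 : L ≠ IntrinsicBasic.cj h L := fun h4 => hhL (mem_normalizer_iff_cj.mpr h4.symm)
    apply nop h
    apply H.rel_of (h1.comm_of_ne h2 H.sp (H.sp.cj h) h3)
    · have h4 : h⁻¹ * x * h ∈ B := by
        have h5 := hxB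
        rw [← hB', mem_cj] at h5
        exact h5
      have h5 := hBN h4
      rw [mem_normalizer_iff_cj] at h5 ⊢
      rw [← cj_mul, show x * h = h * (h⁻¹ * x * h) by group, cj_mul, h5]
    · exact hBN hxh

/-- **(9b)** in the form of the field `twin` -/
theorem twin (H : Hyp L x) (nop : ∀ g, ¬ Rel ⊤ L (IntrinsicBasic.cj g L)) (g : G)
    (hx : g⁻¹ * x * g ∈ normalizer (L : Set G))
    (hc : ∀ l ∈ L, g * l * g⁻¹ ∈ centralizer (L : Set G)) : False := by
  apply H.false_of nop (g := g)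
  · intro a ha b hb
    have h1 := mem_centralizer_iff.mp (hc _ (mem_cj.mp hb)) a ha
    have h2 : g * (g⁻¹ * b * g) * g⁻¹ = b := by group
    rwa [h2] at h1
  · rw [mem_normalizer_iff_cj] at hx ⊢
    rw [← cj_mul, show x * g = g * (g⁻¹ * x * g) by group, cj_mul, hx]

end Hyp

end Cfsg.Agent.UGT.Blk.Twin
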