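import Cfsg.Agent.UGT.Blk.Defs
import Cfsg.Agent.SignalizersComponents.FStarNormal
import Cfsg.Agent.SignalizersComponents.Components
import Cfsg.Agent.Lib.GenFitting

/-!
# Subnormal simple subgroups: tools

`SP L`: `L` is simple and perfect.  `Cmp H L`: `L` is subnormal in `H`.

* `Cmp.comm_of_ne`: two different subnormal simple subgroups commute.
* `Cmp.of_cent` (LEMMA S): `M` simple subnormal in `Y`, `τ ∈ M`, `P` simple subnormal in `C_Y(τ)`, perfect subgroups of
  `N(M)` commuting with `τ` centralise `M`; then `P` is subnormal in `Y`.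
-/

set_option autoImplicit false

open Subgroup Cfsg
open Cfsg.Agent.SignalizersComponents
open Cfsg.Agent.SignalizersComponents.IntrinsicBasic
open Cfsg.Agent.SignalizersComponents.Components

namespace Cfsg.Agent.UGT.Blk

variable {G : Type*} [Group G]

/-- simple and perfect -/
structure SP (L : Subgroup G) : Prop where
  simple : IsSimpleGroup ↥L
  perfect : ⁅L, L⁆ = L

theorem SP.ne_bot {L : Subgroup G} (h : SP L) : L ≠ ⊥ := by
  rintro rfl
  have := h.simple.toNontrivial
  exact not_nontrivial _ this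

theorem Comm.symm {L P : Subgroup G} (h : Comm L P) : Comm P L := fun a ha b hb => (h b hb a ha).symm

theorem comm_iff_le_centralizer {L P : Subgroup G} : Comm L P ↔ L ≤ centralizer (P : Set G) := by
  constructor
  · intro h x hx
    rw [mem_centralizer_iff]
    intro p hp
    exact (h x hx p hp).symm
  · intro h a ha b hb
    exact (mem_centralizer_iff.mp (h ha) b hb).symm

theorem Comm.mono {L P L' P' : Subgroup G} (h : Comm L P) (h1 : L' ≤ L) (h2 : P' ≤ P) : Comm L' P' :=
  fun a ha b hb => h a (h1 ha) b (h2 hb)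

theorem comm_cj {L P : Subgroup G} (h : Comm L P) (g : G) : Comm (cj g L) (cj g P) := by
  intro a ha b hb
  have h1 := h _ (mem_cj.mp ha) _ (mem_cj.mp hb)
  have h2 : g * (g⁻¹ * a * g * (g⁻¹ * b * g)) * g⁻¹ = g * (g⁻¹ * b * g * (g⁻¹ * a * g)) * g⁻¹ := by rw [h1]
  calc a * b = g * (g⁻¹ * a * g * (g⁻¹ * b * g)) * g⁻¹ := by group
    _ = g * (g⁻¹ * b * g * (g⁻¹ * a * g)) * g⁻¹ := h2
    _ = b * a := by group

theorem SP.not_comm_self {L : Subgroup G} (h : SP L) : ¬ Comm L L := by
  intro hc
  have h1 : ⁅L, L⁆ = ⊥ := commutator_eq_bot_iff_le_centralizer.mpr (comm_iff_le_centralizer.mp hc)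
  rw [h.perfect] at h1
  exact h.ne_bot h1

/-- the identity is the only element of a simple perfect group commuting with the group -/
theorem SP.eq_one_of_comm {L : Subgroup G} (h : SP L) {z : G} (hz : z ∈ L) (hc : ∀ x ∈ L, x * z = z * x) :
    z = 1 := by
  have := h.simple
  rcases (Subgroup.instNormalCenter (G := ↥L)).eq_bot_or_eq_top with h1 | h1
  · have h2 : (⟨z, hz⟩ : ↥L) ∈ center ↥L := by
      rw [mem_center_iff]
      intro x
      exact Subtype.ext (hc x x.2)
    rw [h1, mem_bot] at h2
    exact congrArg Subtype.val h2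
  · exfalso
    apply h.not_comm_self
    intro a ha b hb
    have h2 : (⟨b, hb⟩ : ↥L) ∈ center ↥L := by rw [h1]; exact mem_top _
    exact congrArg Subtype.val (mem_center_iff.mp h2 ⟨a, ha⟩)

theorem SP.isQuasisimple {L : Subgroup G} (h : SP L) : IsQuasisimple ↥L := by
  have hs := h.simple
  have hc : center ↥L = ⊥ := by
    rw [eq_bot_iff]
    intro z hz
    rw [mem_bot]
    apply Subtype.ext
    exact h.eq_one_of_comm z.2 fun x hx => congrArg Subtype.val (mem_center_iff.mp hz ⟨x, hx⟩)
  refine ⟨Subgroup.isPerfect_iff.mpr h.perfect, ?_⟩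
  have e : ↥L ≃* ↥L ⧸ center ↥L := by
    refine (QuotientGroup.quotientBot (G := ↥L)).symm.trans ?_
    exact QuotientGroup.quotientMulEquivOfEq hc.symm
  exact e.symm.isSimpleGroup

theorem SP.isComponent {L : Subgroup G} (h : SP L) (hs : L.IsSubnormal) : IsComponent L :=
  ⟨hs, h.isQuasisimple⟩

theorem SP.cj {L : Subgroup G} (h : SP L) (g : G) : SP (cj g L) := by
  have e : ↥L ≃* ↥(IntrinsicBasic.cj g L) := L.equivMapOfInjective _ (MulAut.conj g).injective
  have := h.simple
  refine ⟨e.symm.isSimpleGroup, ?_⟩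
  rw [cj_def, ← Subgroup.map_commutator, h.perfect]

/-! ### `Cmp` -/

theorem Cmp.le {H L : Subgroup G} (h : Cmp H L) : L ≤ H := h.1

theorem cmp_top {L : Subgroup G} : Cmp ⊤ L ↔ L.IsSubnormal := by
  constructor
  · rintro ⟨-, h⟩
    exact h.trans le_top IsSubnormal.top
  · intro h
    exact ⟨le_top, h.subgroupOf⟩

theorem cmp_self (H : Subgroup G) : Cmp H H := ⟨le_rfl, by rw [subgroupOf_self]; exact IsSubnormal.top⟩

theorem Cmp.of_normal {H L : Subgroup G} (h : L ≤ H) (hn : H ≤ normalizer (L : Set G)) : Cmp H L :=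
  ⟨h, (normal_subgroupOf_of_le_normalizer hn).isSubnormal⟩

/-- transport along an injective homomorphism -/
theorem cmp_map_iff {G' : Type*} [Group G'] {f : G →* G'} (hf : Function.Injective f) {H L : Subgroup G} :
    Cmp (H.map f) (L.map f) ↔ Cmp H L := by
  unfold Cmp
  rw [Subgroup.map_le_map_iff_of_injective hf]
  have e : ↥H ≃* ↥(H.map f) := H.equivMapOfInjective f hf
  let e : ↥H ≃* ↥(H.map f) := H.equivMapOfInjective f hf
  have he : ∀ x : ↥H, ((e x : ↥(H.map f)) : G') = f x := fun x => rfl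
  have h1 : ((L.map f).subgroupOf (H.map f)).comap e.toMonoidHom = L.subgroupOf H := by
    ext x
    rw [mem_comap, mem_subgroupOf, mem_subgroupOf]
    change ((e x : ↥(H.map f)) : G') ∈ L.map f ↔ _
    rw [he]
    exact Subgroup.mem_map_iff_mem hf
  have h2 : (L.subgroupOf H).map e.toMonoidHom = (L.map f).subgroupOf (H.map f) := by
    rw [← h1]
    exact Subgroup.map_comap_eq_self_of_surjective e.surjective _
  constructor
  · rintro ⟨h3, h4⟩
    refine ⟨h3, ?_⟩
    rw [← h1]
    exact h4.comap _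
  · rintro ⟨h3, h4⟩
    refine ⟨h3, ?_⟩
    rw [← h2]
    exact h4.map e.surjective

theorem cmp_subtype {Y : Subgroup G} {H L : Subgroup ↥Y} :
    Cmp (H.map Y.subtype) (L.map Y.subtype) ↔ Cmp H L := cmp_map_iff Y.subtype_injective

theorem Cmp.cj {H L : Subgroup G} (h : Cmp H L) (g : G) :
    Cmp (IntrinsicBasic.cj g H) (IntrinsicBasic.cj g L) := by
  rw [cj_def, cj_def]
  exact (cmp_map_iff (f := (MulAut.conj g).toMonoidHom) (MulAut.conj g).injective).mpr h

theorem Cmp.trans {H K L : Subgroup G} (h1 : Cmp H K) (h2 : Cmp K L) : Cmp H L := by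
  refine ⟨h2.1.trans h1.1, ?_⟩
  have h3 : K.subgroupOf H ≤ ⊤ := le_top
  refine IsSubnormal.trans (H := L.subgroupOf H) (K := K.subgroupOf H) ?_ ?_ h1.2
  · intro x hx
    rw [mem_subgroupOf] at hx ⊢
    exact h2.1 hx
  · have h4 : Cmp (K.subgroupOf H) (L.subgroupOf H) := by
      rw [← cmp_subtype, map_subgroupOf_eq_of_le h1.1, map_subgroupOf_eq_of_le (h2.1.trans h1.1)]
      exact h2
    exact h4.2

theorem Cmp.mono {H K L : Subgroup G} (h : Cmp H L) (h1 : L ≤ K) (h2 : K ≤ H) : Cmp K L := by
  refine ⟨h1, ?_⟩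
  have h3 := h.2.comap (inclusion h2)
  have h4 : (L.subgroupOf H).comap (inclusion h2) = L.subgroupOf K := by
    ext x
    rw [mem_comap, mem_subgroupOf, mem_subgroupOf]
    rfl
  rwa [h4] at h3

theorem SP.subgroupOf {H L : Subgroup G} (h : SP L) (hle : L ≤ H) : SP (L.subgroupOf H) := by
  have := h.simple
  refine ⟨(subgroupOfEquivOfLe hle).isSimpleGroup, ?_⟩
  apply Subgroup.map_injective H.subtype_injective
  rw [Subgroup.map_commutator, map_subgroupOf_eq_of_le hle, h.perfect]

theorem Cmp.isComponent {H L : Subgroup G} (h : Cmp H L) (hs : SP L) : IsComponent (L.subgroupOf H) :=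
  (hs.subgroupOf h.1).isComponent h.2

theorem Cmp.comm_of_ne {H L M : Subgroup G} (h : Cmp H L) (h' : Cmp H M) (hL : SP L) (hM : SP M) (hne : L ≠ M) :
    Comm L M := by
  have h1 : L.subgroupOf H ≠ M.subgroupOf H := by
    intro he
    apply hne
    rw [← map_subgroupOf_eq_of_le h.1, he, map_subgroupOf_eq_of_le h'.1]
  have h2 := component_le_centralizer_of_ne (h.isComponent hL) (h'.isComponent hM) h1
  intro a ha b hb
  have h3 := mem_centralizer_iff.mp (h2 (show (⟨a, h.1 ha⟩ : ↥H) ∈ L.subgroupOf H from ha)) ⟨b, h'.1 hb⟩ hb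
  exact (congrArg Subtype.val h3).symm

/-- two subnormal simple groups with a common non-trivial element are equal -/
theorem Cmp.eq_of_inf {H L M : Subgroup G} (h : Cmp H L) (h' : Cmp H M) (hL : SP L) (hM : SP M) {x : G}
    (hx : x ∈ L) (hx' : x ∈ M) (hx1 : x ≠ 1) : L = M := by
  by_contra hne
  exact hx1 (hL.eq_one_of_comm hx fun y hy => h.comm_of_ne h' hL hM hne y hy x hx')

/-- **LEMMA S**, in `G` itself -/
theorem isSubnormal_of_cent [Finite G] {M P : Subgroup G} {τ : G} (hMs : M.IsSubnormal) (hM : SP M)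
    (hτ : τ ∈ M) (hP : SP P) (hPc : Cmp (centralizer ({τ} : Set G)) P)
    (hsolv : ∀ D : Subgroup G, ⁅D, D⁆ = D → D ≤ normalizer (M : Set G) → (∀ d ∈ D, d * τ = τ * d) →
      D ≤ centralizer (M : Set G)) : P.IsSubnormal := by
  by_contra hPs
  set C : Subgroup G := centralizer ({τ} : Set G) with hC
  have hMcomp : IsComponent M := hM.isComponent hMs
  have hPcomp : IsComponent (P.subgroupOf C) := hPc.isComponent hP
  have hPC : ∀ p ∈ P, p * τ = τ * p := fun p hp => mem_centralizer_singleton_iff.mp (hPc.1 hp)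
  -- components other than `M` commute with `P`
  have hcomp : ∀ E : Subgroup G, IsComponent E → E ≠ M → Comm P E := by
    intro E hE hne
    have h1 : E ≤ C := by
      intro x hx
      rw [hC, mem_centralizer_singleton_iff]
      exact (mem_centralizer_iff.mp (component_le_centralizer_of_ne hE hMcomp hne hx) τ hτ).symm
    have h2 : IsComponent (E.subgroupOf C) := isComponent_subgroupOf h1 hE
    have h3 : P.subgroupOf C ≠ E.subgroupOf C := by
      intro he
      apply hPs
      have : P = E := by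
        rw [← map_subgroupOf_eq_of_le hPc.1, he, map_subgroupOf_eq_of_le h1]
      rw [this]
      exact hE.1
    have h4 := component_le_centralizer_of_ne hPcomp h2 h3
    intro a ha b hb
    have h5 := mem_centralizer_iff.mp (h4 (show (⟨a, hPc.1 ha⟩ : ↥C) ∈ P.subgroupOf C from ha)) ⟨b, h1 hb⟩ hb
    exact (congrArg Subtype.val h5).symm
  -- the Fitting subgroup
  have hfit : Comm P (fittingSubgroup G) := by
    have h0 := SignalizersComponents.FStarNormal.component_comm_fitting hMcomp
    have h1 : fittingSubgroup G ≤ C := by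
      intro x hx
      rw [hC, mem_centralizer_singleton_iff]
      exact mem_centralizer_iff.mp (commutator_eq_bot_iff_le_centralizer.mp h0 hτ) x hx
    have h2 : ((fittingSubgroup G).subgroupOf C).Normal := by
      have : (fittingSubgroup G).Normal := Lib.Cores.fittingSubgroup_normal
      infer_instance
    have h3 : Group.IsSolvable ↥((fittingSubgroup G).subgroupOf C) := by
      have h4 : Group.IsNilpotent (fittingSubgroup G) := Lib.Cores.fittingSubgroup_isNilpotent
      have h5 : Group.IsSolvable ↥(fittingSubgroup G) := inferInstance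
      exact Group.isSolvable_of_isSolvable_injective (f := (subgroupOfEquivOfLe h1).toMonoidHom)
        (subgroupOfEquivOfLe h1).injective
    have h6 : ⁅P.subgroupOf C, (fittingSubgroup G).subgroupOf C⁆ = ⊥ :=
      component_commutator_solvable hPcomp (by rw [normalizer_eq_top_iff.mpr h2]; exact le_top) h3
    have h7 := commutator_eq_bot_iff_le_centralizer.mp h6
    intro a ha b hb
    have h8 := mem_centralizer_iff.mp (h7 (show (⟨a, hPc.1 ha⟩ : ↥C) ∈ P.subgroupOf C from ha)) ⟨b, h1 hb⟩ hb
    exact (congrArg Subtype.val h8).symm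
  -- `P` normalises `M`
  have hnorm : P ≤ normalizer (M : Set G) := by
    intro g hg
    rw [mem_normalizer_iff_cj]
    by_contra hne
    have h1 : IsComponent (IntrinsicBasic.cj g M) := isComponent_conj g hMcomp
    have h2 := hcomp _ h1 hne
    apply hne
    ext x
    constructor
    · intro hx
      have h3 := h2 g hg x hx
      have h4 : g⁻¹ * x * g ∈ M := mem_cj.mp hx
      have h5 : g⁻¹ * x * g = x := by rw [mul_assoc, ← h3]; group
      rwa [h5] at h4
    · intro hx
      have hx' : g * x * g⁻¹ ∈ IntrinsicBasic.cj g M := conj_mem_cj hx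
      have h3 := h2 g hg _ hx'
      have h4 : g * x * g⁻¹ = x := by
        have h5 : g * (g * x * g⁻¹) = g * x := by rw [h3]; group
        exact mul_left_cancel h5
      rwa [h4] at hx'
  have hcM : P ≤ centralizer (M : Set G) := hsolv P hP.perfect hnorm hPC
  have hall : P ≤ centralizer (generalizedFittingSubgroup G : Set G) := by
    have h1 : generalizedFittingSubgroup G ≤ centralizer (P : Set G) := by
      rw [Lib.GenFitting.genFitting_def, sup_le_iff, layer_le_iff]
      constructor
      · intro K hK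
        by_cases hKM : K = M
        · rw [hKM]
          exact comm_iff_le_centralizer.mp (comm_iff_le_centralizer.mpr hcM).symm
        · exact comm_iff_le_centralizer.mp (hcomp K hK hKM).symm
      · exact comm_iff_le_centralizer.mp hfit.symm
    exact comm_iff_le_centralizer.mp (comm_iff_le_centralizer.mpr h1).symm
  have h9 := hall.trans Lib.GenFitting.centralizer_genFitting_le
  apply hP.not_comm_self
  intro a ha b hb
  exact (comm_iff_le_centralizer.mpr hall) a ha b (h9 hb)

/-- **LEMMA S** -/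
theorem Cmp.of_cent [Finite G] {Y M P : Subgroup G} {τ : G} (hMs : Cmp Y M) (hM : SP M)
    (hτ : τ ∈ M) (hP : SP P) (hPc : Cmp (Y ⊓ centralizer ({τ} : Set G)) P)
    (hsolv : ∀ D : Subgroup G, ⁅D, D⁆ = D → D ≤ normalizer (M : Set G) → (∀ d ∈ D, d * τ = τ * d) →
      D ≤ centralizer (M : Set G)) : Cmp Y P := by
  have hPY : P ≤ Y := hPc.1.trans inf_le_left
  refine ⟨hPY, ?_⟩
  refine isSubnormal_of_cent (τ := (⟨τ, hMs.1 hτ⟩ : ↥Y)) hMs.2 (hM.subgroupOf hMs.1) hτ (hP.subgroupOf hPY) ?_ ?_
  · rw [← cmp_subtype, map_subgroupOf_eq_of_le hPY]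
    have h1 : (centralizer ({(⟨τ, hMs.1 hτ⟩ : ↥Y)} : Set ↥Y)).map Y.subtype = Y ⊓ centralizer ({τ} : Set G) := by
      ext x
      rw [Subgroup.mem_map, mem_inf, mem_centralizer_singleton_iff]
      constructor
      · rintro ⟨y, hy, rfl⟩
        exact ⟨y.2, congrArg Subtype.val (mem_centralizer_singleton_iff.mp hy)⟩
      · rintro ⟨hx, hx'⟩
        exact ⟨⟨x, hx⟩, mem_centralizer_singleton_iff.mpr (Subtype.ext hx'), rfl⟩
    rw [h1]
    exact hPc
  · intro D hD hDn hDc x hx
    have h1 := hsolv (D.map Y.subtype) (by rw [← Subgroup.map_commutator, hD]) ?_ ?_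
    · rw [mem_centralizer_iff]
      intro m hm
      exact Subtype.ext (mem_centralizer_iff.mp (h1 ⟨x, hx, rfl⟩) m hm)
    · rintro - ⟨d, hd, rfl⟩
      have h2 := hDn hd
      rw [mem_normalizer_iff] at h2 ⊢
      intro m
      constructor
      · intro hm
        exact (h2 ⟨m, hMs.1 hm⟩).mp hm
      · intro hm
        have h3 : m ∈ Y := by
          have h4 : (d : G)⁻¹ * (d * m * (d : G)⁻¹) * d ∈ Y :=
            Y.mul_mem (Y.mul_mem (Y.inv_mem d.2) (hMs.1 hm)) d.2
          have h5 : (d : G)⁻¹ * (d * m * (d : G)⁻¹) * d = m := by group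
          rwa [h5] at h4
        exact (h2 ⟨m, h3⟩).mpr hm
    · rintro - ⟨d, hd, rfl⟩
      exact congrArg Subtype.val (hDc d hd)

end Cfsg.Agent.UGT.Blk
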