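import Cfsg.Agent.UGT.Blk.Facts
import Cfsg.Agent.UGT.Blk.CmpTool

/-!
# Elementary lemmas: `As`, `Comm`, the class system `Sys`
-/

set_option autoImplicit false

open Subgroup
open Cfsg.Agent.SignalizersComponents.IntrinsicBasic

namespace Cfsg.Agent.UGT.Blk

variable {G : Type*} [Group G]

theorem mem_cenL {L : Subgroup G} {g : G} : g ∈ centralizer (L : Set G) ↔ ∀ x ∈ L, x * g = g * x := by
  rw [mem_centralizer_iff]; rfl

theorem mem_cenL' {L : Subgroup G} {g : G} : g ∈ centralizer (L : Set G) ↔ ∀ x ∈ L, g * x = x * g := by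
  rw [mem_cenL]; exact forall₂_congr fun _ _ => eq_comm

theorem mem_csing {t g : G} : g ∈ centralizer ({t} : Set G) ↔ g * t = t * g := by
  rw [mem_centralizer_singleton_iff]

theorem conj_eq_iff {x y z : G} : x * y * x⁻¹ = z ↔ x * y = z * x := by
  rw [mul_inv_eq_iff_eq_mul]

theorem conj_self_iff {x y : G} : x * y * x⁻¹ = y ↔ x * y = y * x := conj_eq_iff

/-! ### involutions -/

theorem inv2_sq {t : G} (h : orderOf t = 2) : t * t = 1 := by
  have := pow_orderOf_eq_one t; rw [h, pow_two] at this; exact this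

theorem inv2_ne {t : G} (h : orderOf t = 2) : t ≠ 1 := by
  rintro rfl; rw [orderOf_one] at h; exact absurd h (by decide)

theorem inv2_inv {t : G} (h : orderOf t = 2) : t⁻¹ = t := inv_eq_of_mul_eq_one_right (inv2_sq h)

theorem ord2_of {t : G} (h : t * t = 1) (h1 : t ≠ 1) : orderOf t = 2 := by
  rw [orderOf_eq_prime_iff]; exact ⟨by rw [pow_two]; exact h, h1⟩

theorem ord2_conj {t : G} (h : orderOf t = 2) (g : G) : orderOf (g * t * g⁻¹) = 2 := by
  refine ord2_of ?_ ?_
  · have := inv2_sq h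
    calc g * t * g⁻¹ * (g * t * g⁻¹) = g * (t * t) * g⁻¹ := by group
      _ = 1 := by rw [this]; group
  · intro e
    rw [conj_eq_iff, one_mul] at e
    exact inv2_ne h (mul_eq_left.mp e)

theorem ord2_mul {t u : G} (ht : orderOf t = 2) (hu : orderOf u = 2) (e : t * u = u * t) (ne : t ≠ u) :
    orderOf (t * u) = 2 := by
  refine ord2_of ?_ ?_
  · calc t * u * (t * u) = t * (u * t) * u := by group
      _ = t * t * (u * u) := by rw [← e]; group
      _ = 1 := by rw [inv2_sq ht, inv2_sq hu, one_mul]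
  · intro e1
    exact ne (by rw [eq_inv_of_mul_eq_one_left e1, inv2_inv hu])

theorem exists_ord2_of_pow {x : G} {n : ℕ} (hx : x ^ 2 ^ n = 1) (h1 : x ≠ 1) : ∃ k : ℕ, orderOf (x ^ k) = 2 := by
  have h2 : orderOf x ∣ 2 ^ n := orderOf_dvd_of_pow_eq_one hx
  obtain ⟨m, -, hm⟩ := (Nat.dvd_prime_pow Nat.prime_two).mp h2
  rcases Nat.eq_zero_or_pos m with rfl | hm0
  · rw [pow_zero, orderOf_eq_one_iff] at hm; exact absurd hm h1
  · refine ⟨2 ^ (m - 1), ?_⟩
    have h3 : orderOf x ≠ 0 := by rw [hm]; positivity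
    have h4 : 2 ^ (m - 1) ≠ 0 := by positivity
    rw [orderOf_pow_of_dvd h4 (by rw [hm]; exact pow_dvd_pow 2 (Nat.sub_le m 1)), hm,
      Nat.pow_div (Nat.sub_le m 1) two_pos, Nat.sub_sub_self hm0, pow_one]

/-! ### `Comm` -/


theorem Comm.le {L P : Subgroup G} (h : Comm L P) : L ≤ centralizer (P : Set G) :=
  fun a ha => mem_cenL'.mpr fun b hb => h a ha b hb

theorem comm_iff {L P : Subgroup G} : Comm L P ↔ L ≤ centralizer (P : Set G) :=
  ⟨Comm.le, fun h a ha b hb => mem_cenL'.mp (h ha) b hb⟩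

theorem Comm.cj {L P : Subgroup G} (h : Comm L P) (g : G) : Comm (cj g L) (cj g P) := by
  intro a ha b hb
  rw [mem_cj] at ha hb
  have := h _ ha _ hb
  calc a * b = g * ((g⁻¹ * a * g) * (g⁻¹ * b * g)) * g⁻¹ := by group
    _ = b * a := by rw [this]; group

/-! ### `As` -/

theorem As.refl (L : Subgroup G) (u : G) : As L u u := fun _ _ => rfl

theorem As.symm {L : Subgroup G} {u v : G} (h : As L u v) : As L v u := fun x hx => (h x hx).symm

theorem As.trans {L : Subgroup G} {u v w : G} (h : As L u v) (h' : As L v w) : As L u w :=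
  fun x hx => (h x hx).trans (h' x hx)

/-- second factors normalise -/
theorem As.mul {L : Subgroup G} {u v a b : G} (h : As L u a) (h' : As L v b) (hb : b ∈ normalizer (L : Set G)) :
    As L (u * v) (a * b) := by
  intro x hx
  have h1 : b * x * b⁻¹ ∈ L := (mem_normalizer_iff.mp hb x).mp hx
  calc u * v * x * (u * v)⁻¹ = u * (v * x * v⁻¹) * u⁻¹ := by group
    _ = a * (b * x * b⁻¹) * a⁻¹ := by rw [h' x hx, h _ h1]
    _ = a * b * x * (a * b)⁻¹ := by group

theorem as_one_iff {L : Subgroup G} {u : G} : As L u 1 ↔ u ∈ centralizer (L : Set G) := by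
  rw [mem_cenL']
  refine forall₂_congr fun x _ => ?_
  rw [one_mul, inv_one, mul_one, conj_self_iff]

theorem As.of_cen {L : Subgroup G} {u : G} (h : u ∈ centralizer (L : Set G)) : As L u 1 := as_one_iff.mpr h

theorem As.norm {L : Subgroup G} {u a : G} (h : As L u a) (ha : a ∈ L) : u ∈ normalizer (L : Set G) := by
  rw [mem_normalizer_iff]
  intro x
  constructor
  · intro hx; rw [h x hx]; exact L.mul_mem (L.mul_mem ha hx) (L.inv_mem ha)
  · intro hx
    have h1 : a⁻¹ * (u * x * u⁻¹) * a ∈ L := L.mul_mem (L.mul_mem (L.inv_mem ha) hx) ha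
    have h2 := h _ h1
    have h3 : u * (a⁻¹ * (u * x * u⁻¹) * a) * u⁻¹ = u * x * u⁻¹ := by rw [h2]; group
    have h4 : a⁻¹ * (u * x * u⁻¹) * a = x := by
      have := congrArg (fun z => u⁻¹ * z * u) h3
      simpa [mul_assoc] using this
    rw [← h4]; exact h1

theorem As.inv_mul {L : Subgroup G} {u a : G} (h : As L u a) : a⁻¹ * u ∈ centralizer (L : Set G) := by
  rw [← as_one_iff]
  intro x hx
  calc a⁻¹ * u * x * (a⁻¹ * u)⁻¹ = a⁻¹ * (u * x * u⁻¹) * a := by group
    _ = 1 * x * 1⁻¹ := by rw [h x hx]; group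

/-- `u a` centralizes `L` if `a` is an involution of `L` and `u` acts as `a` -/
theorem As.mul_mem_cen {L : Subgroup G} {u a : G} (h : As L u a) (ha : a ∈ L) (ha2 : a * a = 1) :
    u * a ∈ centralizer (L : Set G) := by
  rw [← as_one_iff, ← ha2]
  exact h.mul (As.refl L a) (le_normalizer ha)

theorem As.mul_mem_cen' {L : Subgroup G} {u a : G} (h : As L u a) (ha2 : a * a = 1) :
    a * u ∈ centralizer (L : Set G) := by
  have := h.inv_mul
  rwa [inv_eq_of_mul_eq_one_right ha2] at this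

theorem As.comm_iff {L : Subgroup G} {u a x : G} (h : As L u a) (hx : x ∈ L) :
    x * u = u * x ↔ x * a = a * x := by
  have := h x hx
  constructor
  · intro e
    rw [← e, mul_inv_cancel_right, eq_mul_inv_iff_mul_eq] at this
    exact this
  · intro e
    rw [← e, mul_inv_cancel_right, mul_inv_eq_iff_eq_mul] at this
    exact this.symm

theorem As.self_comm {L : Subgroup G} {u a : G} (h : As L u a) (ha : a ∈ L) : a * u = u * a :=
  (h.comm_iff ha).mpr rfl

theorem As.cj {L : Subgroup G} {u a : G} (h : As L u a) (g : G) :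
    As (Cfsg.Agent.SignalizersComponents.IntrinsicBasic.cj g L) (g * u * g⁻¹) (g * a * g⁻¹) := by
  intro x hx
  rw [mem_cj] at hx
  have := h _ hx
  calc g * u * g⁻¹ * x * (g * u * g⁻¹)⁻¹ = g * (u * (g⁻¹ * x * g) * u⁻¹) * g⁻¹ := by group
    _ = g * a * g⁻¹ * x * (g * a * g⁻¹)⁻¹ := by rw [this]; group

theorem As.cen_of {L : Subgroup G} {u a : G} (h : As L u a) (ha : a ∈ centralizer (L : Set G)) :
    u ∈ centralizer (L : Set G) := as_one_iff.mp (h.trans (As.of_cen ha))

/-! ### `LF` -/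

section LF

variable {L PG : Subgroup G} (F : LF L PG)
include F

theorem LF.even : ∃ t ∈ L, orderOf t = 2 := by
  obtain ⟨t, h1, h2, -⟩ := F.fix 1 (Subgroup.one_mem _) (mul_one 1)
  exact ⟨t, h1, h2⟩

theorem LF.not_self : ¬ Comm L L := by
  intro h
  obtain ⟨t, ht, h2⟩ := F.even
  have h1 : ⁅L, L⁆ = ⊥ := by
    rw [commutator_eq_bot_iff_le_centralizer]; exact h.le
  rw [F.perfect] at h1
  rw [h1, mem_bot] at ht
  exact inv2_ne h2 ht

theorem LF.cen_bot {x : G} (hx : x ∈ L) (hc : x ∈ centralizer (L : Set G)) : x = 1 := by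
  have h1 := F.simple (L ⊓ centralizer (L : Set G)) inf_le_left (by
    intro l hl n hn
    have : l * n * l⁻¹ = n := conj_self_iff.mpr (mem_cenL.mp hn.2 l hl)
    rw [this]; exact hn)
  rcases h1 with h1 | h1
  · have : x ∈ L ⊓ centralizer (L : Set G) := ⟨hx, hc⟩
    rw [h1] at this; exact mem_bot.mp this
  · exact absurd (comm_iff.mpr (by rw [← h1]; exact inf_le_right.trans (by rw [h1]))) F.not_self

/-- an involution acting as an element `a` of `L` and non-trivially: `a` is an involution -/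
theorem LF.ord2 {u a : G} (hu : u * u = 1) (ha : a ∈ L) (h : As L u a) (hn : u ∉ centralizer (L : Set G)) :
    orderOf a = 2 := by
  refine ord2_of ?_ ?_
  · refine F.cen_bot (L.mul_mem ha ha) ?_
    rw [← as_one_iff, ← hu]
    exact (h.mul h (le_normalizer ha)).symm
  · rintro rfl
    exact hn (as_one_iff.mp h)

theorem LF.as_inj {u a b : G} (ha : a ∈ L) (hb : b ∈ L) (h : As L u a) (h' : As L u b) : a = b := by
  have h1 : As L a b := h.symm.trans h'
  have := F.cen_bot (L.mul_mem (L.inv_mem hb) ha) h1.inv_mul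
  exact (inv_mul_eq_one.mp this).symm

end LF

end Cfsg.Agent.UGT.Blk
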