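import Cfsg.Agent.UGT.Blk.CmpTool
import Cfsg.Agent.OddHalf.D3.Fus

/-!
# `Base SS` gives `Sys SS (rl SS)`

`rl SS L P`: `L, P ∈ SS` are equal or related by `Rel ⊤`.
-/

set_option autoImplicit false

open Subgroup Cfsg
open Cfsg.Agent.SignalizersComponents
open Cfsg.Agent.SignalizersComponents.IntrinsicBasic

namespace Cfsg.Agent.UGT.Blk

variable {G : Type*} [Group G]

/-! ### small tools -/

theorem orderOf_conj' (g x : G) : orderOf (g * x * g⁻¹) = orderOf x := by
  have := orderOf_injective (MulAut.conj g).toMonoidHom (MulAut.conj g).injective x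
  simpa using this

theorem ne_one_of_ord {x : G} (h : orderOf x = 2) : x ≠ 1 := by
  rintro rfl; rw [orderOf_one] at h; norm_num at h

theorem sq_of_ord {x : G} (h : orderOf x = 2) : x * x = 1 := by
  rw [← pow_two, ← h, pow_orderOf_eq_one]

theorem inv_of_ord {x : G} (h : orderOf x = 2) : x⁻¹ = x := inv_eq_of_mul_eq_one_left (sq_of_ord h)

theorem ord_of_sq {x : G} (h : x * x = 1) (h1 : x ≠ 1) : orderOf x = 2 :=
  orderOf_eq_prime (by rw [pow_two]; exact h) h1

theorem mem_cen {t x : G} : x ∈ centralizer ({t} : Set G) ↔ x * t = t * x := mem_centralizer_singleton_iff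

/-- a perfect group acting on two points acts trivially -/
theorem le_of_two {L D : Subgroup G} (hp : ⁅L, L⁆ = L)
    (h2 : ∀ x ∈ L, ∀ y ∈ L, x ∉ D → y ∉ D → x * y ∈ D) : L ≤ D := by
  rw [← hp, commutator_le]
  intro x hx y hy
  rw [commutatorElement_def]
  have hx' : x⁻¹ ∈ L := L.inv_mem hx
  have hy' : y⁻¹ ∈ L := L.inv_mem hy
  by_cases hxD : x ∈ D
  · by_cases hyD : y ∈ D
    · exact D.mul_mem (D.mul_mem (D.mul_mem hxD hyD) (D.inv_mem hxD)) (D.inv_mem hyD)
    · have e : x * y * x⁻¹ * y⁻¹ = x * (y * (x⁻¹ * y⁻¹)) := by group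
      rw [e]
      refine D.mul_mem hxD (h2 y hy _ (L.mul_mem hx' hy') hyD fun h => hyD ?_)
      have := (D.mul_mem_cancel_left (D.inv_mem hxD)).mp h
      exact inv_mem_iff.mp this
  · by_cases hyD : y ∈ D
    · have e : x * y * x⁻¹ * y⁻¹ = x * (y * x⁻¹) * y⁻¹ := by group
      rw [e]
      refine D.mul_mem (h2 x hx _ (L.mul_mem hy hx') hxD fun h => hxD ?_) (D.inv_mem hyD)
      have := (D.mul_mem_cancel_left hyD).mp h
      exact inv_mem_iff.mp this
    · have e : x * y * x⁻¹ * y⁻¹ = x * y * (x⁻¹ * y⁻¹) := by group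
      rw [e]
      exact D.mul_mem (h2 x hx y hy hxD hyD)
        (h2 _ hx' _ hy' (fun h => hxD (inv_mem_iff.mp h)) fun h => hyD (inv_mem_iff.mp h))

/-- a simple group normalising `N` is contained in `N` or meets `N` trivially -/
theorem SP.le_or_inf {L N : Subgroup G} (h : SP L) (hn : L ≤ normalizer (N : Set G)) : L ≤ N ∨ L ⊓ N = ⊥ := by
  have := h.simple
  have h1 : (N.subgroupOf L).Normal := normal_subgroupOf_of_le_normalizer hn
  rcases h1.eq_bot_or_eq_top with h2 | h2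
  · right
    rw [eq_bot_iff]
    intro x hx
    have h3 : (⟨x, hx.1⟩ : ↥L) ∈ N.subgroupOf L := hx.2
    rw [h2, mem_bot] at h3
    exact mem_bot.mpr (congrArg Subtype.val h3)
  · left
    exact subgroupOf_eq_top.mp h2

/-- ... in particular if it has a nontrivial element in `N` -/
theorem SP.le_of_mem {L N : Subgroup G} (h : SP L) (hn : L ≤ normalizer (N : Set G)) {x : G} (hx : x ∈ L)
    (hx' : x ∈ N) (hx1 : x ≠ 1) : L ≤ N := by
  rcases h.le_or_inf hn with h1 | h1
  · exact h1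
  · exfalso
    have : x ∈ L ⊓ N := ⟨hx, hx'⟩
    rw [h1, mem_bot] at this
    exact hx1 this

/-- a subset of the simple group `L` invariant under conjugation generates `L` -/
theorem SP.le_of_conj {L D : Subgroup G} (h : SP L) {S : Set G} (hinv : ∀ x ∈ L, ∀ s ∈ S, x * s * x⁻¹ ∈ S)
    (hS : ∀ s ∈ S, s ∈ D) {s : G} (hs : s ∈ S) (hsL : s ∈ L) (hs1 : s ≠ 1) : L ≤ D := by
  have h1 : L ≤ normalizer (closure S : Set G) := by
    have h2 : ∀ x ∈ L, ∀ y ∈ closure S, x * y * x⁻¹ ∈ closure S := by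
      intro x hx y hy
      have h3 : closure S ≤ (closure S).comap (MulAut.conj x).toMonoidHom := by
        rw [closure_le]
        intro z hz
        exact subset_closure (hinv x hx z hz)
      exact h3 hy
    intro x hx
    rw [mem_normalizer_iff]
    intro y
    refine ⟨fun hy => h2 x hx y hy, fun hy => ?_⟩
    have h3 := h2 x⁻¹ (L.inv_mem hx) _ hy
    have e : x⁻¹ * (x * y * x⁻¹) * x⁻¹⁻¹ = y := by group
    rwa [e] at h3
  have h2 : L ≤ closure S := h.le_of_mem h1 hsL (subset_closure hs) hs1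
  exact h2.trans (by rw [closure_le]; exact hS)

/-- the normalizer, elementwise -/
theorem le_normalizer_of_conj {L N : Subgroup G} (h : ∀ x ∈ L, ∀ y ∈ N, x * y * x⁻¹ ∈ N) :
    L ≤ normalizer (N : Set G) := by
  intro x hx
  rw [mem_normalizer_iff]
  intro y
  refine ⟨fun hy => h x hx y hy, fun hy => ?_⟩
  have h3 := h x⁻¹ (L.inv_mem hx) _ hy
  have e : x⁻¹ * (x * y * x⁻¹) * x⁻¹⁻¹ = y := by group
  rwa [e] at h3

/-- an involution normalising a subgroup `P` of even order centralises an involution of `P` -/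
theorem exists_fix_inv [Finite G] {P : Subgroup G} {t p : G} (hp : p ∈ P) (op : orderOf p = 2) (ot : orderOf t = 2)
    (ht : t ∈ normalizer (P : Set G)) : ∃ e ∈ P, orderOf e = 2 ∧ t * e = e * t := by
  haveI : Fact (Nat.Prime 2) := ⟨Nat.prime_two⟩
  set N : Subgroup G := normalizer (P : Set G) with hN
  have hpN : p ∈ N := le_normalizer hp
  set t' : ↥N := ⟨t, ht⟩ with ht'
  set p' : ↥N := ⟨p, hpN⟩ with hp'
  have two_grp : ∀ z : ↥N, orderOf z = 2 → IsPGroup 2 (zpowers z) := by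
    intro z hz
    refine IsPGroup.of_card (n := 1) ?_
    rw [Nat.card_zpowers, hz, pow_one]
  have ot' : orderOf t' = 2 := by rw [ht', Subgroup.orderOf_mk]; exact ot
  have op' : orderOf p' = 2 := by rw [hp', Subgroup.orderOf_mk]; exact op
  obtain ⟨Q, hQ⟩ := (two_grp t' ot').exists_le_sylow
  obtain ⟨Q', hQ'⟩ := (two_grp p' op').exists_le_sylow
  obtain ⟨g, hg⟩ := MulAction.exists_smul_eq ↥N Q' Q
  have hgp : g * p' * g⁻¹ ∈ (Q : Subgroup ↥N) := by
    rw [← hg, Sylow.coe_subgroup_smul, Subgroup.mem_pointwise_smul_iff_inv_smul_mem]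
    have e : (MulAut.conj g)⁻¹ • (g * p' * g⁻¹) = p' := by
      rw [MulAut.smul_def, MulAut.conj_inv_apply]; group
    rw [e]
    exact hQ' (mem_zpowers p')
  have hPn : (P.subgroupOf N).Normal := by rw [hN]; infer_instance
  have hgP : g * p' * g⁻¹ ∈ P.subgroupOf N := hPn.conj_mem p' hp g
  obtain ⟨e, he, oe, hc⟩ := Cfsg.Agent.OddHalf.D3.Fus.exists_fix (S := (Q : Subgroup ↥N)) (X := zpowers t')
    (D := P.subgroupOf N ⊓ (Q : Subgroup ↥N)) Q.isPGroup' hQ inf_le_right (by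
      intro hb
      have h1 : g * p' * g⁻¹ ∈ P.subgroupOf N ⊓ (Q : Subgroup ↥N) := ⟨hgP, hgp⟩
      rw [hb, mem_bot] at h1
      have h2 : orderOf (g * p' * g⁻¹) = 2 := by rw [orderOf_conj', op']
      exact ne_one_of_ord h2 h1) (by
      intro x hx d hd
      exact ⟨hPn.conj_mem d hd.1 x, (Q : Subgroup ↥N).mul_mem ((Q : Subgroup ↥N).mul_mem (hQ hx) hd.2)
        ((Q : Subgroup ↥N).inv_mem (hQ hx))⟩)
  exact ⟨e, he.1, by rw [Subgroup.orderOf_coe]; exact oe, congrArg Subtype.val (hc t' (mem_zpowers t'))⟩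

/-! ### `Rel` -/

theorem Rel.symm {K L P : Subgroup G} (h : Rel K L P) : Rel K P L :=
  ⟨h.le', h.le, h.ne.symm, h.comm.symm, h.right, h.left⟩

theorem Rel.l {L P : Subgroup G} (h : Rel ⊤ L P) {t : G} (ht : t ∈ P) (ot : orderOf t = 2) :
    Cmp (centralizer ({t} : Set G)) L := by
  have := h.left t ht ot
  rwa [top_inf_eq] at this

theorem Rel.r {L P : Subgroup G} (h : Rel ⊤ L P) {t : G} (ht : t ∈ L) (ot : orderOf t = 2) :
    Cmp (centralizer ({t} : Set G)) P := h.symm.l ht ot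

theorem Rel.mk' {L P : Subgroup G} (hne : L ≠ P) (hc : Comm L P)
    (hl : ∀ t ∈ P, orderOf t = 2 → Cmp (centralizer ({t} : Set G)) L)
    (hr : ∀ t ∈ L, orderOf t = 2 → Cmp (centralizer ({t} : Set G)) P) : Rel ⊤ L P :=
  ⟨le_top, le_top, hne, hc, fun t ht ot => by rw [top_inf_eq]; exact hl t ht ot,
    fun t ht ot => by rw [top_inf_eq]; exact hr t ht ot⟩

theorem Rel.restrict {L P Y : Subgroup G} (h : Rel ⊤ L P) (hL : L ≤ Y) (hP : P ≤ Y) : Rel Y L P := by
  refine ⟨hL, hP, h.ne, h.comm, fun t ht ot => ?_, fun t ht ot => ?_⟩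
  · have h1 := h.l ht ot
    exact h1.mono (le_inf hL h1.1) inf_le_right
  · have h1 := h.r ht ot
    exact h1.mono (le_inf hP h1.1) inf_le_right

theorem cj_cen (g t : G) : IntrinsicBasic.cj g (centralizer ({t} : Set G)) = centralizer ({g * t * g⁻¹} : Set G) :=
  cj_centralizer g t

theorem Rel.cj {L P : Subgroup G} (h : Rel ⊤ L P) (g : G) :
    Rel ⊤ (IntrinsicBasic.cj g L) (IntrinsicBasic.cj g P) := by
  have key : ∀ {A B : Subgroup G}, Rel ⊤ A B → ∀ t ∈ IntrinsicBasic.cj g B, orderOf t = 2 →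
      Cmp (centralizer ({t} : Set G)) (IntrinsicBasic.cj g A) := by
    intro A B hAB t ht ot
    have h1 := mem_cj.mp ht
    have h2 : orderOf (g⁻¹ * t * g) = 2 := by
      have := orderOf_conj' g⁻¹ t
      rw [inv_inv] at this
      rw [this, ot]
    have h3 := (hAB.l h1 h2).cj g
    rw [cj_cen] at h3
    have e : g * (g⁻¹ * t * g) * g⁻¹ = t := by group
    rwa [e] at h3
  exact Rel.mk' (fun he => h.ne (cj_injective g he)) (comm_cj h.comm g) (key h) (key h.symm)

/-- perfect groups of automorphisms commuting with `t` are trivial -/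
def Solv (L : Subgroup G) : Prop := ∀ t ∈ L, orderOf t = 2 → ∀ D : Subgroup G, ⁅D, D⁆ = D →
  D ≤ normalizer (L : Set G) → (∀ d ∈ D, d * t = t * d) → D ≤ centralizer (L : Set G)

/-- `A ~ B ~ C` -/
theorem Rel.trans [Finite G] {A B C : Subgroup G} (hA : SP A) (hB : SP B) (hC : SP C) (hs : Solv B)
    (he : ∃ t ∈ B, orderOf t = 2)
    (h1 : Rel ⊤ A B) (h2 : Rel ⊤ B C) (hne : A ≠ C) : Rel ⊤ A C := by
  obtain ⟨b, hb, ob⟩ := he
  have hcomm : Comm A C := (h1.l hb ob).comm_of_ne (h2.r hb ob) hA hC hne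
  have key : ∀ {A C : Subgroup G}, SP A → Rel ⊤ A B → Rel ⊤ B C → Comm A C → ∀ t ∈ C, orderOf t = 2 →
      Cmp (centralizer ({t} : Set G)) A := by
    intro A C hA h1 h2 hc t ht ot
    refine Cmp.of_cent (M := B) (τ := b) (h2.l ht ot) hB hb hA ?_ (hs b hb ob)
    have h3 := h1.l hb ob
    refine h3.mono (le_inf ?_ h3.1) inf_le_right
    intro a ha
    exact mem_cen.mpr (hc a ha t ht)
  exact Rel.mk' hne hcomm (key hA h1 h2 hcomm) (key hC h2.symm h1.symm hcomm.symm)

/-! ### diagonals -/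

/-- the diagonal of `P` and `P^t` -/
theorem exists_diag {P : Subgroup G} {t : G} (hp : ⁅P, P⁆ = P) (hc : Comm P (IntrinsicBasic.cj t P)) (ht : t * t = 1) :
    ∃ D : Subgroup G, ⁅D, D⁆ = D ∧ (∀ d ∈ D, d * t = t * d) ∧ (∀ x ∈ P, x * (t * x * t⁻¹) ∈ D) := by
  have hti : t⁻¹ = t := inv_eq_of_mul_eq_one_left ht
  let f : ↥P →* G :=
    { toFun := fun x => (x : G) * (t * x * t⁻¹)
      map_one' := by simp
      map_mul' := by
        intro x y
        have h1 := hc y y.2 _ (conj_mem_cj (g := t) x.2)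
        calc ((x * y : ↥P) : G) * (t * ((x * y : ↥P) : G) * t⁻¹)
            = x * (y * (t * x * t⁻¹)) * (t * y * t⁻¹) := by rw [Subgroup.coe_mul]; group
          _ = x * (t * x * t⁻¹) * (y * (t * y * t⁻¹)) := by rw [h1]; group }
  have hf : ∀ x : ↥P, f x = (x : G) * (t * x * t⁻¹) := fun _ => rfl
  refine ⟨(⊤ : Subgroup ↥P).map f, ?_, ?_, ?_⟩
  · rw [← Subgroup.map_commutator]
    congr 1
    apply Subgroup.map_injective P.subtype_injective
    rw [Subgroup.map_commutator, ← MonoidHom.range_eq_map, Subgroup.range_subtype, hp]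
  · rintro - ⟨x, -, rfl⟩
    rw [hf]
    have h1 := hc x x.2 _ (conj_mem_cj (g := t) x.2)
    calc (x : G) * (t * x * t⁻¹) * t = (x : G) * (t * x * t⁻¹) * t := rfl
      _ = t * x * t⁻¹ * x * t := by rw [h1]
      _ = t * (x * (t⁻¹ * x * t)) := by group
      _ = t * (x * (t * x * t⁻¹)) := by rw [hti]
  · intro x hx
    exact ⟨⟨x, hx⟩, mem_top _, rfl⟩

/-- an element commuting with `b b'` cannot move `P ∋ b` to a group commuting with `P` and `R ∋ b'` -/
theorem perm_two {P R : Subgroup G} (hP : SP P) (hPR : Comm P R) {x b b' : G} (hb : b ∈ P) (hb' : b' ∈ R)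
    (hb1 : b ≠ 1) (hx : x * (b * b') = b * b' * x) (h1 : Comm (IntrinsicBasic.cj x P) P)
    (h2 : Comm (IntrinsicBasic.cj x P) R) : False := by
  apply hb1
  refine hP.eq_one_of_comm hb fun c hc => ?_
  have hc' := conj_mem_cj (g := x) hc
  have e1 := h1 _ hc' b hb
  have e2 := h2 _ hc' b' hb'
  have e3 : x * c * x⁻¹ * (b * b') = b * b' * (x * c * x⁻¹) := by
    calc x * c * x⁻¹ * (b * b') = (x * c * x⁻¹ * b) * b' := by group
      _ = b * (x * c * x⁻¹ * b') := by rw [e1]; group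
      _ = b * b' * (x * c * x⁻¹) := by rw [e2]; group
  have e4 : x⁻¹ * (b * b') = b * b' * x⁻¹ := by
    calc x⁻¹ * (b * b') = x⁻¹ * (b * b' * x) * x⁻¹ := by group
      _ = x⁻¹ * (x * (b * b')) * x⁻¹ := by rw [hx]
      _ = b * b' * x⁻¹ := by group
  have e5 : c * (b * b') = b * b' * c := by
    calc c * (b * b') = x⁻¹ * (x * c * x⁻¹ * (x * (b * b') * x⁻¹)) * x := by group
      _ = x⁻¹ * (x * c * x⁻¹ * (b * b')) * x := by rw [hx]; group
      _ = x⁻¹ * (b * b') * (x * c * x⁻¹) * x := by rw [e3]; group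
      _ = b * b' * c := by rw [e4]; group
  have e6 := hPR c hc b' hb'
  have e7 : c * b * b' = b * c * b' := by
    calc c * b * b' = c * (b * b') := by group
      _ = b * (b' * c) := by rw [e5]; group
      _ = b * c * b' := by rw [← e6]; group
  exact mul_right_cancel e7

/-! ### The relation `rl` -/

/-- equality or `Rel ⊤` on `SS` -/
def rl (SS : Set (Subgroup G)) (L P : Subgroup G) : Prop := L ∈ SS ∧ P ∈ SS ∧ (L = P ∨ Rel ⊤ L P)

variable {SS : Set (Subgroup G)}

theorem rl.symm {L P : Subgroup G} (h : rl SS L P) : rl SS P L :=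
  ⟨h.2.1, h.1, h.2.2.elim (fun h => Or.inl h.symm) fun h => Or.inr h.symm⟩

theorem rl.refl {L : Subgroup G} (h : L ∈ SS) : rl SS L L := ⟨h, h, Or.inl rfl⟩

theorem rl.comm {L P : Subgroup G} (h : rl SS L P) (hne : L ≠ P) : Comm L P :=
  (h.2.2.resolve_left hne).comm

theorem rl.cj (hcj : ∀ L ∈ SS, ∀ g : G, IntrinsicBasic.cj g L ∈ SS) {L P : Subgroup G} (h : rl SS L P) (g : G) :
    rl SS (IntrinsicBasic.cj g L) (IntrinsicBasic.cj g P) :=
  ⟨hcj _ h.1 g, hcj _ h.2.1 g, h.2.2.elim (fun h => Or.inl (by rw [h])) fun h => Or.inr (h.cj g)⟩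

theorem rl.trans [Finite G] (hsp : ∀ L ∈ SS, SP L) (hs : ∀ L ∈ SS, Solv L)
    (he : ∀ L ∈ SS, ∃ t ∈ L, orderOf t = 2)
    {A B C : Subgroup G} (h1 : rl SS A B) (h2 : rl SS B C) : rl SS A C := by
  obtain ⟨hA, hB, h1⟩ := h1
  obtain ⟨-, hC, h2⟩ := h2
  refine ⟨hA, hC, ?_⟩
  rcases h1 with rfl | h1
  · exact h2
  · rcases h2 with rfl | h2
    · exact Or.inr h1
    · by_cases hAC : A = C
      · exact Or.inl hAC
      · exact Or.inr (h1.trans (hsp A hA) (hsp B hB) (hsp C hC) (hs B hB) (he B hB) h2 hAC)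

namespace Base

variable (h : Base SS)
include h

theorem sp {L : Subgroup G} (hL : L ∈ SS) : SP L := ⟨h.simple L hL, h.perfect L hL⟩

theorem sv {L : Subgroup G} (hL : L ∈ SS) : Solv L := fun t ht ot D => h.solv L hL t ht ot D

theorem trans [Finite G] {A B C : Subgroup G} (h1 : rl SS A B) (h2 : rl SS B C) : rl SS A C :=
  h1.trans (fun _ => h.sp) (fun _ => h.sv) h.even h2

/-- (L1) -/
theorem ti [Finite G] {L L' : Subgroup G} (hL : L ∈ SS) (hL' : L' ∈ SS) {b : G} (hb : b ∈ L) (hb' : b ∈ L')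
    (ob : orderOf b = 2) : L = L' := by
  obtain ⟨P, hP, hLP⟩ := h.part L hL
  obtain ⟨P', hP', hLP'⟩ := h.part L' hL'
  have hsP := h.sp hP
  have hsP' := h.sp hP'
  have final : rl SS L L' → L = L' := by
    intro hr
    by_contra hne
    have hc := hr.comm hne
    exact ne_one_of_ord ob ((h.sp hL).eq_one_of_comm hb fun x hx => hc x hx b hb')
  apply final
  have hPb := hLP.r hb ob
  have hPb' := hLP'.r hb' ob
  have hLP1 : rl SS L P := ⟨hL, hP, Or.inr hLP⟩
  have hLP1' : rl SS L' P' := ⟨hL', hP', Or.inr hLP'⟩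
  by_cases hPP : P = P'
  · subst hPP
    exact h.trans hLP1 hLP1'.symm
  · have hc : Comm P P' := hPb.comm_of_ne hPb' hsP hsP' hPP
    have key : ∀ {L' P P' : Subgroup G}, L' ∈ SS → P ∈ SS → b ∈ L' → Rel ⊤ L' P' → Comm P P' →
        Cmp (centralizer ({b} : Set G)) P → ∀ t ∈ P', orderOf t = 2 → Cmp (centralizer ({t} : Set G)) P := by
      intro L' P P' hL' hP hb' hLP' hc hPb t ht ot
      refine Cmp.of_cent (M := L') (τ := b) (hLP'.l ht ot) (h.sp hL') hb' (h.sp hP) ?_ (h.sv hL' b hb' ob)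
      refine hPb.mono (le_inf ?_ hPb.1) inf_le_right
      intro a ha
      exact mem_cen.mpr (hc a ha t ht)
    have hr : Rel ⊤ P P' := Rel.mk' hPP hc (key hL' hP hb' hLP' hc hPb) (key hL hP' hb hLP hc.symm hPb')
    exact h.trans (h.trans hLP1 ⟨hP, hP', Or.inr hr⟩) hLP1'.symm

/-- (L3) -/
theorem cenle [Finite G] {L : Subgroup G} (hL : L ∈ SS) {t : G} (ht : t ∈ L) (ot : orderOf t = 2) :
    centralizer ({t} : Set G) ≤ normalizer (L : Set G) := by
  intro g hg
  rw [mem_normalizer_iff_cj]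
  refine (h.ti hL (h.cj_mem L hL g) (b := t) ht ?_ ot).symm
  rw [mem_cj]
  have h1 := mem_cen.mp hg
  have e : g⁻¹ * t * g = t := by rw [mul_assoc, ← h1]; group
  rwa [e]

/-- (L0) -/
theorem cen [Finite G] {L L' : Subgroup G} (hL : L ∈ SS) (hL' : L' ∈ SS) {b : G} (hb : b ∈ L') (ob : orderOf b = 2)
    (hbL : b ∈ centralizer (L : Set G)) : Comm L' L := by
  have h1 : ∀ x ∈ L, x * b = b * x := fun x hx => mem_centralizer_iff.mp hbL x hx
  have h2 : L ≤ normalizer (L' : Set G) := fun x hx => h.cenle hL' hb ob (mem_cen.mpr (h1 x hx))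
  exact (comm_iff_le_centralizer.mpr (h.solv L' hL' b hb ob L (h.perfect L hL) h2 h1)).symm

/-- (L2) -/
theorem spread [Finite G] {L L' P : Subgroup G} (hL : L ∈ SS) (hL' : L' ∈ SS) (hc : Comm L' L) (hr : rl SS L P) :
    L' = P ∨ Comm L' P := by
  have hP := hr.2.1
  have hsP := h.sp hP
  have hsL' := h.sp hL'
  by_cases hPL : P = L
  · right; rw [hPL]; exact hc
  by_cases hPL' : L' = P
  · left; exact hPL'
  right
  obtain ⟨t₀, ht₀, ot₀⟩ := h.even L' hL'
  obtain ⟨b, hb, ob⟩ := h.even P hP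
  have hclass : ∀ g ∈ L', rl SS (cj g P) P := by
    intro g hg
    have h1 : cj g L = L := by
      ext x
      rw [mem_cj]
      constructor
      · intro hx
        have h2 := hc g hg _ hx
        have e : g⁻¹ * x * g = x := by
          have h3 : g * (g⁻¹ * x * g) = x * g := by group
          rw [h3] at h2
          exact (mul_right_cancel h2).symm
        rwa [e] at hx
      · intro hx
        have h2 := hc g hg _ hx
        have e : g⁻¹ * x * g = x := by rw [mul_assoc, ← h2]; group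
        rwa [e]
    have h2 := hr.cj h.cj_mem g
    rw [h1] at h2
    exact h.trans h2.symm hr
  -- step 1
  have hN1 : ∀ t ∈ L', orderOf t = 2 → t ∈ normalizer (P : Set G) := by
    intro t ht ot
    by_contra htN
    have hRP := hclass t ht
    have hne : P ≠ cj t P := fun he => htN (mem_normalizer_iff_cj.mpr he.symm)
    have hcPR : Comm P (cj t P) := (hRP.comm hne.symm).symm
    obtain ⟨D, hD, hDt, hDx⟩ := exists_diag hsP.perfect hcPR (sq_of_ord ot)
    have hDN : D ≤ normalizer (L' : Set G) := fun d hd => h.cenle hL' ht ot (mem_cen.mpr (hDt d hd))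
    have hDC : D ≤ centralizer (L' : Set G) := h.solv L' hL' t ht ot D hD hDN hDt
    have htwo : ∀ x ∈ L', cj x P = P ∨ cj x P = cj t P := by
      intro x hx
      by_contra hcon
      push Not at hcon
      have h1 := hclass x hx
      have h2 : rl SS (cj x P) (cj t P) := h.trans h1 hRP.symm
      exact perm_two hsP hcPR hb (conj_mem_cj hb) (ne_one_of_ord ob)
        (mem_centralizer_iff.mp (hDC (hDx b hb)) x hx) (h1.comm hcon.1) (h2.comm hcon.2)
    refine htN (le_of_two (D := normalizer (P : Set G)) hsL'.perfect ?_ ht)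
    intro x hx y hy hxN hyN
    have hy2 : cj y P = cj t P := (htwo y hy).resolve_left fun he => hyN (mem_normalizer_iff_cj.mpr he)
    have hx2 : cj x P = cj t P := (htwo x hx).resolve_left fun he => hxN (mem_normalizer_iff_cj.mpr he)
    rw [mem_normalizer_iff_cj]
    rcases htwo (x * y) (L'.mul_mem hx hy) with h1 | h1
    · exact h1
    · exfalso
      rw [cj_mul, ← hx2] at h1
      exact hyN (mem_normalizer_iff_cj.mpr (cj_injective x h1))
  -- step 2
  have hN : L' ≤ normalizer (P : Set G) := by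
    refine hsL'.le_of_conj (S := {t | t ∈ L' ∧ orderOf t = 2}) ?_ (fun t ht => hN1 t ht.1 ht.2) (s := t₀)
      ⟨ht₀, ot₀⟩ ht₀ (ne_one_of_ord ot₀)
    rintro x hx t ⟨ht, ot⟩
    exact ⟨L'.mul_mem (L'.mul_mem hx ht) (L'.inv_mem hx), by rw [orderOf_conj', ot]⟩
  -- step 3
  set X : Set G := {x | x ∈ P ∧ ∃ t ∈ L', orderOf t = 2 ∧ x * t = t * x} with hX
  have hXP : closure X ≤ P := by
    rw [closure_le]
    exact fun x hx => hx.1
  have hXN : closure X ≤ normalizer (L' : Set G) := by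
    rw [closure_le]
    rintro x ⟨-, t, ht, ot, hxt⟩
    exact h.cenle hL' ht ot (mem_cen.mpr hxt)
  have hLX : L' ≤ normalizer (closure X : Set G) := by
    apply le_normalizer_of_conj
    intro x hx y hy
    have h3 : closure X ≤ (closure X).comap (MulAut.conj x).toMonoidHom := by
      rw [closure_le]
      rintro z ⟨hz, t, ht, ot, hzt⟩
      refine subset_closure ⟨(mem_normalizer_iff.mp (hN hx) z).mp hz, x * t * x⁻¹,
        L'.mul_mem (L'.mul_mem hx ht) (L'.inv_mem hx), by rw [orderOf_conj', ot], ?_⟩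
      change x * z * x⁻¹ * (x * t * x⁻¹) = x * t * x⁻¹ * (x * z * x⁻¹)
      calc x * z * x⁻¹ * (x * t * x⁻¹) = x * (z * t) * x⁻¹ := by group
        _ = x * t * x⁻¹ * (x * z * x⁻¹) := by rw [hzt]; group
    exact h3 hy
  obtain ⟨e, he, oe, hte⟩ := exists_fix_inv hb ob ot₀ (hN ht₀)
  have heX : e ∈ closure X := subset_closure ⟨he, t₀, ht₀, ot₀, hte.symm⟩
  rcases hsL'.le_or_inf hLX with h1 | h1
  · exact absurd (h.ti hL' hP ht₀ (hXP (h1 ht₀)) ot₀) hPL'
  · refine (h.cen hL' hP he oe ?_).symm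
    rw [mem_centralizer_iff]
    intro y hy
    have h2 : y * e * y⁻¹ * e⁻¹ ∈ L' ⊓ closure X := by
      refine ⟨?_, ?_⟩
      · have h3 : e * y⁻¹ * e⁻¹ ∈ L' := (mem_normalizer_iff.mp (hXN heX) _).mp (L'.inv_mem hy)
        have e4 : y * e * y⁻¹ * e⁻¹ = y * (e * y⁻¹ * e⁻¹) := by group
        rw [e4]
        exact L'.mul_mem hy h3
      · exact (closure X).mul_mem ((mem_normalizer_iff.mp (hLX hy) _).mp heX) ((closure X).inv_mem heX)
    rw [h1, mem_bot] at h2
    calc y * e = y * e * y⁻¹ * e⁻¹ * (e * y) := by group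
      _ = e * y := by rw [h2, one_mul]

/-- **`Base` gives `Sys`.** -/
theorem sys [Finite G] : Sys SS (rl SS) where
  cj_mem := h.cj_mem
  rel_mem := fun _ _ _ hr => hr.2.1
  refl := fun _ hL => rl.refl hL
  symm := fun _ _ hr => hr.symm
  trans := fun _ _ _ h1 h2 => h.trans h1 h2
  relcj := fun _ _ hr g => hr.cj h.cj_mem g
  part := by
    intro L hL
    obtain ⟨P, hP, hr⟩ := h.part L hL
    exact ⟨P, ⟨hL, hP, Or.inr hr⟩, hr.ne.symm⟩
  comm := fun _ _ _ hr hne => hr.comm hne.symm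
  cen := fun _ hL _ hL' _ hb ob hbL => h.cen hL hL' hb ob hbL
  ti := fun _ hL _ hL' _ hb hb' ob => h.ti hL hL' hb hb' ob
  spread := fun _ hL _ hL' hc _ hr => h.spread hL hL' hc hr
  cenle := fun _ hL _ ht ot => h.cenle hL ht ot

end Base

end Cfsg.Agent.UGT.Blk
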