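import Cfsg.Agent.UGT.Blk.AdjEnd

/-!
# (A), (6): `Sys`, `LF`, `Root`, `ProdH` ⟹ `NoAdj`
-/

set_option autoImplicit false

open Subgroup
open Cfsg.Agent.SignalizersComponents.IntrinsicBasic

namespace Cfsg.Agent.UGT.Blk

variable {G : Type*} [Group G] {SS : Set (Subgroup G)} {rel : Subgroup G → Subgroup G → Prop}
  {PG : Subgroup G → Subgroup G}

/-- (6): an involution of a member does not move a member to a commuting one -/
theorem move (S : Sys SS rel) (F : ∀ L ∈ SS, LF L (PG L)) (HP : ProdH SS rel) {L K : Subgroup G} (hL : L ∈ SS)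
    (hK : K ∈ SS) {b : G} (hb : b ∈ K) (hb2 : orderOf b = 2) : ¬ Comm L (cj b L) := by
  intro hc
  obtain ⟨d, hd, hd2⟩ := (F L hL).even
  have h1 : d * (b * d * b⁻¹) ∈ centralizer (K : Set G) :=
    diag_mem_cen (F K hK) (F L hL).perfect hb hb2 (S.cenle K hK b hb hb2) hc hd
  have e1 : d * b * d⁻¹ = d * (b * d * b⁻¹) * b := by
    have := inv2_inv hd2
    calc d * b * d⁻¹ = d * b * d := by rw [this]
      _ = _ := by group
  have h2 : As K (d * b * d⁻¹) b := by
    rw [e1]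
    have := (As.of_cen h1).mul (As.refl K b) (le_normalizer hb)
    rwa [one_mul] at this
  have h3 : d * b * d⁻¹ ∈ cj d K := conj_mem_cj hb
  have h4 : orderOf (d * b * d⁻¹) = 2 := ord2_conj hb2 d
  have hnc : d * b * d⁻¹ ∉ centralizer (K : Set G) := fun hc =>
    inv2_ne hb2 ((F K hK).cen_bot hb (h2.symm.cen_of hc))
  by_cases h5 : cj d K = K
  · rw [h5] at h3
    have e2 := (F K hK).as_inj h3 hb (As.refl K _) h2
    have e3 : d = b * d * b⁻¹ := by
      rw [e2, eq_comm, mul_eq_right] at e1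
      exact (mul_eq_one_iff_eq_inv.mp (by rw [← e1])).trans (inv2_inv (ord2_conj hd2 b))
    have h6 : d ∈ cj b L := by rw [e3]; exact conj_mem_cj hd
    have h7 := S.ti L hL _ (S.cj_mem L hL b) d hd h6 hd2
    rw [← h7] at hc
    exact (F L hL).not_self hc
  · have hbp : BP SS (cj d K) K := ⟨S.cj_mem K hK d, hK, h5, fun hc => hnc (hc.le h3)⟩
    exact hbp.no_inn S F HP h3 h4 ⟨b, hb, h2⟩

theorem move' (S : Sys SS rel) (F : ∀ L ∈ SS, LF L (PG L)) (HP : ProdH SS rel) {L K P : Subgroup G} (hL : L ∈ SS)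
    (hK : K ∈ SS) {b : G} (hb : b ∈ K) (hb2 : orderOf b = 2) (hn : b ∈ normalizer (L : Set G)) (r : rel L P) :
    b ∈ normalizer (P : Set G) := by
  rw [mem_normalizer_iff_cj]
  by_contra hne
  have hP := S.rel_mem L hL P r
  have r1 : rel L (cj b P) := by
    have := S.relcj L P r b
    rwa [mem_normalizer_iff_cj.mp hn] at this
  exact move S F HP hP hK hb hb2 (S.comm P hP _ (S.trans _ _ _ (S.symm _ _ r) r1) hne)

theorem odd_gen [Finite G] {K Y : Subgroup G} (hY : ∀ y ∈ Y, y * y = 1 → y = 1) {y : G} (hy : y ∈ Y)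
    (h : y⁻¹ * y⁻¹ ∈ centralizer (K : Set G)) : y ∈ centralizer (K : Set G) := by
  have h1 : ¬ 2 ∣ orderOf y := by
    rintro ⟨n, hn⟩
    have h2 : y ^ n = 1 := hY _ (Y.pow_mem hy n) (by rw [← pow_add, ← two_mul, ← hn, pow_orderOf_eq_one])
    have h3 := orderOf_dvd_of_pow_eq_one h2
    have h4 := orderOf_pos y
    have h5 : 0 < n := by omega
    have := Nat.le_of_dvd h5 h3
    omega
  obtain ⟨k, hk⟩ := Nat.odd_iff.mpr (Nat.two_dvd_ne_zero.mp h1)
  have h2 : y * y ∈ centralizer (K : Set G) := by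
    have := inv_mem h
    simpa using this
  have h3 : y = (y * y) ^ (k + 1) := by
    rw [← pow_two, ← pow_mul, show 2 * (k + 1) = orderOf y + 1 by omega, pow_succ, pow_orderOf_eq_one, one_mul]
  rw [h3]; exact pow_mem h2 _

/-- (A) -/
theorem BP.no_adj [Finite G] {K L : Subgroup G} (h : BP SS K L) (S : Sys SS rel) (F : ∀ L ∈ SS, LF L (PG L))
    (R : ∀ L ∈ SS, Root L (PG L)) (HP : ProdH SS rel) {u : G} (hu : u ∈ K) (h2 : orderOf u = 2)
    (hn : u ∈ normalizer (L : Set G)) : False := by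
  have FK := F K h.mK
  have FL := F L h.mL
  have hpg := h.pgl S F hu h2 hn
  have hni := h.no_inn S F HP hu h2
  have hC := S.cenle K h.mK u hu h2
  obtain ⟨Y, hYL, hYu, hYo, hYt, hYc⟩ := R L h.mL u hpg (inv2_sq h2) hni
  obtain ⟨t, ht, ht2, htu⟩ := FL.fix u hn (inv2_sq h2)
  obtain ⟨P, rP, hPL⟩ := S.part L h.mL
  have cLP := S.comm L h.mL P rP hPL
  have hKP := h.prt S rP
  have hnP := move' S F HP h.mL h.mK hu h2 hn rP
  obtain ⟨s, hs, hs2, hsu⟩ := (F P hKP.mL).fix u hnP (inv2_sq h2)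
  have htn := hC (mem_csing.mpr htu)
  have hsn := hC (mem_csing.mpr hsu)
  have htpg := h.symm.pgl S F ht ht2 htn
  have hspg := hKP.symm.pgl S F hs hs2 hsn
  have hti := h.symm.no_inn S F HP ht ht2
  have hsi := hKP.symm.no_inn S F HP hs hs2
  have hts : t * s = s * t := cLP t ht s hs
  -- an element `e = t s` or `t s u` centralizing `K`
  have key : t * s ∈ centralizer (K : Set G) ∨ t * s * u ∈ centralizer (K : Set G) := by
    by_cases hc : t * s ∈ centralizer (K : Set G)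
    · exact Or.inl hc
    · right
      rcases FK.four u hu h2 t htpg s hspg (inv2_sq ht2) (inv2_sq hs2) hts htu hsu (h.symm.ncen S ht ht2)
        (hKP.symm.ncen S hs hs2) hc with e | e | e
      · exact absurd ⟨u, hu, e⟩ hti
      · exact absurd ⟨u, hu, e⟩ hsi
      · exact e.mul_mem_cen hu (inv2_sq h2)
  have hYs : ∀ y ∈ Y, s * y = y * s := fun y hy => (cLP y (hYL hy) s hs).symm
  have hYK : ∀ y ∈ Y, y ∈ centralizer (K : Set G) := by
    intro y hy
    refine odd_gen hYo hy ?_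
    have hyn : y ∈ normalizer (K : Set G) := hC (mem_csing.mpr (hYu y hy))
    have hty := hYt t ht ht2 htu y hy
    obtain ⟨e, he, hey⟩ : ∃ e ∈ centralizer (K : Set G), e * y * e⁻¹ = y⁻¹ := by
      rcases key with e | e
      · refine ⟨_, e, ?_⟩
        calc t * s * y * (t * s)⁻¹ = t * (s * y) * s⁻¹ * t⁻¹ := by group
          _ = t * y * t⁻¹ := by rw [hYs y hy]; group
          _ = y⁻¹ := hty
      · refine ⟨_, e, ?_⟩
        calc t * s * u * y * (t * s * u)⁻¹ = t * s * (u * y) * u⁻¹ * s⁻¹ * t⁻¹ := by group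
          _ = t * (s * y) * s⁻¹ * t⁻¹ := by rw [← hYu y hy]; group
          _ = t * y * t⁻¹ := by rw [hYs y hy]; group
          _ = y⁻¹ := hty
    have h3 : y * e⁻¹ * y⁻¹ ∈ centralizer (K : Set G) := by
      refine mem_cenL.mpr fun x hx => ?_
      have hx' : y⁻¹ * x * y ∈ K := by
        have := (mem_normalizer_iff.mp (inv_mem hyn) x).mp hx
        rwa [inv_inv] at this
      have := mem_cenL.mp (inv_mem he) _ hx'
      calc x * (y * e⁻¹ * y⁻¹) = y * (y⁻¹ * x * y * e⁻¹) * y⁻¹ := by group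
        _ = y * e⁻¹ * y⁻¹ * x := by rw [this]; group
    have h4 := mul_mem he h3
    have h5 : e * (y * e⁻¹ * y⁻¹) = y⁻¹ * y⁻¹ := by rw [← hey]; group
    rwa [h5] at h4
  have hKY : K ≤ centralizer (Y : Set G) := fun x hx => mem_cenL.mpr fun y hy => (mem_cenL.mp (hYK y hy) x hx).symm
  exact hni (FL.perf K FK.perfect (hKY.trans hYc) u hu)

theorem noAdj [Finite G] (S : Sys SS rel) (F : ∀ L ∈ SS, LF L (PG L)) (R : ∀ L ∈ SS, Root L (PG L))
    (HP : ProdH SS rel) : NoAdj SS := by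
  refine ⟨fun L hL K hK hne b hb hb2 hn => ?_, fun L hL K hK b hb hb2 hc => absurd hc (move S F HP hL hK hb hb2)⟩
  by_contra hnc
  exact (⟨hK, hL, hne.symm, hnc⟩ : BP SS K L).no_adj S F R HP hb hb2 hn

/-- commuting involutions: field `a` of `BL.Sys` -/
theorem noAdj_comm [Finite G] (S : Sys SS rel) (F : ∀ L ∈ SS, LF L (PG L)) (R : ∀ L ∈ SS, Root L (PG L))
    (HP : ProdH SS rel) {L K : Subgroup G} (hL : L ∈ SS) (hK : K ∈ SS) {t u : G} (ht : t ∈ L) (hu : u ∈ K)
    (ht2 : orderOf t = 2) (hu2 : orderOf u = 2) (h : t * u = u * t) : L = K ∨ Comm L K := by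
  by_cases hne : L = K
  · exact Or.inl hne
  · right
    exact ((noAdj S F R HP).adj L hL K hK hne u hu hu2
      (S.cenle L hL t ht ht2 (mem_csing.mpr h.symm))).symm

end Cfsg.Agent.UGT.Blk
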