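import Cfsg.Agent.UGT.Blk.AdjFull

/-!
# (A4)(iii)-(v): the full type is dead; `BP.no_inn`: no involution of `K` is inner on `L`
-/

set_option autoImplicit false

open Subgroup
open Cfsg.Agent.SignalizersComponents.IntrinsicBasic

namespace Cfsg.Agent.UGT.Blk

variable {G : Type*} [Group G] {SS : Set (Subgroup G)} {rel : Subgroup G → Subgroup G → Prop}
  {PG : Subgroup G → Subgroup G}

/-- the class of `L` is `{L, P, N}` -/
structure Cls3 (rel : Subgroup G → Subgroup G → Prop) (L P N : Subgroup G) : Prop where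
  rP : rel L P
  rN : rel L N
  LP : L ≠ P
  LN : L ≠ N
  PN : P ≠ N
  all : ∀ F, rel L F → F = L ∨ F = P ∨ F = N

/-- products of two involutions: the third members are components of the centralizer -/
def ProdH (SS : Set (Subgroup G)) (rel : Subgroup G → Subgroup G → Prop) : Prop :=
  ∀ L P N L' P' N' : Subgroup G, L ∈ SS → L' ∈ SS → Cls3 rel L P N → Cls3 rel L' P' N' →
    ∀ t ∈ L, ∀ s ∈ P, ∀ t' ∈ L', ∀ s' ∈ P', orderOf t = 2 → orderOf s = 2 → orderOf t' = 2 → orderOf s' = 2 →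
      t * s = t' * s' → N = N' ∨ Comm N N'

theorem Cls3.cj {L P N : Subgroup G} (h : Cls3 rel L P N) (S : Sys SS rel) (g : G) :
    Cls3 rel (cj g L) (cj g P) (cj g N) := by
  refine ⟨S.relcj _ _ h.rP g, S.relcj _ _ h.rN g, fun e => h.LP (cj_injective g e), fun e => h.LN (cj_injective g e),
    fun e => h.PN (cj_injective g e), fun F hF => ?_⟩
  have := S.relcj _ _ hF g⁻¹
  rw [cj_inv_cj] at this
  rcases h.all _ this with e | e | e
  · left; rw [← e, cj_cj_inv]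
  · right; left; rw [← e, cj_cj_inv]
  · right; right; rw [← e, cj_cj_inv]

/-- (A4) -/
theorem Full.dead {K L : Subgroup G} {u m a l : G} (h : Full SS K L u m a l) (S : Sys SS rel)
    (F : ∀ L ∈ SS, LF L (PG L)) (HP : ProdH SS rel) : False := by
  have hKs := h.bp.mK
  have hLs := h.bp.mL
  obtain ⟨P, rP, hPL⟩ := S.part L hLs
  obtain ⟨c, k, h'⟩ := h.partner S F rP
  have hPs := h'.bp.mL
  have cLP : Comm L P := S.comm L hLs P rP hPL
  have s := h.symm S F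
  have s' := h'.symm S F
  -- the element `x`
  have X : m⁻¹ * l * k * u * (m⁻¹ * l * k)⁻¹ = m⁻¹ * u * m * (l⁻¹ * a * l) * (k⁻¹ * c * k) := by
    have e1 : k * u * k⁻¹ = u * (k⁻¹ * c * k) := s'.mam S F
    have e2 : l * (u * (k⁻¹ * c * k)) * l⁻¹ = u * (l⁻¹ * a * l) * (k⁻¹ * c * k) := by
      have e3 := cLP l h.dL.mK _ h'.dL.u2K
      have e4 : l * u * l⁻¹ = u * (l⁻¹ * a * l) := s.mam S F
      calc l * (u * (k⁻¹ * c * k)) * l⁻¹ = (l * u * l⁻¹) * (l * (k⁻¹ * c * k)) * l⁻¹ := by group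
        _ = (l * u * l⁻¹) * (k⁻¹ * c * k) := by rw [e3]; group
        _ = u * (l⁻¹ * a * l) * (k⁻¹ * c * k) := by rw [e4]
    have e5 : m⁻¹ * (u * (l⁻¹ * a * l) * (k⁻¹ * c * k)) * m =
        m⁻¹ * u * m * (l⁻¹ * a * l) * (k⁻¹ * c * k) := by
      have e6 := h.ma2m' S F
      have e7 := h'.ma2m' S F
      have e8 : k⁻¹ * c * k * u = u * (k⁻¹ * c * k) := (h'.as0.comm_iff h'.dL.u2K).mpr
        (by rw [h'.dL.u20, h'.dL.u02])
      calc m⁻¹ * (u * (l⁻¹ * a * l) * (k⁻¹ * c * k)) * m =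
            m⁻¹ * u * m * (m⁻¹ * (l⁻¹ * a * l) * m) * (m⁻¹ * (k⁻¹ * c * k) * m) := by group
        _ = m⁻¹ * u * m * (l⁻¹ * a * l * u) * (k⁻¹ * c * k * u) := by rw [e6, e7]
        _ = m⁻¹ * u * m * (l⁻¹ * a * l) * (u * u) * (k⁻¹ * c * k) := by rw [e8]; group
        _ = m⁻¹ * u * m * (l⁻¹ * a * l) * (k⁻¹ * c * k) := by rw [inv2_sq h.dK.ou, mul_one]
    calc m⁻¹ * l * k * u * (m⁻¹ * l * k)⁻¹ = m⁻¹ * (l * (k * u * k⁻¹) * l⁻¹) * m := by group
      _ = m⁻¹ * u * m * (l⁻¹ * a * l) * (k⁻¹ * c * k) := by rw [e1, e2, e5]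
  obtain ⟨N, hN⟩ : ∃ N, N = cj (m⁻¹ * l * k) K := ⟨_, rfl⟩
  have hNs : N ∈ SS := by rw [hN]; exact S.cj_mem K hKs _
  obtain ⟨x, hx⟩ : ∃ x, x = m⁻¹ * u * m * (l⁻¹ * a * l) * (k⁻¹ * c * k) := ⟨_, rfl⟩
  have hxN : x ∈ N := by rw [hx, ← X, hN]; exact conj_mem_cj h.dK.uK
  have hx2 : orderOf x = 2 := by rw [hx, ← X]; exact ord2_conj h.dK.ou _
  have hxL : x ∈ centralizer (L : Set G) := by
    rw [hx]; exact mul_mem (h.as2.mul_mem_cen h.dL.u2K (inv2_sq h.dL.o2)) (cLP.symm.le h'.dL.u2K)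
  have hxP : x ∈ centralizer (P : Set G) := by
    have e : x = (l⁻¹ * a * l) * (m⁻¹ * u * m * (k⁻¹ * c * k)) := by
      have e0 : (l⁻¹ * a * l) * (m⁻¹ * u * m) = (m⁻¹ * u * m) * (l⁻¹ * a * l) := h.as2.self_comm h.dL.u2K
      rw [hx, ← e0]; group
    rw [e]; exact mul_mem (cLP.le h.dL.u2K) (h'.as2.mul_mem_cen h'.dL.u2K (inv2_sq h'.dL.o2))
  have hxK : x ∉ centralizer (K : Set G) := by
    intro hc
    have a1 : As K (l⁻¹ * a * l) (m⁻¹ * u * m) := s.as2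
    have a2 : As K (k⁻¹ * c * k) (m⁻¹ * u * m) := s'.as2
    have a3 := ((As.refl K (m⁻¹ * u * m)).mul a1 (le_normalizer h.dK.u2K)).mul a2 (le_normalizer h.dK.u2K)
    rw [← hx, inv2_sq h.dK.o2, one_mul] at a3
    exact inv2_ne h.dK.o2 ((F K hKs).cen_bot h.dK.u2K (a3.symm.cen_of hc))
  have cNL : Comm N L := S.cen L hLs N hNs x hxN hx2 hxL
  have cNP : Comm N P := S.cen P hPs N hNs x hxN hx2 hxP
  have F4 : ∀ E ∈ SS, Comm E L → Comm E P → Comm E N → Comm K E := by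
    intro E hE h1 h2 h3
    refine S.cen E hE K hKs _ h.dK.u2K h.dK.o2 ?_
    have e : m⁻¹ * u * m = x * (k⁻¹ * c * k)⁻¹ * (l⁻¹ * a * l)⁻¹ := by rw [hx]; group
    rw [e]
    exact mul_mem (mul_mem (h3.symm.le hxN) (inv_mem (h2.symm.le h'.dL.u2K))) (inv_mem (h1.symm.le h.dL.u2K))
  have nLN : L ≠ N := by rintro e; rw [← e] at cNL; exact (F L hLs).not_self cNL
  have nPN : P ≠ N := by rintro e; rw [← e] at cNP; exact (F P hPs).not_self cNP
  have rN : rel L N := by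
    by_contra hr
    obtain ⟨N', rN', hNN'⟩ := S.part N hNs
    have hN's := S.rel_mem N hNs N' rN'
    have c0 : Comm N N' := S.comm N hNs N' rN' hNN'
    have c1 : Comm L N' := by
      rcases S.spread N hNs L hLs cNL.symm N' rN' with e | e
      · exact absurd (by rw [e]; exact S.symm _ _ rN') hr
      · exact e
    have c2 : Comm P N' := by
      rcases S.spread N hNs P hPs cNP.symm N' rN' with e | e
      · exact absurd (S.trans _ _ _ rP (by rw [e]; exact S.symm _ _ rN')) hr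
      · exact e
    have c3 := F4 N' hN's c1.symm c2.symm c0.symm
    rcases S.spread N' hN's K hKs c3 N (S.symm _ _ rN') with e | e
    · rw [← e] at cNL; exact h.bp.nc cNL
    · exact hxK (e.symm.le hxN)
  have C3 : Cls3 rel L P N := by
    refine ⟨rP, rN, hPL.symm, nLN, nPN, fun E rE => ?_⟩
    by_contra hE
    push Not at hE
    obtain ⟨hE1, hE2, hE3⟩ := hE
    have hEs := S.rel_mem L hLs E rE
    have c1 := S.comm L hLs E rE hE1
    have c2 := S.comm P hPs E (S.trans _ _ _ (S.symm _ _ rP) rE) hE2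
    have c3 := S.comm N hNs E (S.trans _ _ _ (S.symm _ _ rN) rE) hE3
    have c4 := F4 E hEs c1.symm c2.symm c3.symm
    rcases S.spread E hEs K hKs c4 L (S.symm _ _ rE) with e | e
    · exact h.bp.ne e
    · exact h.bp.nc e
  -- (v)
  have C3' := C3.cj S (l * m)
  rw [h.KL S F] at C3'
  have Z : l * a * l⁻¹ * c = m⁻¹ * u * m * (l * m * c * (l * m)⁻¹) := by
    have e1 : m * c * m⁻¹ = c * (m⁻¹ * u * m) := h'.mam S F
    have e2 : l * (m⁻¹ * u * m) * l⁻¹ = m⁻¹ * u * m * (l * a * l⁻¹) := s.ma2m S F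
    have e3 := cLP l h.dL.mK c h'.dL.uK
    have e4 : c * (m⁻¹ * u * m) = m⁻¹ * u * m * c := h'.au2
    have e5 := cLP _ h.dL.u1K c h'.dL.uK
    calc l * a * l⁻¹ * c = c * (l * a * l⁻¹) := e5
      _ = (m⁻¹ * u * m) * (m⁻¹ * u * m) * c * (l * a * l⁻¹) := by rw [inv2_sq h.dK.o2, one_mul]
      _ = (m⁻¹ * u * m) * (m⁻¹ * u * m * c) * (l * a * l⁻¹) := by group
      _ = (m⁻¹ * u * m) * (c * (m⁻¹ * u * m * (l * a * l⁻¹))) := by rw [← e4]; group
      _ = (m⁻¹ * u * m) * (c * (l * (m⁻¹ * u * m) * l⁻¹)) := by rw [e2]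
      _ = (m⁻¹ * u * m) * ((c * l) * (m⁻¹ * u * m) * l⁻¹) := by group
      _ = (m⁻¹ * u * m) * (l * (c * (m⁻¹ * u * m)) * l⁻¹) := by rw [← e3]; group
      _ = (m⁻¹ * u * m) * (l * (m * c * m⁻¹) * l⁻¹) := by rw [e1]
      _ = m⁻¹ * u * m * (l * m * c * (l * m)⁻¹) := by group
  have hN2s := S.cj_mem N hNs (l * m)
  rcases HP L P N K _ _ hLs hKs C3 C3' _ h.dL.u1K _ h'.dL.uK _ h.dK.u2K _ (conj_mem_cj h'.dL.uK) h.dL.o1
    h'.dL.ou h.dK.o2 (ord2_conj h'.dL.ou _) Z with e | e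
  · have r1 : rel K N := by
      have := C3'.rN
      rwa [← e] at this
    exact h.bp.nc (S.comm K hKs L (S.trans _ _ _ r1 (S.symm _ _ rN)) h.bp.ne.symm)
  · rcases S.spread N hNs _ hN2s e.symm L (S.symm _ _ rN) with e1 | e1
    · have r1 := C3'.rN
      rw [e1] at r1
      exact h.bp.nc (S.comm K hKs L r1 h.bp.ne.symm)
    · rcases S.spread _ hN2s L hLs e1.symm K (S.symm _ _ C3'.rN) with e2 | e2
      · exact h.bp.ne e2.symm
      · exact h.bp.nc e2.symm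

/-- no involution of `K` acts as an inner automorphism on `L` -/
theorem BP.no_inn {K L : Subgroup G} (h : BP SS K L) (S : Sys SS rel) (F : ∀ L ∈ SS, LF L (PG L))
    (HP : ProdH SS rel) {u : G} (hu : u ∈ K) (h2 : orderOf u = 2) : ¬ Inn L u := by
  rintro ⟨a, ha, hs⟩
  have ha2 := (F L h.mL).ord2 (inv2_sq h2) ha hs (h.ncen S hu h2)
  obtain ⟨a1, ha1, ha12, -, hs1⟩ := h.back S F hu h2 ha ha2 hs
  have hK := h.symm.fiv S F ha1 ha12 hu h2 hs1
  obtain ⟨m, dK⟩ := hK.kd hu h2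
  obtain ⟨l, hf⟩ := h.full S F dK ha ha2 hs
  exact hf.dead S F HP

end Cfsg.Agent.UGT.Blk
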