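import Cfsg.Agent.UGT.Blk.AdjInn

/-!
# (A4): the full type is dead
-/

set_option autoImplicit false

open Subgroup
open Cfsg.Agent.SignalizersComponents.IntrinsicBasic
open scoped commutatorElement

namespace Cfsg.Agent.UGT.Blk

variable {G : Type*} [Group G] {SS : Set (Subgroup G)} {rel : Subgroup G → Subgroup G → Prop}
  {PG : Subgroup G → Subgroup G}

theorem As.conj_eq {K : Subgroup G} {a w n : G} (h : As K a w) (hw : w ∈ K) (w2 : w * w = 1) (hn : n ∈ K) :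
    n * a * n⁻¹ = a * w * (n * w * n⁻¹) := by
  have h1 := mem_cenL.mp (h.mul_mem_cen hw w2) n hn
  calc n * a * n⁻¹ = n * (a * w) * w⁻¹ * n⁻¹ := by group
    _ = n * (a * w) * w * n⁻¹ := by rw [inv_eq_of_mul_eq_one_right w2]
    _ = a * w * (n * w * n⁻¹) := by rw [h1]; group

theorem As.conj_eq' {K : Subgroup G} {a w n : G} (h : As K a w) (hw : w ∈ K) (w2 : w * w = 1) (hn : n ∈ K) :
    n⁻¹ * a * n = a * w * (n⁻¹ * w * n) := by
  have := h.conj_eq hw w2 (K.inv_mem hn)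
  rwa [inv_inv] at this

/-- (A4)(i), exclusion -/
theorem BP.excl {K L : Subgroup G} (h : BP SS K L) (S : Sys SS rel) (F : ∀ L ∈ SS, LF L (PG L)) {u n a : G}
    (dK : Kd K u n) (ha : a ∈ L) (ha2 : orderOf a = 2) (hs : As L u a) (hb : As K a (n * u * n⁻¹))
    (hv : ∃ v ∈ L, orderOf v = 2 ∧ As K v (n⁻¹ * u * n)) : False := by
  obtain ⟨v, hvL, hv2, hvs⟩ := hv
  have b1 : n * a * n⁻¹ = a * u := by
    rw [hb.conj_eq dK.u1K (inv2_sq dK.o1) dK.mK, dK.r1, mul_assoc, dK.u12]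
  have b2 : n⁻¹ * a * n = a * (n⁻¹ * u * n) := by
    rw [hb.conj_eq' dK.u1K (inv2_sq dK.o1) dK.mK, dK.l1, mul_assoc, dK.ur']
  have b3 : n * v * n⁻¹ = v * (n * u * n⁻¹) := by
    rw [hvs.conj_eq dK.u2K (inv2_sq dK.o2) dK.mK, dK.r2, mul_assoc, dK.u20]
  have hau : a * u = u * a := hs.self_comm ha
  have aL1 : n * a * n⁻¹ ∈ cj n L := conj_mem_cj ha
  have aC : n * a * n⁻¹ ∈ centralizer (L : Set G) := by rw [b1]; exact hs.mul_mem_cen' (inv2_sq ha2)
  have c1 : Comm (cj n L) L :=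
    S.cen L h.mL _ (S.cj_mem L h.mL n) _ aL1 (ord2_conj ha2 n) aC
  have c2 : Comm L (cj n⁻¹ L) := by
    have := c1.cj n⁻¹; rwa [cj_inv_cj] at this
  have c3 : Comm (cj n⁻¹ L) (cj n L) := by
    have := c1.cj n; rwa [← cj_mul, ← dK.minv] at this
  have hm : n⁻¹ * a * n ∈ cj n⁻¹ L := by
    have := conj_mem_cj (g := n⁻¹) ha; rwa [inv_inv] at this
  have hm2 : orderOf (n⁻¹ * a * n) = 2 := by
    have := ord2_conj ha2 n⁻¹; rwa [inv_inv] at this
  have key : n⁻¹ * a * n = (n * a * n⁻¹)⁻¹ * (v * (n * v * n⁻¹)) := by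
    rw [eq_inv_mul_iff_mul_eq, b1, b2, b3]
    calc a * u * (a * (n⁻¹ * u * n)) = u * (a * a) * (n⁻¹ * u * n) := by rw [hau]; group
      _ = n * u * n⁻¹ := by rw [inv2_sq ha2, mul_one, dK.u02]
      _ = v * (v * (n * u * n⁻¹)) := by rw [← mul_assoc, inv2_sq hv2, one_mul]
  have hcen : n⁻¹ * a * n ∈ centralizer ((cj n⁻¹ L : Subgroup G) : Set G) := by
    rw [key]
    refine mul_mem (inv_mem (c3.symm.le aL1)) (mul_mem (c2.le hvL) (c3.symm.le (conj_mem_cj hvL)))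
  have hL' := S.cj_mem L h.mL n⁻¹
  exact (F _ hL').not_self (S.cen _ hL' _ hL' _ hm hm2 hcen)

section Full

variable {K L : Subgroup G} {u m a l : G}

theorem Full.as2 (h : Full SS K L u m a l) : As L (m⁻¹ * u * m) (l⁻¹ * a * l) := by
  rw [← h.dK.ur, ← h.dL.ur]
  exact h.as0.mul h.as1 (le_normalizer h.dL.u1K)

theorem Full.rot (h : Full SS K L u m a l) : Full SS K L (m * u * m⁻¹) m (l * a * l⁻¹) l :=
  ⟨h.bp, h.dK.rot, h.dL.rot, h.as1, by rw [h.dK.r1, h.dL.r1]; exact h.as2⟩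

theorem Full.au (h : Full SS K L u m a l) : a * u = u * a := h.as0.self_comm h.dL.uK

theorem Full.au1 (h : Full SS K L u m a l) : a * (m * u * m⁻¹) = m * u * m⁻¹ * a :=
  (h.as1.comm_iff h.dL.uK).mpr h.dL.c01

theorem Full.au2 (h : Full SS K L u m a l) : a * (m⁻¹ * u * m) = m⁻¹ * u * m * a :=
  (h.as2.comm_iff h.dL.uK).mpr (by rw [h.dL.u02, h.dL.u20])

/-- (A4)(i) -/
theorem Full.back (h : Full SS K L u m a l) (S : Sys SS rel) (F : ∀ L ∈ SS, LF L (PG L)) : As K a u := by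
  obtain ⟨a1, ha1, ha12, -, hs1⟩ := h.bp.back S F h.dK.uK h.dK.ou h.dL.uK h.dL.ou h.as0
  have hK := h.bp.symm.fiv S F ha1 ha12 h.dK.uK h.dK.ou hs1
  obtain ⟨-, -, f3⟩ := hK u h.dK.uK h.dK.ou
  have han := S.cenle K h.bp.mK u h.dK.uK h.dK.ou (mem_csing.mpr h.au)
  have hcom : ∀ x ∈ K, x * u = u * x → x * a = a * x := by
    intro x hx hxu
    rcases h.dK.cK x hx hxu with e | e | e | e <;> rw [e]
    · rw [one_mul, mul_one]
    · exact h.au.symm
    · exact h.au1.symm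
    · exact h.au2.symm
  obtain ⟨z, hz, hzu, hzs⟩ := f3 a (h.bp.symm.pgl S F h.dL.uK h.dL.ou han) (inv2_sq h.dL.ou) hcom
  have hv1 : ∃ v ∈ L, orderOf v = 2 ∧ As K v (m * u * m⁻¹) := by
    obtain ⟨v, h1, h2, -, h3⟩ := h.bp.back S F h.dK.u1K h.dK.o1 h.dL.u1K h.dL.o1 h.as1
    exact ⟨v, h1, h2, h3⟩
  have hv2 : ∃ v ∈ L, orderOf v = 2 ∧ As K v (m⁻¹ * u * m) := by
    obtain ⟨v, h1, h2, -, h3⟩ := h.bp.back S F h.dK.u2K h.dK.o2 h.dL.u2K h.dL.o2 h.as2
    exact ⟨v, h1, h2, h3⟩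
  rcases h.dK.cK z hz hzu with e | e | e | e <;> rw [e] at hzs
  · exact absurd (as_one_iff.mp hzs) (h.bp.symm.ncen S h.dL.uK h.dL.ou)
  · exact hzs
  · exact (h.bp.excl S F h.dK h.dL.uK h.dL.ou h.as0 hzs hv2).elim
  · exact (h.bp.excl S F h.dK.inv h.dL.uK h.dL.ou h.as0 (by rw [inv_inv]; exact hzs)
      (by rw [inv_inv]; exact hv1)).elim

theorem Full.symm (h : Full SS K L u m a l) (S : Sys SS rel) (F : ∀ L ∈ SS, LF L (PG L)) :
    Full SS L K a l u m :=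
  ⟨h.bp.symm, h.dL, h.dK, h.back S F, h.rot.back S F⟩

/-- `m a m⁻¹ = a u₂` -/
theorem Full.mam (h : Full SS K L u m a l) (S : Sys SS rel) (F : ∀ L ∈ SS, LF L (PG L)) :
    m * a * m⁻¹ = a * (m⁻¹ * u * m) := by
  rw [(h.back S F).conj_eq h.dK.uK (inv2_sq h.dK.ou) h.dK.mK, mul_assoc, h.dK.ur]

/-- `m⁻¹ a m = a u₁` -/
theorem Full.mam' (h : Full SS K L u m a l) (S : Sys SS rel) (F : ∀ L ∈ SS, LF L (PG L)) :
    m⁻¹ * a * m = a * (m * u * m⁻¹) := by
  rw [(h.back S F).conj_eq' h.dK.uK (inv2_sq h.dK.ou) h.dK.mK, mul_assoc, h.dK.u02]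

/-- `m a₂ m⁻¹ = a₂ u₁` -/
theorem Full.ma2m (h : Full SS K L u m a l) (S : Sys SS rel) (F : ∀ L ∈ SS, LF L (PG L)) :
    m * (l⁻¹ * a * l) * m⁻¹ = l⁻¹ * a * l * (m * u * m⁻¹) := by
  have := h.rot.rot.mam S F
  rw [h.dL.r1, h.dK.r1, h.dK.l2] at this
  exact this

/-- `m⁻¹ a₂ m = a₂ u` -/
theorem Full.ma2m' (h : Full SS K L u m a l) (S : Sys SS rel) (F : ∀ L ∈ SS, LF L (PG L)) :
    m⁻¹ * (l⁻¹ * a * l) * m = l⁻¹ * a * l * u := by
  have := h.rot.rot.mam' S F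
  rw [h.dL.r1, h.dK.r1, h.dK.r2] at this
  exact this

/-- `K = L^{lm}` -/
theorem Full.KL (h : Full SS K L u m a l) (S : Sys SS rel) (F : ∀ L ∈ SS, LF L (PG L)) : cj (l * m) L = K := by
  have h1 : m * a * m⁻¹ ∈ cj m L := conj_mem_cj h.dL.uK
  have h2 : m * a * m⁻¹ ∈ cj l⁻¹ K := by
    have e : m * a * m⁻¹ = l⁻¹ * (m⁻¹ * u * m) * l⁻¹⁻¹ := by
      rw [inv_inv, (h.symm S F).ma2m' S F, h.mam S F, h.au2]
    rw [e]; exact conj_mem_cj h.dK.u2K
  have := S.ti _ (S.cj_mem L h.bp.mL m) _ (S.cj_mem K h.bp.mK l⁻¹) _ h1 h2 (ord2_conj h.dL.ou m)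
  rw [cj_mul, this, cj_cj_inv]

end Full

/-! ### (ii) -/

/-- the diagonal -/
def diag (P : Subgroup G) (w : G) (h : Comm P (cj w P)) : ↥P →* G where
  toFun d := (d : G) * (w * d * w⁻¹)
  map_one' := by simp
  map_mul' d e := by
    have := h e e.2 (w * d * w⁻¹) (conj_mem_cj d.2)
    calc ((d * e : P) : G) * (w * (d * e : P) * w⁻¹) = d * (e * (w * d * w⁻¹)) * (w * e * w⁻¹) := by
          simp only [coe_mul]; group
      _ = d * (w * d * w⁻¹) * (e * (w * e * w⁻¹)) := by rw [this]; group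

theorem diag_mem_cen {K P : Subgroup G} {PK : Subgroup G} (FK : LF K PK) (hP : ⁅P, P⁆ = P) {w : G} (hw : w ∈ K)
    (hw2 : orderOf w = 2) (hC : centralizer ({w} : Set G) ≤ normalizer (K : Set G)) (h : Comm P (cj w P)) {d : G}
    (hd : d ∈ P) : d * (w * d * w⁻¹) ∈ centralizer (K : Set G) := by
  have h1 : ∀ x ∈ (diag P w h).range, x * w = w * x := by
    rintro _ ⟨d, rfl⟩
    have := h d d.2 (w * d * w⁻¹) (conj_mem_cj d.2)
    change (d : G) * (w * d * w⁻¹) * w = w * ((d : G) * (w * d * w⁻¹))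
    have e2 := inv2_inv hw2
    calc (d : G) * (w * d * w⁻¹) * w = d * w * d := by group
      _ = (d * (w * d * w⁻¹)) * w := by group
      _ = (w * d * w⁻¹) * d * w := by rw [this]
      _ = w * (d * (w⁻¹ * d * w)) := by group
      _ = w * ((d : G) * (w * d * w⁻¹)) := by rw [e2]
  have h2 : ⁅(diag P w h).range, (diag P w h).range⁆ = (diag P w h).range := by
    rw [MonoidHom.range_eq_map, ← map_commutator]
    congr 1
    have h3 : (⁅(⊤ : Subgroup P), (⊤ : Subgroup P)⁆).map P.subtype = (⊤ : Subgroup P).map P.subtype := by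
      rw [map_commutator, ← MonoidHom.range_eq_map, P.range_subtype, hP]
    exact map_injective P.subtype_injective h3
  have h4 := FK.solv w hw hw2 _ h2 (fun x hx => hC (mem_csing.mpr (h1 x hx))) h1
  exact h4 ⟨⟨d, hd⟩, rfl⟩

/-- largest `P`-invariant subgroup of `C_P(K)` -/
def coreC (K P : Subgroup G) : Subgroup G where
  carrier := {x | x ∈ P ∧ ∀ e ∈ P, e * x * e⁻¹ ∈ centralizer (K : Set G)}
  one_mem' := ⟨P.one_mem, fun e _ => by rw [mul_one, mul_inv_cancel]; exact one_mem _⟩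
  mul_mem' := by
    rintro x y ⟨hx, hx'⟩ ⟨hy, hy'⟩
    refine ⟨P.mul_mem hx hy, fun e he => ?_⟩
    have : e * (x * y) * e⁻¹ = (e * x * e⁻¹) * (e * y * e⁻¹) := by group
    rw [this]; exact mul_mem (hx' e he) (hy' e he)
  inv_mem' := by
    rintro x ⟨hx, hx'⟩
    refine ⟨P.inv_mem hx, fun e he => ?_⟩
    have : e * x⁻¹ * e⁻¹ = (e * x * e⁻¹)⁻¹ := by group
    rw [this]; exact inv_mem (hx' e he)

theorem coreC_le {K P PP : Subgroup G} (FP : LF P PP) (hnc : ¬ Comm K P) {x : G} (hx : x ∈ P)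
    (h : ∀ e ∈ P, e * x * e⁻¹ ∈ centralizer (K : Set G)) : x = 1 := by
  have h1 := FP.simple (coreC K P) (fun x hx => hx.1) (by
    rintro e he x ⟨hx, hx'⟩
    refine ⟨P.mul_mem (P.mul_mem he hx) (P.inv_mem he), fun f hf => ?_⟩
    have : f * (e * x * e⁻¹) * f⁻¹ = (f * e) * x * (f * e)⁻¹ := by group
    rw [this]; exact hx' _ (P.mul_mem hf he))
  rcases h1 with h1 | h1
  · have : x ∈ coreC K P := ⟨hx, h⟩
    rw [h1] at this; exact mem_bot.mp this
  · exfalso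
    refine hnc (comm_iff.mpr fun y hy => ?_ : Comm P K).symm
    rw [← h1] at hy
    have := hy.2 1 P.one_mem
    simpa using this

/-- `w` moves `P`, `w₁` fixes `P`: no -/
theorem BP.move_fix {K P : Subgroup G} (h : BP SS K P) (S : Sys SS rel) (F : ∀ L ∈ SS, LF L (PG L)) {w w1 : G}
    (hw1 : w1 ∈ K) (hw12 : orderOf w1 = 2)
    (hd : ∀ d ∈ P, d * (w * d * w⁻¹) ∈ centralizer (K : Set G))
    (hd' : ∀ d ∈ P, d * (w * w1 * d * (w * w1)⁻¹) ∈ centralizer (K : Set G)) (hf : cj w1 P = P) : False := by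
  have FP := F P h.mL
  refine h.ncen S hw1 hw12 (mem_cenL'.mpr fun d0 hd0 => ?_)
  have hf' : ∀ d ∈ P, w1 * d * w1⁻¹ ∈ P := fun d hd => by rw [← hf]; exact conj_mem_cj hd
  have h1 : ∀ d ∈ P, d * (w1 * d * w1⁻¹)⁻¹ ∈ centralizer (K : Set G) := by
    intro d hdP
    have e1 := hd' d hdP
    have e2 := hd _ (hf' d hdP)
    have := mul_mem e1 (inv_mem e2)
    have e3 : d * (w * w1 * d * (w * w1)⁻¹) * (w1 * d * w1⁻¹ * (w * (w1 * d * w1⁻¹) * w⁻¹))⁻¹ =
        d * (w1 * d * w1⁻¹)⁻¹ := by group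
    rwa [e3] at this
  have h2 := coreC_le FP h.nc (x := d0 * (w1 * d0 * w1⁻¹)⁻¹) (P.mul_mem hd0 (P.inv_mem (hf' d0 hd0))) (by
    intro e he
    have e1 := h1 (e * d0) (P.mul_mem he hd0)
    have e2 := h1 e he
    have := mul_mem e1 (inv_mem e2)
    have e3 : e * d0 * (w1 * (e * d0) * w1⁻¹)⁻¹ * (e * (w1 * e * w1⁻¹)⁻¹)⁻¹ =
        e * (d0 * (w1 * d0 * w1⁻¹)⁻¹) * e⁻¹ := by group
    rwa [e3] at this)
  rw [mul_inv_eq_one, eq_comm, mul_inv_eq_iff_eq_mul] at h2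
  exact h2

/-- (A4)(ii): commuting involutions `w, w1` of `K ⊓ N(L)` fix the partners of `L` -/
theorem BP.fixP {K L P : Subgroup G} (h : BP SS K L) (S : Sys SS rel) (F : ∀ L ∈ SS, LF L (PG L)) {w w1 : G}
    (hw : w ∈ K) (hw2 : orderOf w = 2) (hw1 : w1 ∈ K) (hw12 : orderOf w1 = 2) (hc : w * w1 = w1 * w) (hne : w ≠ w1)
    (hwL : w ∈ normalizer (L : Set G)) (hw1L : w1 ∈ normalizer (L : Set G)) (r : rel L P) :
    cj w P = P := by
  have hP := S.rel_mem L h.mL P r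
  have hKP := h.prt S r
  by_contra hm
  have gen : ∀ x ∈ K, orderOf x = 2 → x ∈ normalizer (L : Set G) → cj x P ≠ P →
      ∀ d ∈ P, d * (x * d * x⁻¹) ∈ centralizer (K : Set G) := by
    intro x hx hx2 hxL hxP d hd
    have r1 : rel P (cj x P) := by
      have := S.relcj L P r x
      rw [mem_normalizer_iff_cj.mp hxL] at this
      exact S.trans _ _ _ (S.symm _ _ r) this
    exact diag_mem_cen (F K h.mK) (F P hP).perfect hx hx2 (S.cenle K h.mK x hx hx2) (S.comm P hP _ r1 hxP) hd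
  have g0 := gen w hw hw2 hwL hm
  by_cases h1 : cj w1 P = P
  · refine hKP.move_fix S F hw1 hw12 g0 ?_ h1
    refine gen _ (K.mul_mem hw hw1) (ord2_mul hw2 hw12 hc hne) (mul_mem hwL hw1L) ?_
    rw [cj_mul, h1]; exact hm
  · have g1 := gen w1 hw1 hw12 hw1L h1
    have o3 := ord2_mul hw2 hw12 hc hne
    by_cases h2 : cj (w * w1) P = P
    · refine hKP.move_fix S F (K.mul_mem hw hw1) o3 g0 ?_ h2
      have e : w * (w * w1) = w1 := by rw [← mul_assoc, inv2_sq hw2, one_mul]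
      rw [e]; exact g1
    · have h3 : cj w P ≠ cj w1 P := by
        intro e
        apply h2
        rw [hc, cj_mul, e, ← cj_mul, inv2_sq hw12, cj_one]
      have rw0 : ∀ x, x ∈ normalizer (L : Set G) → rel P (cj x P) := by
        intro x hxL
        have := S.relcj L P r x
        rw [mem_normalizer_iff_cj.mp hxL] at this
        exact S.trans _ _ _ (S.symm _ _ r) this
      have c1 := S.comm P hP _ (rw0 w hwL) hm
      have c2 := S.comm P hP _ (rw0 w1 hw1L) h1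
      have c3 := S.comm _ (S.cj_mem P hP w) _ (S.trans _ _ _ (S.symm _ _ (rw0 w hwL)) (rw0 w1 hw1L)) h3.symm
      refine hKP.nc (comm_iff.mpr ?_ : Comm P K).symm
      rw [← (F P hP).perfect, commutator_le]
      intro d hd e he
      have e1 := g0 d hd
      have e2 := g1 e he
      have h4 : ⁅d * (w * d * w⁻¹), e * (w1 * e * w1⁻¹)⁆ = ⁅d, e⁆ := by
        have k1 : Commute d (w * d * w⁻¹) := c1 d hd _ (conj_mem_cj hd)
        have k2 : Commute e (w * d * w⁻¹) := c1 e he _ (conj_mem_cj hd)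
        have k3 : Commute d (w1 * e * w1⁻¹) := c2 d hd _ (conj_mem_cj he)
        have k4 : Commute e (w1 * e * w1⁻¹) := c2 e he _ (conj_mem_cj he)
        have k5 : Commute (w * d * w⁻¹) (w1 * e * w1⁻¹) := c3 _ (conj_mem_cj hd) _ (conj_mem_cj he)
        generalize w * d * w⁻¹ = d' at *
        generalize w1 * e * w1⁻¹ = e' at *
        rw [commutatorElement_def, commutatorElement_def, mul_inv_rev, mul_inv_rev]
        calc d * d' * (e * e') * (d'⁻¹ * d⁻¹) * (e'⁻¹ * e⁻¹)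
            = d * (d' * (e * e')) * (d'⁻¹ * d⁻¹) * (e'⁻¹ * e⁻¹) := by group
          _ = d * (e * e' * d') * (d'⁻¹ * d⁻¹) * (e'⁻¹ * e⁻¹) := by rw [(k2.symm.mul_right k5).eq]
          _ = d * e * (e' * d⁻¹) * e'⁻¹ * e⁻¹ := by group
          _ = d * e * (d⁻¹ * e') * e'⁻¹ * e⁻¹ := by rw [k3.symm.inv_right.eq]
          _ = d * e * d⁻¹ * e⁻¹ := by group
      rw [← h4, commutatorElement_def]
      exact mul_mem (mul_mem (mul_mem e1 e2) (inv_mem e1)) (inv_mem e2)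

/-- the partners are of full type as well -/
theorem Full.partner {K L P : Subgroup G} {u m a l : G} (h : Full SS K L u m a l) (S : Sys SS rel)
    (F : ∀ L ∈ SS, LF L (PG L)) (r : rel L P) : ∃ c k, Full SS K P u m c k := by
  have hKP := h.bp.prt S r
  have FP := F P hKP.mL
  have n0 : u ∈ normalizer (L : Set G) := h.as0.norm h.dL.uK
  have n1 : m * u * m⁻¹ ∈ normalizer (L : Set G) := h.as1.norm h.dL.u1K
  have p0 : u ∈ normalizer (P : Set G) := mem_normalizer_iff_cj.mpr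
    (h.bp.fixP S F h.dK.uK h.dK.ou h.dK.u1K h.dK.o1 h.dK.c01 h.dK.ne01 n0 n1 r)
  have p1 : m * u * m⁻¹ ∈ normalizer (P : Set G) := mem_normalizer_iff_cj.mpr
    (h.bp.fixP S F h.dK.u1K h.dK.o1 h.dK.uK h.dK.ou h.dK.c01.symm h.dK.ne01.symm n1 n0 r)
  have inn : ∀ {w : G}, Kd K w m → Inn P w → ∃ c k, Full SS K P w m c k := by
    rintro w dw ⟨c, hc, hs⟩
    obtain ⟨k, hk⟩ := hKP.full S F dw hc
      (FP.ord2 (inv2_sq dw.ou) hc hs (hKP.ncen S dw.uK dw.ou)) hs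
    exact ⟨c, k, hk⟩
  have rot : ∀ {w : G}, (∃ c k, Full SS K P w m c k) → ∃ c k, Full SS K P (m * w * m⁻¹) m c k := by
    rintro w ⟨c, k, hk⟩
    exact ⟨_, _, hk.rot⟩
  have dm : m * (m * (m * u * m⁻¹) * m⁻¹) * m⁻¹ = u := by rw [h.dK.r1, h.dK.r2]
  by_cases i0 : Inn P u
  · exact inn h.dK i0
  · by_cases i1 : Inn P (m * u * m⁻¹)
    · have := rot (rot (inn h.dK.rot i1))
      rwa [dm] at this
    · have i2 := FP.idx u (hKP.pgl S F h.dK.uK h.dK.ou p0) _ (hKP.pgl S F h.dK.u1K h.dK.o1 p1) i0 i1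
      rw [h.dK.ur, ← h.dK.r1] at i2
      have := rot (inn h.dK.rot.rot i2)
      rwa [dm] at this

end Cfsg.Agent.UGT.Blk
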