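import Cfsg.Agent.UGT.Blk.Act

/-!
# (A0)-(A2): an involution of `K` acting on `L` as an inner automorphism

`BP K L`: distinct, not commuting members of `SS`.
-/

set_option autoImplicit false

open Subgroup
open Cfsg.Agent.SignalizersComponents.IntrinsicBasic

namespace Cfsg.Agent.UGT.Blk

variable {G : Type*} [Group G] {SS : Set (Subgroup G)} {rel : Subgroup G → Subgroup G → Prop}
  {PG : Subgroup G → Subgroup G}

/-- a pair of distinct non-commuting members -/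
structure BP (SS : Set (Subgroup G)) (K L : Subgroup G) : Prop where
  mK : K ∈ SS
  mL : L ∈ SS
  ne : K ≠ L
  nc : ¬ Comm K L

theorem BP.symm {K L : Subgroup G} (h : BP SS K L) : BP SS L K :=
  ⟨h.mL, h.mK, h.ne.symm, fun e => h.nc e.symm⟩

/-- (A0) -/
theorem BP.ncen {K L : Subgroup G} (h : BP SS K L) (S : Sys SS rel) {u : G} (hu : u ∈ K) (h2 : orderOf u = 2) :
    u ∉ centralizer (L : Set G) :=
  fun hc => h.nc (S.cen L h.mL K h.mK u hu h2 hc)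

/-- (A0) for partners -/
theorem BP.prt {K L P : Subgroup G} (h : BP SS K L) (S : Sys SS rel) (r : rel L P) : BP SS K P := by
  have hP := S.rel_mem L h.mL P r
  refine ⟨h.mK, hP, ?_, ?_⟩
  · rintro rfl
    exact h.nc (S.comm L h.mL K r h.ne).symm
  · intro hc
    rcases S.spread P hP K h.mK hc L (S.symm _ _ r) with e | e
    · exact h.ne e
    · exact h.nc e

/-- (A1) -/
theorem BP.pgl {K L : Subgroup G} (h : BP SS K L) (S : Sys SS rel) (F : ∀ L ∈ SS, LF L (PG L)) {u : G}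
    (hu : u ∈ K) (h2 : orderOf u = 2) (hn : u ∈ normalizer (L : Set G)) : u ∈ PG L := by
  by_contra hc
  obtain ⟨v, hv, g, hg, hv2, hvu, hgu, hr⟩ := (F L h.mL).fld u hn (inv2_sq h2) hc
  have hC := S.cenle K h.mK u hu h2
  exact h.symm.ncen S hv hv2 ((F K h.mK).noA4 u hu h2 v (hC (mem_csing.mpr hvu)) g (hC (mem_csing.mpr hgu))
    (inv2_sq hv2) hvu hgu hr)

/-- first part of (A2): `a` normalises `K`, and some involution of `C_L(a)` acts on `K` as `u` -/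
theorem BP.back {K L : Subgroup G} (h : BP SS K L) (S : Sys SS rel) (F : ∀ L ∈ SS, LF L (PG L)) {u a : G}
    (hu : u ∈ K) (h2 : orderOf u = 2) (ha : a ∈ L) (ha2 : orderOf a = 2) (hs : As L u a) :
    ∃ a1 ∈ L, orderOf a1 = 2 ∧ a1 * a = a * a1 ∧ As K a1 u := by
  have FK := F K h.mK
  have FL := F L h.mL
  have hC := S.cenle K h.mK u hu h2
  obtain ⟨b, hb, hb2, hne, hab⟩ := FL.partner a ha ha2
  have hau : a * u = u * a := hs.self_comm ha
  have hbu : b * u = u * b := (hs.comm_iff hb).mpr hab.symm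
  have hab2 : orderOf (a * b) = 2 := ord2_mul ha2 hb2 hab hne.symm
  have hapg := h.symm.pgl S F ha ha2 (hC (mem_csing.mpr hau))
  have hbpg := h.symm.pgl S F hb hb2 (hC (mem_csing.mpr hbu))
  rcases FK.four u hu h2 a hapg b hbpg (inv2_sq ha2) (inv2_sq hb2) hab hau hbu (h.symm.ncen S ha ha2)
    (h.symm.ncen S hb hb2) (h.symm.ncen S (L.mul_mem ha hb) hab2) with e | e | e
  · exact ⟨a, ha, ha2, rfl, e⟩
  · exact ⟨b, hb, hb2, hab.symm, e⟩
  · refine ⟨a * b, L.mul_mem ha hb, hab2, ?_, e⟩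
    rw [mul_assoc, ← hab]

/-- `K ⊓ L` contains no involution -/
theorem BP.inf {K L : Subgroup G} (h : BP SS K L) (S : Sys SS rel) {x : G} (hK : x ∈ K) (hL : x ∈ L) :
    orderOf x ≠ 2 := fun e => h.ne (S.ti K h.mK L h.mL x hK hL e)

/-- not `L ≤ N(K)` if an involution of `K` normalises `L` -/
theorem BP.nle {K L : Subgroup G} (h : BP SS K L) (S : Sys SS rel) (F : ∀ L ∈ SS, LF L (PG L)) {u : G}
    (hu : u ∈ K) (h2 : orderOf u = 2) (hn : u ∈ normalizer (L : Set G)) :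
    ¬ L ≤ normalizer (K : Set G) := by
  intro hle
  have FL := F L h.mL
  rcases FL.simple (L ⊓ K) inf_le_left (fun l hl n hn => ⟨L.mul_mem (L.mul_mem hl hn.1) (L.inv_mem hl),
    (mem_normalizer_iff.mp (hle hl) n).mp hn.2⟩) with e | e
  · refine h.ncen S hu h2 (mem_cenL.mpr fun x hx => ?_)
    have h1 : x * u * x⁻¹ * u⁻¹ ∈ L ⊓ K := by
      constructor
      · have : u * x⁻¹ * u⁻¹ ∈ L := (mem_normalizer_iff.mp hn _).mp (L.inv_mem hx)
        have := L.mul_mem hx this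
        simpa [mul_assoc] using this
      · exact K.mul_mem ((mem_normalizer_iff.mp (hle hx) u).mp hu) (K.inv_mem hu)
    rw [e, mem_bot, mul_inv_eq_one, mul_inv_eq_iff_eq_mul] at h1
    exact h1
  · obtain ⟨t, ht, ht2⟩ := FL.even
    have : t ∈ L ⊓ K := by rw [e]; exact ht
    exact h.inf S this.2 ht ht2

/-- Not `Big L`. -/
theorem BP.not_big {K L : Subgroup G} (h : BP SS K L) (S : Sys SS rel) (F : ∀ L ∈ SS, LF L (PG L)) {u a : G}
    (hu : u ∈ K) (h2 : orderOf u = 2) (ha : a ∈ L) (ha2 : orderOf a = 2) (hs : As L u a) :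
    ¬ Big L (PG L) := by
  intro hbig
  obtain ⟨a1, ha1, ha12, -, hs1⟩ := h.back S F hu h2 ha ha2 hs
  have hCa := S.cenle L h.mL a1 ha1 ha12
  obtain ⟨w, hw, hw2, hne, huw⟩ := (F K h.mK).partner u hu h2
  have hun : u ∈ normalizer (L : Set G) := hs.norm ha
  have hwn : w ∈ normalizer (L : Set G) :=
    hCa (mem_csing.mpr ((hs1.comm_iff hw).mpr huw.symm))
  have hupg := h.pgl S F hu h2 hun
  have hwpg := h.pgl S F hw hw2 hwn
  refine h.nle S F hu h2 hun (hbig a ha ha2 u hupg w hwpg (inv2_sq h2) (inv2_sq hw2) huw hs (h.ncen S hw hw2)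
    (h.ncen S (K.mul_mem hu hw) (ord2_mul h2 hw2 huw hne.symm)) _ ?_ ?_)
  · intro x _ hx; exact S.cenle K h.mK u hu h2 (mem_csing.mpr hx)
  · intro x _ hx; exact S.cenle K h.mK w hw hw2 (mem_csing.mpr hx)

/-- the centralizers commute if one of them consists of 2-elements -/
theorem BP.cc {K L : Subgroup G} (h : BP SS K L) (S : Sys SS rel) (F : ∀ L ∈ SS, LF L (PG L)) {u a : G}
    (hu : u ∈ K) (h2 : orderOf u = 2) (ha : a ∈ L) (ha2 : orderOf a = 2) (hs : As L u a)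
    (h2el : ∀ x ∈ L, x * a = a * x → ∃ n : ℕ, x ^ 2 ^ n = 1) {x d : G} (hx : x ∈ L) (hxa : x * a = a * x)
    (hd : d ∈ K) (hdu : d * u = u * d) : x * d = d * x ∧ d ∈ normalizer (L : Set G) := by
  obtain ⟨a1, ha1, ha12, -, hs1⟩ := h.back S F hu h2 ha ha2 hs
  have hdn : d ∈ normalizer (L : Set G) :=
    S.cenle L h.mL a1 ha1 ha12 (mem_csing.mpr ((hs1.comm_iff hd).mpr hdu))
  have hxu : x * u = u * x := (hs.comm_iff hx).mpr hxa
  have hxn : x ∈ normalizer (K : Set G) := S.cenle K h.mK u hu h2 (mem_csing.mpr hxu)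
  refine ⟨?_, hdn⟩
  have hcL : x * d * x⁻¹ * d⁻¹ ∈ L := by
    have : d * x⁻¹ * d⁻¹ ∈ L := (mem_normalizer_iff.mp hdn _).mp (L.inv_mem hx)
    have := L.mul_mem hx this
    simpa [mul_assoc] using this
  have hcK : x * d * x⁻¹ * d⁻¹ ∈ K := K.mul_mem ((mem_normalizer_iff.mp hxn d).mp hd) (K.inv_mem hd)
  have hcu : x * d * x⁻¹ * d⁻¹ * u = u * (x * d * x⁻¹ * d⁻¹) := by
    have c1 : Commute x u := hxu
    have c2 : Commute d u := hdu
    exact ((c1.mul_left c2).mul_left c1.inv_left).mul_left c2.inv_left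
  by_contra hne
  have h1 : x * d * x⁻¹ * d⁻¹ ≠ 1 := by
    intro e; rw [mul_inv_eq_one, mul_inv_eq_iff_eq_mul] at e; exact hne e
  obtain ⟨n, hn⟩ := h2el _ hcL ((hs.comm_iff hcL).mp hcu)
  obtain ⟨k, hk⟩ := exists_ord2_of_pow hn h1
  exact h.inf S (K.pow_mem hcK k) (L.pow_mem hcL k) hk

/-- Not `Med L`. -/
theorem BP.not_med {K L : Subgroup G} (h : BP SS K L) (S : Sys SS rel) (F : ∀ L ∈ SS, LF L (PG L)) {u a : G}
    (hu : u ∈ K) (h2 : orderOf u = 2) (ha : a ∈ L) (ha2 : orderOf a = 2) (hs : As L u a) :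
    ¬ Med L (PG L) := by
  intro hmed
  obtain ⟨w, hw, hw2, hne, huw⟩ := (F K h.mK).partner u hu h2
  obtain ⟨m1, m2⟩ := hmed a ha ha2
  have hwn : w ∈ normalizer (L : Set G) := (h.cc S F hu h2 ha ha2 hs m1 ha rfl hw huw.symm).2
  rcases m2 w (h.pgl S F hw hw2 hwn) (inv2_sq hw2)
    (fun x hx hxa => (h.cc S F hu h2 ha ha2 hs m1 hx hxa hw huw.symm).1) with e | e
  · exact h.ncen S hw hw2 e
  · refine h.ncen S (K.mul_mem hu hw) (ord2_mul h2 hw2 huw hne.symm) ?_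
    rw [← as_one_iff, ← inv2_sq ha2]
    exact hs.mul e (le_normalizer ha)

theorem BP.fiv {K L : Subgroup G} (h : BP SS K L) (S : Sys SS rel) (F : ∀ L ∈ SS, LF L (PG L)) {u a : G}
    (hu : u ∈ K) (h2 : orderOf u = 2) (ha : a ∈ L) (ha2 : orderOf a = 2) (hs : As L u a) :
    Fiv L (PG L) := by
  rcases (F L h.mL).size with e | e | e
  · exact absurd e (h.not_big S F hu h2 ha ha2 hs)
  · exact absurd e (h.not_med S F hu h2 ha ha2 hs)
  · exact e

/-- a four-group `{1,u,mum⁻¹,m⁻¹um} = C_K(u)` permuted by `m` of order 3 -/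
structure Kd (K : Subgroup G) (u m : G) : Prop where
  mK : m ∈ K
  m3 : m * m * m = 1
  uK : u ∈ K
  ou : orderOf u = 2
  ur : u * (m * u * m⁻¹) = m⁻¹ * u * m
  cK : ∀ x ∈ K, x * u = u * x → x = 1 ∨ x = u ∨ x = m * u * m⁻¹ ∨ x = m⁻¹ * u * m

theorem Fiv.kd {K PK : Subgroup G} (h : Fiv K PK) {u : G} (hu : u ∈ K) (h2 : orderOf u = 2) :
    ∃ m, Kd K u m := by
  obtain ⟨-, ⟨m, hm, m3, ur, cK⟩, -⟩ := h u hu h2
  exact ⟨m, hm, m3, hu, h2, ur, cK⟩

section Kd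

variable {K : Subgroup G} {u m : G} (d : Kd K u m)
include d

theorem Kd.minv : m⁻¹ = m * m := by
  rw [inv_eq_iff_mul_eq_one, ← mul_assoc]; exact d.m3

theorem Kd.u1K : m * u * m⁻¹ ∈ K := K.mul_mem (K.mul_mem d.mK d.uK) (K.inv_mem d.mK)
theorem Kd.u2K : m⁻¹ * u * m ∈ K := K.mul_mem (K.mul_mem (K.inv_mem d.mK) d.uK) d.mK
theorem Kd.o1 : orderOf (m * u * m⁻¹) = 2 := ord2_conj d.ou m
theorem Kd.o2 : orderOf (m⁻¹ * u * m) = 2 := by
  have := ord2_conj d.ou m⁻¹; rwa [inv_inv] at this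

theorem Kd.ur' : (m * u * m⁻¹) * u = m⁻¹ * u * m := by
  have e1 : (m * u * m⁻¹)⁻¹ = m * u * m⁻¹ := inv2_inv d.o1
  have e2 : (m⁻¹ * u * m)⁻¹ = m⁻¹ * u * m := inv2_inv d.o2
  have e3 : u⁻¹ = u := inv2_inv d.ou
  calc (m * u * m⁻¹) * u = (m * u * m⁻¹)⁻¹ * u⁻¹ := by rw [e1, e3]
    _ = (u * (m * u * m⁻¹))⁻¹ := (mul_inv_rev _ _).symm
    _ = (m⁻¹ * u * m)⁻¹ := by rw [d.ur]
    _ = m⁻¹ * u * m := e2

theorem Kd.c01 : u * (m * u * m⁻¹) = (m * u * m⁻¹) * u := by rw [d.ur, d.ur']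

/-- `u u₂ = u₁` -/
theorem Kd.u02 : u * (m⁻¹ * u * m) = m * u * m⁻¹ := by
  rw [← d.ur, ← mul_assoc, inv2_sq d.ou, one_mul]

theorem Kd.u20 : (m⁻¹ * u * m) * u = m * u * m⁻¹ := by
  rw [← d.ur', mul_assoc, inv2_sq d.ou, mul_one]

theorem Kd.u12 : (m * u * m⁻¹) * (m⁻¹ * u * m) = u := by
  rw [← d.ur', ← mul_assoc, inv2_sq d.o1, one_mul]

theorem Kd.u21 : (m⁻¹ * u * m) * (m * u * m⁻¹) = u := by
  rw [← d.ur, mul_assoc, inv2_sq d.o1, mul_one]

theorem Kd.ne01 : u ≠ m * u * m⁻¹ := by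
  intro e
  have := d.ur; rw [← e, inv2_sq d.ou] at this
  exact inv2_ne d.o2 this.symm

theorem Kd.ne02 : u ≠ m⁻¹ * u * m := by
  intro e
  have := d.u02; rw [← e, inv2_sq d.ou] at this
  exact inv2_ne d.o1 this.symm

/-- `m u₁ m⁻¹ = u₂` -/
theorem Kd.r1 : m * (m * u * m⁻¹) * m⁻¹ = m⁻¹ * u * m := by
  have h := d.minv
  have h' : m⁻¹ * m⁻¹ = m := by rw [h]; calc m * m * (m * m) = m * m * m * m := by group
    _ = m := by rw [d.m3, one_mul]
  calc m * (m * u * m⁻¹) * m⁻¹ = (m * m) * u * (m⁻¹ * m⁻¹) := by group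
    _ = m⁻¹ * u * m := by rw [← h, h']

/-- `m u₂ m⁻¹ = u` -/
theorem Kd.r2 : m * (m⁻¹ * u * m) * m⁻¹ = u := by have := d; group

/-- `m⁻¹ u₁ m = u` -/
theorem Kd.l1 : m⁻¹ * (m * u * m⁻¹) * m = u := by have := d; group

/-- `m⁻¹ u₂ m = u₁` -/
theorem Kd.l2 : m⁻¹ * (m⁻¹ * u * m) * m = m * u * m⁻¹ := by
  have := d.r1
  calc m⁻¹ * (m⁻¹ * u * m) * m = m⁻¹ * (m * (m * u * m⁻¹) * m⁻¹) * m := by rw [this]
    _ = m * u * m⁻¹ := by group

theorem Kd.inv : Kd K u m⁻¹ := by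
  refine ⟨K.inv_mem d.mK, ?_, d.uK, d.ou, ?_, ?_⟩
  · have := congrArg (·⁻¹) d.m3; simpa [mul_assoc] using this
  · rw [inv_inv]; exact d.u02
  · rw [inv_inv]; intro x hx hxu
    rcases d.cK x hx hxu with e | e | e | e
    · exact Or.inl e
    · exact Or.inr (Or.inl e)
    · exact Or.inr (Or.inr (Or.inr e))
    · exact Or.inr (Or.inr (Or.inl e))

/-- rotation -/
theorem Kd.rot : Kd K (m * u * m⁻¹) m := by
  refine ⟨d.mK, d.m3, d.u1K, d.o1, ?_, ?_⟩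
  · rw [d.r1, d.l1, d.u12]
  · intro x hx hxu
    have h1 : (m⁻¹ * x * m) * u = u * (m⁻¹ * x * m) := by
      calc (m⁻¹ * x * m) * u = m⁻¹ * (x * (m * u * m⁻¹)) * m := by group
        _ = u * (m⁻¹ * x * m) := by rw [hxu]; group
    have h2 : m⁻¹ * x * m ∈ K := K.mul_mem (K.mul_mem (K.inv_mem d.mK) hx) d.mK
    have h3 : x = m * (m⁻¹ * x * m) * m⁻¹ := by group
    rw [d.r1, d.l1]
    rcases d.cK _ h2 h1 with e | e | e | e <;> rw [e] at h3
    · left; rw [h3]; group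
    · right; left; exact h3
    · right; right; left; rw [h3, d.r1]
    · right; right; right; rw [h3, d.r2]

theorem Kd.sq {x : G} (hx : x ∈ K) (hxu : x * u = u * x) : x * x = 1 := by
  rcases d.cK x hx hxu with e | e | e | e <;> rw [e]
  · exact mul_one 1
  · exact inv2_sq d.ou
  · exact inv2_sq d.o1
  · exact inv2_sq d.o2

theorem Kd.ord {x : G} (hx : x ∈ K) (hxu : x * u = u * x) (h1 : x ≠ 1) : orderOf x = 2 :=
  ord2_of (d.sq hx hxu) h1

end Kd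

/-- the full type -/
structure Full (SS : Set (Subgroup G)) (K L : Subgroup G) (u m a l : G) : Prop where
  bp : BP SS K L
  dK : Kd K u m
  dL : Kd L a l
  as0 : As L u a
  as1 : As L (m * u * m⁻¹) (l * a * l⁻¹)

/-- (A2) -/
theorem BP.full {K L : Subgroup G} (h : BP SS K L) (S : Sys SS rel) (F : ∀ L ∈ SS, LF L (PG L)) {u a m : G}
    (dK : Kd K u m) (ha : a ∈ L) (ha2 : orderOf a = 2) (hs : As L u a) : ∃ l, Full SS K L u m a l := by
  have hL := h.fiv S F dK.uK dK.ou ha ha2 hs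
  obtain ⟨f1, -, f3⟩ := hL a ha ha2
  obtain ⟨l, dL⟩ := hL.kd ha ha2
  have h2el : ∀ x ∈ L, x * a = a * x → ∃ n : ℕ, x ^ 2 ^ n = 1 := fun x hx hxa =>
    ⟨1, by rw [pow_one, pow_two]; exact f1 x hx hxa⟩
  have hcc := fun x (hx : x ∈ L) (hxa : x * a = a * x) =>
    h.cc S F dK.uK dK.ou ha ha2 hs h2el hx hxa dK.u1K dK.c01.symm
  obtain ⟨z, hz, hza, hzs⟩ := f3 (m * u * m⁻¹) (h.pgl S F dK.u1K dK.o1 (hcc a ha rfl).2) (inv2_sq dK.o1)
    (fun x hx hxa => (hcc x hx hxa).1)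
  rcases dL.cK z hz hza with e | e | e | e
  · rw [e] at hzs
    exact absurd (as_one_iff.mp hzs) (h.ncen S dK.u1K dK.o1)
  · rw [e] at hzs
    exfalso
    refine h.ncen S dK.u2K dK.o2 ?_
    rw [← dK.ur, ← as_one_iff, ← inv2_sq ha2]
    exact hs.mul hzs (le_normalizer ha)
  · rw [e] at hzs
    exact ⟨l, h, dK, dL, hs, hzs⟩
  · rw [e] at hzs
    refine ⟨l⁻¹, h, dK, dL.inv, hs, ?_⟩
    rw [inv_inv]; exact hzs

end Cfsg.Agent.UGT.Blk
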