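import Cfsg.Agent.SignalizersComponents.IntrinsicBasic

/-!
# Blocks of commuting components (NodeR, commuting pairs)

`SS`: a conjugation invariant set of simple subgroups.  `Rel K L P`: `L ≠ P` commute, `L` is subnormal in `C_K(t)` for
the involutions `t` of `P` and conversely.

* `Base SS`: what is assumed: simple, one class of involutions, `C_{Aut L}(t)` solvable, every member has a partner for
  `Rel ⊤`.
* `Sys SS rel`: its consequences (`rel = (Rel ⊤ or =)` is an equivalence relation, (L0)-(L3)), the input of the adjacency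
  files `Adj*.lean`.
* `NoAdj SS`: output of the adjacency files: (5) and (6) of the text.
-/

set_option autoImplicit false

open Subgroup
open Cfsg.Agent.SignalizersComponents.IntrinsicBasic (cj)

namespace Cfsg.Agent.UGT.Blk

variable {G : Type*} [Group G]

/-- elementwise commuting subgroups -/
def Comm (L P : Subgroup G) : Prop := ∀ a ∈ L, ∀ b ∈ P, a * b = b * a

/-- `L` is a subnormal subgroup of `H` -/
def Cmp (H L : Subgroup G) : Prop := L ≤ H ∧ (L.subgroupOf H).IsSubnormal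

/-- `L ~_K P` -/
structure Rel (K L P : Subgroup G) : Prop where
  le : L ≤ K
  le' : P ≤ K
  ne : L ≠ P
  comm : Comm L P
  left : ∀ t ∈ P, orderOf t = 2 → Cmp (K ⊓ centralizer ({t} : Set G)) L
  right : ∀ t ∈ L, orderOf t = 2 → Cmp (K ⊓ centralizer ({t} : Set G)) P

/-- The assumptions. -/
structure Base (SS : Set (Subgroup G)) : Prop where
  cj_mem : ∀ L ∈ SS, ∀ g : G, cj g L ∈ SS
  simple : ∀ L ∈ SS, IsSimpleGroup ↥L
  perfect : ∀ L ∈ SS, ⁅L, L⁆ = L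
  even : ∀ L ∈ SS, ∃ t ∈ L, orderOf t = 2
  conj2 : ∀ L ∈ SS, ∀ t ∈ L, ∀ u ∈ L, orderOf t = 2 → orderOf u = 2 → ∃ l ∈ L, l * t * l⁻¹ = u
  /-- `C_{Aut L}(t)` is solvable -/
  solv : ∀ L ∈ SS, ∀ t ∈ L, orderOf t = 2 → ∀ D : Subgroup G, ⁅D, D⁆ = D → D ≤ normalizer (L : Set G) →
    (∀ d ∈ D, d * t = t * d) → D ≤ centralizer (L : Set G)
  part : ∀ L ∈ SS, ∃ P ∈ SS, Rel ⊤ L P

/-- The consequences used in the adjacency files. -/
structure Sys (SS : Set (Subgroup G)) (rel : Subgroup G → Subgroup G → Prop) : Prop where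
  cj_mem : ∀ L ∈ SS, ∀ g : G, cj g L ∈ SS
  rel_mem : ∀ L ∈ SS, ∀ P, rel L P → P ∈ SS
  refl : ∀ L ∈ SS, rel L L
  symm : ∀ L P, rel L P → rel P L
  trans : ∀ L P R, rel L P → rel P R → rel L R
  relcj : ∀ L P, rel L P → ∀ g : G, rel (cj g L) (cj g P)
  part : ∀ L ∈ SS, ∃ P, rel L P ∧ P ≠ L
  comm : ∀ L ∈ SS, ∀ P, rel L P → P ≠ L → Comm L P
  /-- (L0) -/
  cen : ∀ L ∈ SS, ∀ L' ∈ SS, ∀ b ∈ L', orderOf b = 2 → b ∈ centralizer (L : Set G) → Comm L' L
  /-- (L1) -/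
  ti : ∀ L ∈ SS, ∀ L' ∈ SS, ∀ b ∈ L, b ∈ L' → orderOf b = 2 → L = L'
  /-- (L2) -/
  spread : ∀ L ∈ SS, ∀ L' ∈ SS, Comm L' L → ∀ P, rel L P → L' = P ∨ Comm L' P
  /-- (L3) -/
  cenle : ∀ L ∈ SS, ∀ t ∈ L, orderOf t = 2 → centralizer ({t} : Set G) ≤ normalizer (L : Set G)

/-- Output of the adjacency files. -/
structure NoAdj (SS : Set (Subgroup G)) : Prop where
  /-- (5) -/
  adj : ∀ L ∈ SS, ∀ L' ∈ SS, L ≠ L' → ∀ b ∈ L', orderOf b = 2 → b ∈ normalizer (L : Set G) → Comm L' L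
  /-- (6) -/
  move : ∀ L ∈ SS, ∀ L' ∈ SS, ∀ b ∈ L', orderOf b = 2 → Comm L (cj b L) → cj b L = L

end Cfsg.Agent.UGT.Blk
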