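import Cfsg.Agent.UGT.Res.ThH

/-!
# `⟨Y, Y^l⟩` has even order

`e` acts on `L` as an involution of `PGL(2,q)`, `Y ≤ C_L(e)` is of odd order, `l e l⁻¹ = e s`, `s` an involution of
`C_L(e)`. Then `⟨Y, Y^l⟩` contains an involution: otherwise `C_W(e)`, `C_W(e s)` are TI-subgroups of `W = ⟨Y, Y^l⟩`
containing their normalizers, and no nontrivial element of one is conjugate to an element of the other.
-/

set_option autoImplicit false

open Subgroup
open Cfsg.Agent.UGT.TriBase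
open Cfsg.Agent.UGT.Res
open Cfsg.Agent.UGT.Res.ThH (sq order_two ne_one conj_mul_self order_conj mem_cen mem_normalizer_of_le conj_mem
  conj_mem' conjK)

namespace Cfsg.Agent.UGT.Blk.Even

variable {G : Type*} [Group G] [Finite G]

/-- the conjugates of a TI-subgroup `A = N(A)` -/
theorem card_le {W A : Subgroup G} (hAW : A ≤ W)
    (tiA : ∀ w ∈ W, ∀ a ∈ A, a ≠ 1 → w * a * w⁻¹ ∈ A → w ∈ A) :
    Nat.card (↥W ⧸ A.subgroupOf W) * (Nat.card ↥A - 1) ≤
      Nat.card {x : ↥W // x ≠ 1 ∧ ∃ w ∈ W, ∃ a ∈ A, w * a * w⁻¹ = (x : G)} := by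
  classical
  have h1 : Nat.card {a : ↥A // a ≠ 1} = Nat.card ↥A - 1 := by
    have := Fintype.ofFinite ↥A
    rw [Nat.card_eq_fintype_card, Nat.card_eq_fintype_card, Fintype.card_subtype_compl]
    simp
  rw [← h1, ← Nat.card_prod]
  refine Nat.card_le_card_of_injective
    (fun p => ⟨⟨(p.1.out : G) * (p.2 : ↥A) * (p.1.out : G)⁻¹,
      mul_mem (mul_mem p.1.out.2 (hAW p.2.1.2)) (inv_mem p.1.out.2)⟩, ?_, p.1.out, p.1.out.2, p.2.1, p.2.1.2, rfl⟩) ?_
  · intro h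
    have h2 : (p.1.out : G) * (p.2 : ↥A) * (p.1.out : G)⁻¹ = 1 := congrArg Subtype.val h
    apply p.2.2
    apply Subtype.ext
    change ((p.2 : ↥A) : G) = 1
    rw [← conj_eq_one_iff (a := (p.1.out : G))]
    exact h2
  · rintro ⟨ω, a⟩ ⟨ω', a'⟩ h
    have h2 : (ω.out : G) * (a : ↥A) * (ω.out : G)⁻¹ = (ω'.out : G) * (a' : ↥A) * (ω'.out : G)⁻¹ :=
      congrArg (fun z => ((z : {x : ↥W // x ≠ 1 ∧ ∃ w ∈ W, ∃ a ∈ A, w * a * w⁻¹ = (x : G)}).1 : G)) h
    have h3 : (ω'.out : G)⁻¹ * ω.out * (a : ↥A) * ((ω'.out : G)⁻¹ * ω.out)⁻¹ = (a' : ↥A) := by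
      calc (ω'.out : G)⁻¹ * ω.out * (a : ↥A) * ((ω'.out : G)⁻¹ * ω.out)⁻¹ =
          (ω'.out : G)⁻¹ * ((ω.out : G) * (a : ↥A) * (ω.out : G)⁻¹) * ω'.out := by group
        _ = (a' : ↥A) := by rw [h2]; group
    have h4 : (a : ↥A).1 ≠ 1 := fun h => a.2 (Subtype.ext h)
    have h5 := tiA ((ω'.out : G)⁻¹ * ω.out) (mul_mem (inv_mem ω'.out.2) ω.out.2) _ (a : ↥A).2 h4 (by
      rw [h3]; exact (a' : ↥A).2)
    have h6 : ω' = ω := by
      rw [← QuotientGroup.out_eq' ω', ← QuotientGroup.out_eq' ω]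
      rw [QuotientGroup.eq]
      exact h5
    subst h6
    have h7 : a = a' := by
      apply Subtype.ext
      apply Subtype.ext
      have h8 := mul_right_cancel h2
      exact mul_left_cancel h8
    rw [h7]

/-- two classes of TI-subgroups equal to their normalizers do not fit -/
theorem false_of_two {W A B : Subgroup G} (hAW : A ≤ W) (hBW : B ≤ W) (hA : A ≠ ⊥) (hB : B ≠ ⊥)
    (tiA : ∀ w ∈ W, ∀ a ∈ A, a ≠ 1 → w * a * w⁻¹ ∈ A → w ∈ A)
    (tiB : ∀ w ∈ W, ∀ a ∈ B, a ≠ 1 → w * a * w⁻¹ ∈ B → w ∈ B)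
    (dis : ∀ w ∈ W, ∀ a ∈ A, a ≠ 1 → w * a * w⁻¹ ∉ B) : False := by
  classical
  have h1 := card_le hAW tiA
  have h2 := card_le hBW tiB
  obtain ⟨PA, hPA⟩ : ∃ PA : ↥W → Prop, PA = fun x : ↥W => x ≠ 1 ∧ ∃ w ∈ W, ∃ a ∈ A, w * a * w⁻¹ = (x : G) := ⟨_, rfl⟩
  obtain ⟨PB, hPB⟩ : ∃ PB : ↥W → Prop, PB = fun x : ↥W => x ≠ 1 ∧ ∃ w ∈ W, ∃ a ∈ B, w * a * w⁻¹ = (x : G) := ⟨_, rfl⟩
  have hPA' : ∀ x, PA x → x ≠ 1 ∧ ∃ w ∈ W, ∃ a ∈ A, w * a * w⁻¹ = (x : G) := by
    intro x hx; rw [hPA] at hx; exact hx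
  have hPB' : ∀ x, PB x → x ≠ 1 ∧ ∃ w ∈ W, ∃ a ∈ B, w * a * w⁻¹ = (x : G) := by
    intro x hx; rw [hPB] at hx; exact hx
  have h3 : Nat.card {x : ↥W // PA x} + Nat.card {x : ↥W // PB x} ≤ Nat.card {x : ↥W // x ≠ 1} := by
    rw [← Nat.card_sum]
    refine Nat.card_le_card_of_injective (Sum.elim (fun x => ⟨x.1, (hPA' _ x.2).1⟩)
      (fun x => ⟨x.1, (hPB' _ x.2).1⟩)) ?_
    · have key : ∀ (x : {x : ↥W // PA x}) (y : {x : ↥W // PB x}), x.1 ≠ y.1 := by
        rintro ⟨x, hx⟩ ⟨y, hy⟩ h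
        change x = y at h
        subst h
        obtain ⟨h1, w, hw, a, ha, e1⟩ := hPA' _ hx
        obtain ⟨-, v, hv, b, hb, e2⟩ := hPB' _ hy
        refine dis (v⁻¹ * w) (mul_mem (inv_mem hv) hw) a ha ?_ ?_
        · rintro rfl
          apply h1
          apply Subtype.ext
          change (x : G) = 1
          rw [← e1]; group
        · have e3 : v⁻¹ * w * a * (v⁻¹ * w)⁻¹ = b := by
            calc v⁻¹ * w * a * (v⁻¹ * w)⁻¹ = v⁻¹ * (w * a * w⁻¹) * v := by group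
              _ = b := by rw [e1, ← e2]; group
          rw [e3]; exact hb
      rintro (x | x) (y | y) h
      · have : x.1 = y.1 := congrArg (fun z : {x : ↥W // x ≠ 1} => z.1) h
        rw [Subtype.ext this]
      · have : x.1 = y.1 := congrArg (fun z : {x : ↥W // x ≠ 1} => z.1) h
        exact absurd this (key x y)
      · have : x.1 = y.1 := congrArg (fun z : {x : ↥W // x ≠ 1} => z.1) h
        exact absurd this.symm (key y x)
      · have : x.1 = y.1 := congrArg (fun z : {x : ↥W // x ≠ 1} => z.1) h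
        rw [Subtype.ext this]
  have h4 : Nat.card {x : ↥W // x ≠ 1} = Nat.card ↥W - 1 := by
    have := Fintype.ofFinite ↥W
    rw [Nat.card_eq_fintype_card, Nat.card_eq_fintype_card, Fintype.card_subtype_compl]
    simp
  have hW : 0 < Nat.card ↥W := Nat.card_pos
  have idx : ∀ {C : Subgroup G}, C ≤ W → C ≠ ⊥ → 2 ≤ Nat.card ↥C ∧
      Nat.card (↥W ⧸ C.subgroupOf W) * Nat.card ↥C = Nat.card ↥W := by
    intro C hC hne
    constructor
    · have h5 : Nat.card ↥C ≠ 1 := fun h => hne (Subgroup.card_eq_one.mp h)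
      have h6 : 0 < Nat.card ↥C := Nat.card_pos
      omega
    · have h5 : Nat.card ↥(C.subgroupOf W) = Nat.card ↥C := Nat.card_congr (subgroupOfEquivOfLe hC).toEquiv
      rw [← h5]
      exact (Subgroup.card_eq_card_quotient_mul_card_subgroup _).symm
  obtain ⟨a1, a2⟩ := idx hAW hA
  obtain ⟨b1, b2⟩ := idx hBW hB
  have h5 : Nat.card (↥W ⧸ A.subgroupOf W) * (Nat.card ↥A - 1) ≤ Nat.card {x : ↥W // PA x} := by
    rw [hPA]; exact h1
  have h6 : Nat.card (↥W ⧸ B.subgroupOf W) * (Nat.card ↥B - 1) ≤ Nat.card {x : ↥W // PB x} := by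
    rw [hPB]; exact h2
  have h7 : Nat.card ↥W ≤ 2 * (Nat.card (↥W ⧸ A.subgroupOf W) * (Nat.card ↥A - 1)) := by
    rw [← a2]
    obtain ⟨k, hk⟩ : ∃ k, Nat.card ↥A = k + 2 := ⟨Nat.card ↥A - 2, by omega⟩
    rw [hk]
    have : k + 2 - 1 = k + 1 := by omega
    rw [this]
    nlinarith
  have h8 : Nat.card ↥W ≤ 2 * (Nat.card (↥W ⧸ B.subgroupOf W) * (Nat.card ↥B - 1)) := by
    rw [← b2]
    obtain ⟨k, hk⟩ : ∃ k, Nat.card ↥B = k + 2 := ⟨Nat.card ↥B - 2, by omega⟩
    rw [hk]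
    have : k + 2 - 1 = k + 1 := by omega
    rw [this]
    nlinarith
  omega

/-- **`⟨Y, Y^l⟩` contains an involution** -/
theorem exists_involution {L Y : Subgroup G} {e s l : G} (he : e ∈ normalizer (L : Set G)) (he2 : e * e = 1)
    (heK : e ∉ centralizer (L : Set G)) (LZ : ∀ a ∈ L, a ∈ centralizer (L : Set G) → a = 1)
    (aut : ∀ a ∈ L, a ≠ 1 → Odd (orderOf a) → a * e = e * a → ∀ c ∈ normalizer (L : Set G), c * a = a * c →
      c * c = 1 → c ∈ centralizer (L : Set G) ∨ c * e ∈ centralizer (L : Set G))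
    (hs : s ∈ L) (hs2 : orderOf s = 2) (hse : s * e = e * s) (hl : l ∈ L) (hle : l * e * l⁻¹ = e * s)
    (inv : ∀ t ∈ L, orderOf t = 2 → t * e = e * t → ∀ y ∈ Y, t * y * t⁻¹ = y⁻¹)
    (hYL : Y ≤ L) (hYe : ∀ y ∈ Y, e * y = y * e) (hY : Y ≠ ⊥) (H : Subgroup G) (hYH : Y ≤ H)
    (hYlH : ∀ a ∈ Y, l * a * l⁻¹ ∈ H) : ∃ t ∈ H, t ∈ L ∧ orderOf t = 2 := by
  by_contra hno
  push Not at hno
  have hei : e⁻¹ = e := inv_eq_of_mul_eq_one_left he2
  have hss := sq hs2
  have hsi : s⁻¹ = s := inv_eq_of_mul_eq_one_left hss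
  obtain ⟨Z, hZ⟩ : ∃ Z, Z = Y.map (MulAut.conj l).toMonoidHom := ⟨_, rfl⟩
  have hZmem : ∀ z ∈ Z, ∃ y ∈ Y, l * y * l⁻¹ = z := by
    intro z hz
    rw [hZ] at hz
    obtain ⟨y, hy, rfl⟩ := hz
    exact ⟨y, hy, rfl⟩
  have hmemZ : ∀ y ∈ Y, l * y * l⁻¹ ∈ Z := by
    intro y hy
    rw [hZ]
    exact ⟨y, hy, rfl⟩
  obtain ⟨W, hW⟩ : ∃ W, W = Y ⊔ Z := ⟨_, rfl⟩
  have hWL : W ≤ L := by
    rw [hW]
    refine sup_le hYL fun z hz => ?_
    obtain ⟨y, hy, rfl⟩ := hZmem z hz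
    exact mul_mem (mul_mem hl (hYL hy)) (inv_mem hl)
  have hWH : W ≤ H := by
    rw [hW]
    refine sup_le hYH fun z hz => ?_
    obtain ⟨y, hy, rfl⟩ := hZmem z hz
    exact hYlH y hy
  have hno' : ∀ t ∈ W, orderOf t ≠ 2 := fun t ht => hno t (hWH ht) (hWL ht)
  have hWodd : Odd (Nat.card ↥W) := by
    rw [← Nat.not_even_iff_odd, even_iff_two_dvd]
    intro h
    have : Fact (Nat.Prime 2) := ⟨Nat.prime_two⟩
    obtain ⟨t, ht⟩ := exists_prime_orderOf_dvd_card' 2 h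
    exact hno' t t.2 (by rwa [orderOf_coe])
  have hodd : ∀ a ∈ W, Odd (orderOf a) := fun a ha =>
    Odd.of_dvd_nat hWodd (Subgroup.orderOf_dvd_natCard _ ha)
  -- `e' = l e l⁻¹`
  obtain ⟨e', he'⟩ : ∃ e', e' = l * e * l⁻¹ := ⟨_, rfl⟩
  have he's : e' = e * s := by rw [he', hle]
  have he'2 : e' * e' = 1 := by rw [he']; exact conj_mul_self he2
  have hlN : l ∈ normalizer (L : Set G) := le_normalizer hl
  have he'N : e' ∈ normalizer (L : Set G) := by
    rw [he']; exact mul_mem (mul_mem hlN he) (inv_mem hlN)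
  have hse' : s * e' = e' * s := by
    rw [he's, ← mul_assoc, hse]
  have aut' : ∀ a ∈ L, a ≠ 1 → Odd (orderOf a) → a * e' = e' * a → ∀ c ∈ normalizer (L : Set G), c * a = a * c →
      c * c = 1 → c ∈ centralizer (L : Set G) ∨ c * e' ∈ centralizer (L : Set G) := by
    intro a ha ha1 hao hae c hc hca hc2
    have h1 : ∀ {g h : G}, g * h = h * g → l⁻¹ * g * l * (l⁻¹ * h * l) = l⁻¹ * h * l * (l⁻¹ * g * l) := by
      intro g h hgh
      calc l⁻¹ * g * l * (l⁻¹ * h * l) = l⁻¹ * (g * h) * l := by group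
        _ = l⁻¹ * h * l * (l⁻¹ * g * l) := by rw [hgh]; group
    have h2 : l⁻¹ * e' * l = e := by rw [he']; group
    have h3 := h1 hae
    rw [h2] at h3
    have h4 : orderOf (l⁻¹ * a * l) = orderOf a := by
      have h8 : l⁻¹ * a * l = MulAut.conj l⁻¹ a := by rw [MulAut.conj_apply, inv_inv]
      rw [h8]
      exact orderOf_injective (MulAut.conj l⁻¹).toMonoidHom (MulAut.conj l⁻¹).injective a
    have h5 : l⁻¹ * a * l ≠ 1 := by
      intro h
      apply ha1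
      have : a = l * (l⁻¹ * a * l) * l⁻¹ := by group
      rw [this, h]; group
    have h6 : l⁻¹ * c * l * (l⁻¹ * c * l) = 1 := by
      calc l⁻¹ * c * l * (l⁻¹ * c * l) = l⁻¹ * (c * c) * l := by group
        _ = 1 := by rw [hc2]; group
    rcases aut _ (mul_mem (mul_mem (inv_mem hl) ha) hl) h5 (by rwa [h4]) h3 (l⁻¹ * c * l)
      (mul_mem (mul_mem (inv_mem hlN) hc) hlN) (h1 hca) h6 with h | h
    · left
      have h7 := conjK hlN h
      convert h7 using 1
      group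
    · right
      have h7 := conjK hlN h
      convert h7 using 1
      rw [he']; group
  -- `e` normalizes `W`
  have hsZ : ∀ z ∈ Z, s * z * s⁻¹ = z⁻¹ := by
    intro z hz
    obtain ⟨y, hy, rfl⟩ := hZmem z hz
    have h1 : l⁻¹ * s * l * e = e * (l⁻¹ * s * l) := by
      have h2 : l⁻¹ * e' * l = e := by rw [he']; group
      calc l⁻¹ * s * l * e = l⁻¹ * s * l * (l⁻¹ * e' * l) := by rw [h2]
        _ = l⁻¹ * (s * e') * l := by group
        _ = (l⁻¹ * e' * l) * (l⁻¹ * s * l) := by rw [hse']; group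
        _ = e * (l⁻¹ * s * l) := by rw [h2]
    have h2 := inv (l⁻¹ * s * l) (mul_mem (mul_mem (inv_mem hl) hs) hl) (by
      have := order_conj l⁻¹ hs2
      rwa [inv_inv] at this) h1 y hy
    calc s * (l * y * l⁻¹) * s⁻¹ = l * (l⁻¹ * s * l * y * (l⁻¹ * s * l)⁻¹) * l⁻¹ := by group
      _ = (l * y * l⁻¹)⁻¹ := by rw [h2]; group
  have hZe' : ∀ z ∈ Z, e' * z = z * e' := by
    intro z hz
    obtain ⟨y, hy, rfl⟩ := hZmem z hz
    rw [he']
    calc l * e * l⁻¹ * (l * y * l⁻¹) = l * (e * y) * l⁻¹ := by group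
      _ = l * y * l⁻¹ * (l * e * l⁻¹) := by rw [hYe y hy]; group
  have hWe : ∀ w ∈ W, e * w * e⁻¹ ∈ W := by
    have h1 : W ≤ W.comap (MulAut.conj e).toMonoidHom := by
      nth_rewrite 1 [hW]
      refine sup_le (fun y hy => ?_) (fun z hz => ?_)
      · rw [mem_comap]
        change e * y * e⁻¹ ∈ W
        rw [hYe y hy, mul_inv_cancel_right, hW]
        exact mem_sup_left hy
      · rw [mem_comap]
        change e * z * e⁻¹ ∈ W
        have h2 : e = e' * s := by rw [he's, mul_assoc, hss, mul_one]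
        have h3 : e * z * e⁻¹ = z⁻¹ := by
          calc e * z * e⁻¹ = e' * (s * z * s⁻¹) * e'⁻¹ := by rw [h2]; group
            _ = e' * z⁻¹ * e'⁻¹ := by rw [hsZ z hz]
            _ = z⁻¹ := by rw [hZe' _ (inv_mem hz), mul_inv_cancel_right]
        rw [h3, hW]
        exact mem_sup_right (inv_mem hz)
    exact fun w hw => h1 hw
  have key : ∀ {f : G}, f ∈ normalizer (L : Set G) → f * f = 1 → ∀ w ∈ W, w⁻¹ * f * w ∈ centralizer (L : Set G) →
      f ∈ centralizer (L : Set G) := by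
    intro f _ _ w hw h
    have h1 := conjK (le_normalizer (hWL hw)) h
    convert h1 using 1
    group
  have he'K : e' ∉ centralizer (L : Set G) := by
    intro h
    apply heK
    have := conjK (inv_mem hlN) h
    rw [he'] at this
    convert this using 1
    group
  -- the TI property
  have ti : ∀ {f : G}, f ∈ normalizer (L : Set G) → f * f = 1 → f ∉ centralizer (L : Set G) →
      (∀ a ∈ L, a ≠ 1 → Odd (orderOf a) → a * f = f * a → ∀ c ∈ normalizer (L : Set G), c * a = a * c →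
      c * c = 1 → c ∈ centralizer (L : Set G) ∨ c * f ∈ centralizer (L : Set G)) →
      ∀ w ∈ W, ∀ a ∈ W, a * f = f * a → a ≠ 1 → w * a * w⁻¹ * f = f * (w * a * w⁻¹) → w * f = f * w := by
    intro f hf hf2 hfK hau w hw a ha haf ha1 hwf
    have hwN : w ∈ normalizer (L : Set G) := le_normalizer (hWL hw)
    have h1 : w⁻¹ * f * w * a = a * (w⁻¹ * f * w) := by
      calc w⁻¹ * f * w * a = w⁻¹ * (f * (w * a * w⁻¹)) * w := by group
        _ = w⁻¹ * (w * a * w⁻¹ * f) * w := by rw [hwf]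
        _ = a * (w⁻¹ * f * w) := by group
    have h2 : w⁻¹ * f * w * (w⁻¹ * f * w) = 1 := by
      calc w⁻¹ * f * w * (w⁻¹ * f * w) = w⁻¹ * (f * f) * w := by group
        _ = 1 := by rw [hf2]; group
    rcases hau a (hWL ha) ha1 (hodd a ha) haf _ (mul_mem (mul_mem (inv_mem hwN) hf) hwN) h1 h2 with h | h
    · exact absurd (key hf hf2 w hw h) hfK
    · have h3 : w⁻¹ * f * w * f ∈ L := by
        have h4 : f * w * f⁻¹ ∈ L := conj_mem hf (hWL hw)
        have h5 : f⁻¹ = f := inv_eq_of_mul_eq_one_left hf2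
        rw [h5] at h4
        have := mul_mem (inv_mem (hWL hw)) h4
        convert this using 1
        group
      have h4 := LZ _ h3 h
      have h5 : f * w * f = w := by
        calc f * w * f = w * (w⁻¹ * f * w * f) := by group
          _ = w := by rw [h4, mul_one]
      calc w * f = f * w * f * f := by rw [h5]
        _ = f * w * (f * f) := by group
        _ = f * w := by rw [hf2, mul_one]
  obtain ⟨y, hy, hy1⟩ : ∃ y ∈ Y, y ≠ 1 := by
    by_contra hcon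
    push Not at hcon
    exact hY ((eq_bot_iff_forall _).mpr hcon)
  have hYW : Y ≤ W := by rw [hW]; exact le_sup_left
  have hZW : Z ≤ W := by rw [hW]; exact le_sup_right
  refine false_of_two (W := W) (A := W ⊓ centralizer ({e} : Set G)) (B := W ⊓ centralizer ({e'} : Set G))
    inf_le_left inf_le_left ?_ ?_ ?_ ?_ ?_
  · intro h
    have : y ∈ (⊥ : Subgroup G) := h ▸ ⟨hYW hy, mem_centralizer_singleton_iff.mpr (hYe y hy).symm⟩
    exact hy1 (mem_bot.mp this)
  · intro h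
    have h1 : l * y * l⁻¹ ∈ (⊥ : Subgroup G) := h ▸ ⟨hZW (hmemZ y hy),
      mem_centralizer_singleton_iff.mpr (hZe' _ (hmemZ y hy)).symm⟩
    apply hy1
    rwa [mem_bot, conj_eq_one_iff] at h1
  · intro w hw a ha ha1 hwa
    exact ⟨hw, mem_centralizer_singleton_iff.mpr (ti he he2 heK aut w hw a ha.1
      (mem_centralizer_singleton_iff.mp ha.2) ha1 (mem_centralizer_singleton_iff.mp hwa.2))⟩
  · intro w hw a ha ha1 hwa
    exact ⟨hw, mem_centralizer_singleton_iff.mpr (ti he'N he'2 he'K aut' w hw a ha.1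
      (mem_centralizer_singleton_iff.mp ha.2) ha1 (mem_centralizer_singleton_iff.mp hwa.2))⟩
  · intro w hw a ha ha1 hwa
    have hwN : w ∈ normalizer (L : Set G) := le_normalizer (hWL hw)
    have hae := mem_centralizer_singleton_iff.mp ha.2
    have hwae := mem_centralizer_singleton_iff.mp hwa.2
    -- `c = w e w⁻¹`
    have h1 : w * e * w⁻¹ * (w * a * w⁻¹) = w * a * w⁻¹ * (w * e * w⁻¹) := by
      calc w * e * w⁻¹ * (w * a * w⁻¹) = w * (e * a) * w⁻¹ := by group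
        _ = w * a * w⁻¹ * (w * e * w⁻¹) := by rw [← hae]; group
    have h2 : w * a * w⁻¹ ≠ 1 := by rwa [Ne, conj_eq_one_iff]
    rcases aut' _ (hWL hwa.1) h2 (hodd _ hwa.1) hwae _ (mul_mem (mul_mem hwN he) (inv_mem hwN)) h1
      (conj_mul_self he2) with h | h
    · apply heK
      have := conjK (inv_mem hwN) h
      convert this using 1
      group
    · have h3 : w * (e * w⁻¹ * e⁻¹) ∈ W := mul_mem hw (hWe _ (inv_mem hw))
      have h4 : w * e * w⁻¹ * e' = w * (e * w⁻¹ * e⁻¹) * s := by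
        rw [he's, hei]
        group
      rw [h4] at h
      have h5 := LZ _ (mul_mem (hWL h3) hs) h
      have h6 : s ∈ W := by
        have : s = (w * (e * w⁻¹ * e⁻¹))⁻¹ := eq_inv_of_mul_eq_one_right h5
        rw [this]
        exact inv_mem h3
      exact hno' s h6 hs2

end Cfsg.Agent.UGT.Blk.Even
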