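import Cfsg.Agent.UGT.Blk.Defs

/-!
# Facts on the members, used in the adjacency files

`As L u a`: `u` acts on `L` as `a`.
`LF L PG`: `PG` is the group of elements of `N(L)` inducing elements of `PGL(2,q)` on `L ≅ L₂(q)`, `q ≥ 5` odd.
-/

set_option autoImplicit false

open Subgroup
open Cfsg.Agent.SignalizersComponents.IntrinsicBasic (cj)

namespace Cfsg.Agent.UGT.Blk

variable {G : Type*} [Group G]

/-- `u` acts on `L` as `a` -/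
def As (L : Subgroup G) (u a : G) : Prop := ∀ x ∈ L, u * x * u⁻¹ = a * x * a⁻¹

/-- `u` induces an inner automorphism of `L` -/
def Inn (L : Subgroup G) (u : G) : Prop := ∃ a ∈ L, As L u a

/-- `q ≥ 11`: generation by centralizers -/
def Big (L PG : Subgroup G) : Prop :=
  ∀ a ∈ L, orderOf a = 2 → ∀ u ∈ PG, ∀ v ∈ PG, u * u = 1 → v * v = 1 → u * v = v * u → As L u a →
    v ∉ centralizer (L : Set G) → u * v ∉ centralizer (L : Set G) →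
    ∀ X : Subgroup G, (∀ x ∈ L, x * u = u * x → x ∈ X) → (∀ x ∈ L, x * v = v * x → x ∈ X) → L ≤ X

/-- `q = 7, 9` -/
def Med (L PG : Subgroup G) : Prop :=
  ∀ a ∈ L, orderOf a = 2 → (∀ x ∈ L, x * a = a * x → ∃ n : ℕ, x ^ 2 ^ n = 1) ∧
    ∀ d ∈ PG, d * d = 1 → (∀ x ∈ L, x * a = a * x → x * d = d * x) → d ∈ centralizer (L : Set G) ∨ As L d a

/-- `q = 5` -/
def Fiv (L PG : Subgroup G) : Prop :=
  ∀ a ∈ L, orderOf a = 2 → (∀ x ∈ L, x * a = a * x → x * x = 1) ∧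
    (∃ l ∈ L, l * l * l = 1 ∧ a * (l * a * l⁻¹) = l⁻¹ * a * l ∧
      ∀ x ∈ L, x * a = a * x → x = 1 ∨ x = a ∨ x = l * a * l⁻¹ ∨ x = l⁻¹ * a * l) ∧
    ∀ d ∈ PG, d * d = 1 → (∀ x ∈ L, x * a = a * x → x * d = d * x) → ∃ z ∈ L, z * a = a * z ∧ As L d z

/-- Facts on `L ≅ L₂(q)` -/
structure LF (L PG : Subgroup G) : Prop where
  pgle : PG ≤ normalizer (L : Set G)
  le : L ≤ PG
  cenle : centralizer (L : Set G) ≤ PG
  /-- a field type involution centralizes an `A₄` -/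
  fld : ∀ u ∈ normalizer (L : Set G), u * u = 1 → u ∉ PG →
    ∃ v ∈ L, ∃ h ∈ L, orderOf v = 2 ∧ v * u = u * v ∧ h * u = u * h ∧ v * (h * v * h⁻¹) = h⁻¹ * v * h
  /-- no `A₄` acts on `L` centralizing an involution of `L` -/
  noA4 : ∀ t ∈ L, orderOf t = 2 → ∀ v ∈ normalizer (L : Set G), ∀ h ∈ normalizer (L : Set G), v * v = 1 →
    v * t = t * v → h * t = t * h → v * (h * v * h⁻¹) = h⁻¹ * v * h → v ∈ centralizer (L : Set G)
  /-- `|PGL : L| = 2` -/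
  idx : ∀ u ∈ PG, ∀ v ∈ PG, ¬ Inn L u → ¬ Inn L v → Inn L (u * v)
  /-- a four-group of `C_PGL(t)` contains `t` -/
  four : ∀ t ∈ L, orderOf t = 2 → ∀ v ∈ PG, ∀ w ∈ PG, v * v = 1 → w * w = 1 → v * w = w * v → v * t = t * v →
    w * t = t * w → v ∉ centralizer (L : Set G) → w ∉ centralizer (L : Set G) →
    v * w ∉ centralizer (L : Set G) → As L v t ∨ As L w t ∨ As L (v * w) t
  solv : ∀ t ∈ L, orderOf t = 2 → ∀ D : Subgroup G, ⁅D, D⁆ = D → D ≤ normalizer (L : Set G) →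
    (∀ d ∈ D, d * t = t * d) → D ≤ centralizer (L : Set G)
  perf : ∀ D : Subgroup G, ⁅D, D⁆ = D → D ≤ normalizer (L : Set G) → ∀ d ∈ D, Inn L d
  fix : ∀ u ∈ normalizer (L : Set G), u * u = 1 → ∃ t ∈ L, orderOf t = 2 ∧ t * u = u * t
  partner : ∀ a ∈ L, orderOf a = 2 → ∃ b ∈ L, orderOf b = 2 ∧ b ≠ a ∧ a * b = b * a
  perfect : ⁅L, L⁆ = L
  conj2 : ∀ t ∈ L, ∀ u ∈ L, orderOf t = 2 → orderOf u = 2 → ∃ l ∈ L, l * t * l⁻¹ = u
  simple : ∀ N : Subgroup G, N ≤ L → (∀ l ∈ L, ∀ n ∈ N, l * n * l⁻¹ ∈ N) → N = ⊥ ∨ N = L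
  size : Big L PG ∨ Med L PG ∨ Fiv L PG

/-- THEOREM H for `L`: `Y = O(C_L(u))`, `u` of PGL type. -/
def Root (L PG : Subgroup G) : Prop :=
  ∀ u ∈ PG, u * u = 1 → ¬ Inn L u → ∃ Y : Subgroup G, Y ≤ L ∧ (∀ y ∈ Y, y * u = u * y) ∧
    (∀ y ∈ Y, y * y = 1 → y = 1) ∧ (∀ t ∈ L, orderOf t = 2 → t * u = u * t → ∀ y ∈ Y, t * y * t⁻¹ = y⁻¹) ∧
    centralizer (Y : Set G) ≤ normalizer (L : Set G)

end Cfsg.Agent.UGT.Blk
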