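import Cfsg.Agent.UGT.Res.ThH

/-!
# Theorem H for blocks, all `q`

As `Blk/HStar.lean`, with `Y ≤ O e ≤ N(L)` (`e` bad) and `Y` possibly smaller than the torus of `C_L(e)`:

* `aut`: only 2-elements of `N(L) ∩ C(Y)`;
* `pair`: `⟨Y, lYl⁻¹⟩` contains an involution;
* `ti`: `L` contains all conjugates of `L` with a common involution;
* `sgn`: a sign on `N(L)`, `-1` on the bad elements.

Output: `C(Y)` and `N(Y)` normalize `L`.
-/

set_option autoImplicit false

open Subgroup
open Cfsg.Agent.SignalizersComponents.IntrinsicBasic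
open Cfsg.Agent.UGT.TriBase
open Cfsg.Agent.UGT.Res
open Cfsg.Agent.UGT.Res.ThH (Good sq order_two ne_one conj_mul_self order_conj mem_cen inv_pow dih
  mem_normalizer_of_le conj_mem conj_mem' conjK commYK cen_conj cenY_conj cen_le_norm comm_conj)

namespace Cfsg.Agent.UGT.Blk.HBlk

variable {G : Type*} [Group G]

/-- The hypotheses of Theorem H. -/
structure Data (O : G → Subgroup G) (L Y : Subgroup G) (B : G → Prop) : Prop where
  Ocj : ∀ g t a : G, a ∈ O t → g * a * g⁻¹ ∈ O (g * t * g⁻¹)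
  Oodd : ∀ t : G, Odd (Nat.card ↥(O t))
  YL : Y ≤ L
  Yodd : Odd (Nat.card ↥Y)
  Yne : Y ≠ ⊥
  gen : ∀ H : Subgroup G, (∀ l ∈ L, ∀ a ∈ Y, l * a * l⁻¹ ∈ H) → L ≤ H
  inv : ∀ {e : G}, B e → orderOf e = 2
  mem : ∀ {e : G}, B e → e ∈ normalizer (L : Set G)
  core : ∀ {e : G}, B e → ∀ a ∈ Y, a ∈ O e
  coreN : ∀ {e : G}, B e → O e ≤ normalizer (L : Set G)
  comm : ∀ {e : G}, B e → ∀ a ∈ Y, e * a = a * e
  mul : ∀ {e t : G}, B e → t ∈ centralizer (L : Set G) → orderOf t = 2 → t * e = e * t → B (e * t)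
  four : ∀ {e : G}, B e → ∃ t u : G, t ∈ centralizer (L : Set G) ∧ u ∈ centralizer (L : Set G) ∧
    orderOf t = 2 ∧ orderOf u = 2 ∧ t ≠ u ∧ t * u = u * t ∧ t * e = e * t ∧ u * e = e * u
  good : ∀ {e t : G}, B e → t ∈ centralizer (L : Set G) → orderOf t = 2 → t * e = e * t → Good L Y t
  aut : ∀ {e c : G}, B e → c ∈ normalizer (L : Set G) → c ∈ centralizer (Y : Set G) →
    (∃ n : ℕ, c ^ 2 ^ n = 1) → c ∈ centralizer (L : Set G) ∨ c * e ∈ centralizer (L : Set G)
  pair : ∀ {e : G}, B e → ∃ s ∈ L, ∃ l ∈ L, orderOf s = 2 ∧ s * e = e * s ∧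
    (∀ a ∈ Y, s * a * s⁻¹ = a⁻¹) ∧ l * e * l⁻¹ = e * s ∧
    ∀ H : Subgroup G, Y ≤ H → (∀ a ∈ Y, l * a * l⁻¹ ∈ H) → ∃ t ∈ H, t ∈ L ∧ orderOf t = 2
  ti : ∀ {t g : G}, t ∈ L → orderOf t = 2 → g * t * g⁻¹ ∈ L → g ∈ normalizer (L : Set G)
  sgn : ∃ f : ↥(normalizer (L : Set G)) →* ℤˣ, ∀ (e : G) (he : B e), f ⟨e, mem he⟩ = -1

/-! ### 2-parts -/

/-- an involution of `L D`, `D ≤ N(L)` odd, lies in `L` -/
theorem mem_of_sup {L D : Subgroup G} (hD : D ≤ normalizer (L : Set G)) (hodd : Odd (Nat.card ↥D))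
    {w : G} (hw : w ∈ L ⊔ D) (h2 : w * w = 1) : w ∈ L := by
  obtain ⟨a, ha, d, hd, rfl⟩ : ∃ a ∈ L, ∃ d ∈ D, a * d = w := by
    rw [← SetLike.mem_coe, coe_mul_of_right_le_normalizer_left _ _ hD] at hw
    exact hw
  have h1 : d * d ∈ L := by
    have h3 : d * a * d⁻¹ ∈ L := conj_mem (hD hd) ha
    have h4 : d * d = (d * a * d⁻¹)⁻¹ * a⁻¹ * (a * d * (a * d)) := by group
    rw [h4, h2, mul_one]
    exact mul_mem (inv_mem h3) (inv_mem ha)
  obtain ⟨m, hm⟩ := hodd
  have h3 : d ∈ L := by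
    have h4 : d ^ (2 * m + 1) = 1 := by
      rw [← hm]
      exact congrArg Subtype.val (pow_card_eq_one' (x := (⟨d, hd⟩ : ↥D)))
    have h5 : (d * d) ^ (m + 1) = d := by
      rw [← pow_two, ← pow_mul]
      have : 2 * (m + 1) = 2 * m + 1 + 1 := by ring
      rw [this, pow_succ, h4, one_mul]
    rw [← h5]
    exact pow_mem h1 _
  exact mul_mem ha h3

/-- `z = f² z₂` -/
theorem exists_split [Finite G] (z : G) : ∃ f z₂ : G, f ∈ zpowers z ∧ z₂ ∈ zpowers z ∧ f * f * z₂ = z ∧
    ∃ n : ℕ, z₂ ^ 2 ^ n = 1 := by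
  obtain ⟨n, m, hm, hnm⟩ := Nat.exists_eq_two_pow_mul_odd (n := orderOf z) (orderOf_pos z).ne'
  have hcop : Nat.Coprime (2 ^ (n + 1)) m := (Nat.coprime_pow_left_iff (by omega) 2 m).mpr hm.coprime_two_left
  -- `f = z ^ (2^n a)`, `2^(n+1) a ≡ 1 mod m`
  obtain ⟨a, b, hab⟩ := Nat.isCoprime_iff_coprime.mpr hcop
  refine ⟨z ^ ((2 : ℤ) ^ n * a), z ^ ((m : ℤ) * b), ⟨_, rfl⟩, ⟨_, rfl⟩, ?_, n, ?_⟩
  · rw [← zpow_add, ← zpow_add]
    have : (2 : ℤ) ^ n * a + 2 ^ n * a + m * b = 1 := by
      rw [← hab]; push_cast; ring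
    rw [this, zpow_one]
  · rw [← zpow_natCast, ← zpow_mul]
    have : (m : ℤ) * b * ((2 ^ n : ℕ) : ℤ) = (orderOf z : ℤ) * b := by
      rw [hnm]; push_cast; ring
    rw [this, zpow_mul, zpow_natCast, pow_orderOf_eq_one, one_zpow]

variable [Finite G]

section main

variable {O : G → Subgroup G} {L Y : Subgroup G} {B : G → Prop}

omit [Finite G] in
theorem Data.O_conj (D : Data O L Y B) {n t : G} (h : ∀ a ∈ Y, a ∈ O t)
    (hn : n ∈ normalizer (Y : Set G)) : ∀ a ∈ Y, a ∈ O (n * t * n⁻¹) := by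
  intro a ha
  have := D.Ocj n _ _ (h _ (conj_mem' hn ha))
  convert this using 1
  group

omit [Finite G] in
/-- `C(t)` normalizes `O t` -/
theorem Data.norm_O (D : Data O L Y B) {c t : G} (h : c * t = t * c) :
    c ∈ normalizer (O t : Set G) := by
  have e : ∀ {c : G}, c * t = t * c → c * t * c⁻¹ = t := by
    intro c hc
    rw [hc, mul_inv_cancel_right]
  have h' : c⁻¹ * t = t * c⁻¹ := by
    rw [inv_mul_eq_iff_eq_mul, ← mul_assoc, h, mul_inv_cancel_right]
  rw [mem_normalizer_iff]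
  intro a
  constructor
  · intro ha
    have := D.Ocj c _ _ ha
    rwa [e h] at this
  · intro ha
    have := D.Ocj c⁻¹ _ _ ha
    rw [e h'] at this
    convert this using 1
    group

omit [Finite G] in
theorem Data.not_core (D : Data O L Y B) {e t : G} (he : B e) (h : t ∈ centralizer (L : Set G)) :
    ¬ ∀ a ∈ Y, a ∈ O t := by
  intro h1
  have h2 : L ≤ O t := by
    apply D.gen
    intro l hl a ha
    exact conj_mem (D.norm_O (mem_cen.mp h l hl)) (h1 a ha)
  obtain ⟨s, hs, -, -, hs2, -⟩ := D.pair he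
  exact ne_one hs2 (eq_one_of_mem_odd (D.Oodd t) (h2 hs) (n := 1) (by rw [pow_one, pow_two]; exact sq hs2))

omit [Finite G] in
theorem Data.not_mem (D : Data O L Y B) {e : G} (h : B e) : e ∉ centralizer (L : Set G) :=
  fun h1 => D.not_core h h1 (D.core h)

omit [Finite G] in
theorem Data.K_le (D : Data O L Y B) : centralizer (L : Set G) ≤ centralizer (Y : Set G) :=
  centralizer_le D.YL

omit [Finite G] in
theorem Data.cen_mem (D : Data O L Y B) {e : G} (h : B e) : e ∈ centralizer (Y : Set G) :=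
  mem_cen.mpr fun a ha => (D.comm h a ha).symm

omit [Finite G] in
/-- an involution of `N(L) ∩ C(Y)` acts on `L` as `1` or as `e` -/
theorem Data.cases (D : Data O L Y B) {e u : G} (he : B e) (hu : u ∈ normalizer (L : Set G))
    (huY : u ∈ centralizer (Y : Set G)) (hu2 : u * u = 1) :
    u ∈ centralizer (L : Set G) ∨ u * e ∈ centralizer (L : Set G) :=
  D.aut he hu huY ⟨1, by rw [pow_one, pow_two]; exact hu2⟩

omit [Finite G] in
/-- `e` has no square root in `N(L) ∩ C(Y)` -/
theorem Data.noroot (D : Data O L Y B) {e w : G} (he : B e) (hw : w ∈ normalizer (L : Set G))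
    (hwY : w ∈ centralizer (Y : Set G)) (hww : w * w = e) (hwe : w * e = e * w) : False := by
  have he2 := sq (D.inv he)
  apply D.not_mem he
  rcases D.aut he hw hwY ⟨2, by
      change w ^ (2 * 2) = 1
      rw [pow_mul, pow_two w, hww, pow_two, he2]⟩ with h | h
  · rw [← hww]
    exact mul_mem h h
  · have h1 := mul_mem h h
    have h2 : w * e * (w * e) = e := by
      calc w * e * (w * e) = w * (e * w) * e := by group
        _ = w * w * (e * e) := by rw [← hwe]; group
        _ = e := by rw [hww, he2, mul_one]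
    rwa [h2] at h1

omit [Finite G] in
/-- an involution of `N(L) ∩ C(Y) ∩ C(e)` centralizes `L` or is bad -/
theorem Data.cases' (D : Data O L Y B) {e u : G} (he : B e) (hu : u ∈ normalizer (L : Set G))
    (huY : u ∈ centralizer (Y : Set G)) (hu2 : orderOf u = 2) (hue : u * e = e * u) :
    u ∈ centralizer (L : Set G) ∨ B u := by
  have he2 := sq (D.inv he)
  rcases D.cases he hu huY (sq hu2) with h | h
  · exact Or.inl h
  · right
    have e1 : e * (u * e) = u := by rw [hue, ← mul_assoc, he2, one_mul]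
    by_cases h1 : u * e = 1
    · have : u = e := by
        have := congrArg (· * e) h1
        simp only [mul_assoc, he2, mul_one, one_mul] at this
        exact this
      rw [this]
      exact he
    · have h2 : u * e * (u * e) = 1 := by
        calc u * e * (u * e) = u * (e * u) * e := by group
          _ = u * (u * e) * e := by rw [hue]
          _ = (u * u) * (e * e) := by group
          _ = 1 := by rw [sq hu2, he2, one_mul]
      have h3 : u * e * e = e * (u * e) := by rw [e1, mul_assoc, he2, mul_one]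
      have := D.mul he h (order_two h2 h1) h3
      rwa [e1] at this

/-- **end lemma**: `L^n ≤ C(w)`, `w` good, `n ∈ N(Y)` -/
theorem Data.mem_of_le (D : Data O L Y B) {n w : G} (hn : n ∈ normalizer (Y : Set G))
    (hw : Good L Y w) (h : ∀ l ∈ L, n * l * n⁻¹ * w = w * (n * l * n⁻¹)) :
    n ∈ normalizer (L : Set G) := by
  have h1 : ∀ l ∈ L, n * l * n⁻¹ ∈ normalizer (L : Set G) := by
    have := D.gen ((normalizer (L : Set G)).comap (MulAut.conj n).toMonoidHom) (by
      intro l hl a ha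
      rw [mem_comap]
      change n * (l * a * l⁻¹) * n⁻¹ ∈ _
      have h2 := hw.move _ (h l hl) _ (conj_mem hn ha)
      convert h2 using 1
      group)
    intro l hl
    exact this hl
  apply mem_normalizer_of_le
  have := D.gen (L.comap (MulAut.conj n).toMonoidHom) (by
    intro l hl a ha
    rw [mem_comap]
    change n * (l * a * l⁻¹) * n⁻¹ ∈ _
    have h2 := conj_mem (h1 l hl) (D.YL (conj_mem hn ha))
    convert h2 using 1
    group)
  intro l hl
  exact this hl

/-- **(A)** -/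
theorem Data.lemA (D : Data O L Y B) {x z t u n : G} (hx : B x)
    (hz : z ∈ centralizer (L : Set G)) (hz2 : orderOf z = 2) (hzx : z * x = x * z)
    (ht : t ∈ centralizer (L : Set G)) (hu : u ∈ centralizer (L : Set G)) (ht2 : orderOf t = 2)
    (hu2 : orderOf u = 2) (htu : t ≠ u) (htu' : t * u = u * t) (htx : t * x = x * t)
    (hux : u * x = x * u) (hn : n ∈ normalizer (Y : Set G))
    (htn : t * (n * z * n⁻¹) = n * z * n⁻¹ * t) (hun : u * (n * z * n⁻¹) = n * z * n⁻¹ * u) :
    n ∈ normalizer (L : Set G) := by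
  have key : ∀ w : G, w ∈ centralizer (L : Set G) → w * w = 1 →
      w * (n * z * n⁻¹) = n * z * n⁻¹ * w →
      n⁻¹ * w * n ∈ centralizer (L : Set G) ∨ n⁻¹ * w * n * x ∈ centralizer (L : Set G) := by
    intro w hw hw2 hwn
    have h1 : n⁻¹ * w * n * z = z * (n⁻¹ * w * n) := by
      calc n⁻¹ * w * n * z = n⁻¹ * (w * (n * z * n⁻¹)) * n := by group
        _ = n⁻¹ * (n * z * n⁻¹ * w) * n := by rw [hwn]
        _ = z * (n⁻¹ * w * n) := by group
    have h2 : n⁻¹ * w * n ∈ centralizer (Y : Set G) := by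
      have := cenY_conj (inv_mem hn) (D.K_le hw)
      rwa [inv_inv] at this
    have h3 := (D.good hx hz hz2 hzx).norm _ h1 (cen_le_norm Y h2)
    have h4 : n⁻¹ * w * n * (n⁻¹ * w * n) = 1 := by
      have := conj_mul_self (n := n⁻¹) hw2
      rwa [inv_inv] at this
    exact D.cases hx h3 h2 h4
  have fin : ∀ w : G, w ∈ centralizer (L : Set G) → orderOf w = 2 → w * x = x * w →
      n⁻¹ * w * n ∈ centralizer (L : Set G) → n ∈ normalizer (L : Set G) :=
    fun w hw hw2 hwx h => D.mem_of_le hn (D.good hx hw hw2 hwx) (cen_conj h)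
  have ht' := sq ht2
  have hu' := sq hu2
  rcases key t ht ht' htn with h1 | h1
  · exact fin t ht ht2 htx h1
  rcases key u hu hu' hun with h2 | h2
  · exact fin u hu hu2 hux h2
  have h3 : t * u * (t * u) = 1 := by
    calc t * u * (t * u) = t * (u * t) * u := by group
      _ = t * (t * u) * u := by rw [htu']
      _ = (t * t) * (u * u) := by group
      _ = 1 := by rw [ht', hu', one_mul]
  refine fin (t * u) (mul_mem ht hu) (order_two h3 ?_) ?_ ?_
  · intro h4
    apply htu
    have := congrArg (· * u) h4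
    simp only [mul_assoc, hu', mul_one, one_mul] at this
    exact this
  · rw [mul_assoc, hux, ← mul_assoc, htx, mul_assoc]
  · have hx2 := sq (D.inv hx)
    have h5 : n⁻¹ * (t * u) * n = (n⁻¹ * t * n * x) * (x * (n⁻¹ * u * n * x) * x⁻¹) := by
      have hx' : x⁻¹ = x := inv_eq_of_mul_eq_one_left hx2
      calc n⁻¹ * (t * u) * n = n⁻¹ * t * n * (n⁻¹ * u * n) := by group
        _ = n⁻¹ * t * n * (x * x) * (n⁻¹ * u * n) := by rw [hx2, mul_one]
        _ = (n⁻¹ * t * n * x) * (x * (n⁻¹ * u * n * x) * x⁻¹) := by group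
    rw [h5]
    exact mul_mem h1 (conjK (D.mem hx) h2)

/-- **(iii)** -/
theorem Data.mem_of_conj (D : Data O L Y B) {e r g : G} (he : B e)
    (hr : r ∈ centralizer (L : Set G)) (hr2 : orderOf r = 2) (hre : r * e = e * r)
    (hg : g ∈ normalizer (Y : Set G)) (hv : g * r * g⁻¹ ∈ normalizer (L : Set G))
    (hve : g * r * g⁻¹ * e = e * (g * r * g⁻¹)) : g ∈ normalizer (L : Set G) := by
  have h1 : g * r * g⁻¹ ∈ centralizer (Y : Set G) := cenY_conj hg (D.K_le hr)
  rcases D.cases' he hv h1 (order_conj g hr2) hve with h | h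
  · have h2 : g⁻¹ ∈ normalizer (L : Set G) := by
      refine D.mem_of_le (inv_mem hg) (D.good he hr hr2 hre) (cen_conj ?_)
      rwa [inv_inv]
    have := inv_mem h2
    rwa [inv_inv] at this
  · exfalso
    apply D.not_core he hr
    have h2 := D.O_conj (D.core h) (inv_mem hg)
    have e1 : g⁻¹ * (g * r * g⁻¹) * g⁻¹⁻¹ = r := by group
    rwa [e1] at h2

/-- **(i)**: the involutions `u ≠ e` of `N(L) ∩ C(e)` acting on `Y` as `1` or `s` have their centralizer in
`C(e)` inside `N(L)`. -/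
theorem Data.cen_le (D : Data O L Y B) {e s l u c : G} (he : B e) (hs : s ∈ L) (hl : l ∈ L)
    (hs2 : orderOf s = 2) (hse : s * e = e * s) (hsY : ∀ a ∈ Y, s * a * s⁻¹ = a⁻¹)
    (hle : l * e * l⁻¹ = e * s)
    (hgen : ∀ H : Subgroup G, Y ≤ H → (∀ a ∈ Y, l * a * l⁻¹ ∈ H) →
      ∃ t ∈ H, t ∈ L ∧ orderOf t = 2)
    (hu : u ∈ normalizer (L : Set G)) (hue : u * e = e * u) (hu2 : u * u = 1) (hu1 : u ≠ 1)
    (hne : u ≠ e) (hY : u ∈ centralizer (Y : Set G) ∨ u * s ∈ centralizer (Y : Set G))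
    (hce : c * e = e * c) (hcu : c * u = u * c) (hcY : c ∈ normalizer (Y : Set G)) :
    c ∈ normalizer (L : Set G) := by
  have he2 := sq (D.inv he)
  have hss := sq hs2
  rcases hY with hY | hY
  · rcases D.cases he hu hY hu2 with h | h
    · exact (D.good he h (order_two hu2 hu1) hue).norm c hcu hcY
    · have h1 : u * e ≠ 1 := by
        intro h1
        apply hne
        have := congrArg (· * e) h1
        simp only [mul_assoc, he2, mul_one, one_mul] at this
        exact this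
      have h2 : u * e * (u * e) = 1 := by
        calc u * e * (u * e) = u * (e * u) * e := by group
          _ = u * (u * e) * e := by rw [hue]
          _ = (u * u) * (e * e) := by group
          _ = 1 := by rw [hu2, he2, one_mul]
      have h3 : u * e * e = e * (u * e) := by rw [← mul_assoc, ← hue]
      refine (D.good he h (order_two h2 h1) h3).norm c ?_ hcY
      rw [← mul_assoc, hcu, mul_assoc, hce, ← mul_assoc]
  · -- `z = u s`, inverted by `s`
    have huinv : u⁻¹ = u := inv_eq_of_mul_eq_one_left hu2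
    have hsinv : s⁻¹ = s := inv_eq_of_mul_eq_one_left hss
    obtain ⟨z, hz⟩ : ∃ z, z = u * s := ⟨_, rfl⟩
    have hzinv : s * z * s⁻¹ = z⁻¹ := by
      rw [hz, mul_inv_rev, huinv, hsinv]
      calc s * (u * s) * s = s * u * (s * s) := by group
        _ = s * u := by rw [hss, mul_one]
    obtain ⟨f, z₂, hf, hz₂, hfz, hz2⟩ := exists_split z
    have hzP : ∀ P : Subgroup G, z ∈ P → f ∈ P ∧ z₂ ∈ P := fun P hP =>
      ⟨(zpowers_le.mpr hP) hf, (zpowers_le.mpr hP) hz₂⟩
    have hsL : s ∈ normalizer (L : Set G) := le_normalizer hs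
    obtain ⟨hfN, hzN⟩ := hzP (normalizer (L : Set G)) (by rw [hz]; exact mul_mem hu hsL)
    obtain ⟨hfY, hzY⟩ := hzP (centralizer (Y : Set G)) (by rw [hz]; exact hY)
    obtain ⟨hfe, hze⟩ := hzP (centralizer ({e} : Set G)) (by
      rw [hz]
      exact mul_mem (mem_centralizer_singleton_iff.mpr hue) (mem_centralizer_singleton_iff.mpr hse))
    rw [mem_centralizer_singleton_iff] at hfe hze
    have hinv' : ∀ w ∈ zpowers z, s * w * s⁻¹ = w⁻¹ := by
      intro w hw
      obtain ⟨i, rfl⟩ := mem_zpowers_iff.mp hw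
      rw [← conj_zpow, hzinv, inv_zpow]
    have hfz₂ : f * z₂ = z₂ * f := by
      obtain ⟨i, rfl⟩ := mem_zpowers_iff.mp hf
      obtain ⟨j, rfl⟩ := mem_zpowers_iff.mp hz₂
      rw [← zpow_add, ← zpow_add, add_comm]
    -- `u = f (z₂ s) f⁻¹`
    have hub : u = f * (z₂ * s) * f⁻¹ := by
      have h1 : s * f⁻¹ = f * s := by
        have := hinv' f⁻¹ (inv_mem hf)
        rw [inv_inv] at this
        calc s * f⁻¹ = s * f⁻¹ * s⁻¹ * s := by group
          _ = f * s := by rw [this]
      have h2 : u = z * s := by rw [hz, mul_assoc, hss, mul_one]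
      calc u = f * f * z₂ * s := by rw [h2, ← hfz]
        _ = f * (f * z₂) * s := by group
        _ = f * (z₂ * f) * s := by rw [hfz₂]
        _ = f * z₂ * (f * s) := by group
        _ = f * (z₂ * s) * f⁻¹ := by rw [← h1]; group
    -- `z₂ = k` or `k e`
    obtain ⟨k, j, hk, hj, hkj⟩ : ∃ k j, k ∈ centralizer (L : Set G) ∧ (j = 1 ∨ j = e) ∧ z₂ = k * j := by
      rcases D.aut he hzN hzY hz2 with h | h
      · exact ⟨z₂, 1, h, Or.inl rfl, (mul_one _).symm⟩
      · exact ⟨z₂ * e, e, h, Or.inr rfl, by rw [mul_assoc, he2, mul_one]⟩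
    have hje : j * e = e * j := by
      rcases hj with rfl | rfl
      · rw [one_mul, mul_one]
      · rfl
    have hjs : j * s = s * j := by
      rcases hj with rfl | rfl
      · rw [one_mul, mul_one]
      · exact hse.symm
    have hjj : j * j = 1 := by
      rcases hj with rfl | rfl
      · rw [one_mul]
      · exact he2
    have hk' : k = z₂ * j := by rw [hkj, mul_assoc, hjj, mul_one]
    have hke : k * e = e * k := by
      rw [hk']
      calc z₂ * j * e = z₂ * (j * e) := by group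
        _ = (z₂ * e) * j := by rw [hje]; group
        _ = e * (z₂ * j) := by rw [hze]; group
    have hks : k * s = s * k := (mem_cen.mp hk s hs).symm
    have hkj' : k * j = j * k := by
      rcases hj with rfl | rfl
      · rw [one_mul, mul_one]
      · exact hke
    have hk2 : k * k = 1 := by
      have h1 : z₂ * s * (z₂ * s) = 1 := by
        have h2 : z₂ * s = f⁻¹ * u * f := by rw [hub]; group
        rw [h2]
        calc f⁻¹ * u * f * (f⁻¹ * u * f) = f⁻¹ * (u * u) * f := by group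
          _ = 1 := by rw [hu2]; group
      have c1 : Commute k j := hkj'
      have c2 : Commute k s := hks
      have c3 : Commute j s := hjs
      rw [hkj] at h1
      calc k * k = k * k * (j * j) * (s * s) := by rw [hjj, hss, mul_one, mul_one]
        _ = k * (k * j) * (j * s) * s := by group
        _ = k * (j * k) * (s * j) * s := by rw [hkj', hjs]
        _ = k * j * (k * s) * (j * s) := by group
        _ = k * j * (s * k) * (j * s) := by rw [hks]
        _ = k * j * s * (k * j * s) := by group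
        _ = 1 := h1
    -- `c' = f⁻¹ c f`
    obtain ⟨c', hc'⟩ : ∃ c', c' = f⁻¹ * c * f := ⟨_, rfl⟩
    suffices hmem : c' ∈ normalizer (L : Set G) by
      have h1 : c = f * c' * f⁻¹ := by rw [hc']; group
      rw [h1]
      exact mul_mem (mul_mem hfN hmem) (inv_mem hfN)
    have hc'u : c' * (z₂ * s) = z₂ * s * c' := by
      rw [hc']
      refine comm_conj ?_
      rw [← hub]; exact hcu
    have hc'e : c' * e = e * c' := by
      rw [hc']
      refine comm_conj ?_
      have : f * e * f⁻¹ = e := by rw [hfe, mul_inv_cancel_right]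
      rw [this]; exact hce
    have hc'Y : c' ∈ normalizer (Y : Set G) := by
      have h1 := cen_le_norm Y hfY
      rw [hc']
      exact mul_mem (mul_mem (inv_mem h1) hcY) h1
    have hσ : c' * (e * s * k) = e * s * k * c' := by
      rw [hkj] at hc'u
      rcases hj with h | h
      · rw [h, mul_one] at hc'u
        calc c' * (e * s * k) = (c' * e) * (s * k) := by group
          _ = e * (c' * (k * s)) := by rw [hc'e, hks]; group
          _ = e * (k * s * c') := by rw [hc'u]
          _ = e * s * k * c' := by rw [hks]; group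
      · rw [h] at hc'u
        have h1 : k * e * s = e * s * k := by
          rw [hke, mul_assoc, hks, ← mul_assoc]
        rw [← h1]
        exact hc'u
    have hOσ : O (e * s * k) = O (l * (e * k) * l⁻¹) := by
      congr 1
      have hkl : k * l⁻¹ = l⁻¹ * k := (mem_cen.mp hk l⁻¹ (inv_mem hl)).symm
      calc e * s * k = l * e * l⁻¹ * k := by rw [hle]
        _ = l * e * (l⁻¹ * k) := by group
        _ = l * (e * k) * l⁻¹ := by rw [← hkl]; group
    have hBek : (∀ a ∈ Y, a ∈ O (e * k)) ∧ O (e * k) ≤ normalizer (L : Set G) := by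
      by_cases hk1 : k = 1
      · rw [hk1, mul_one]
        exact ⟨D.core he, D.coreN he⟩
      · have := D.mul he hk (order_two hk2 hk1) hke
        exact ⟨D.core this, D.coreN this⟩
    have hYO : ∀ a ∈ Y, l * a * l⁻¹ ∈ O (e * s * k) := by
      intro a ha
      rw [hOσ]
      exact D.Ocj _ _ _ (hBek.1 a ha)
    have hON : O (e * s * k) ≤ normalizer (L : Set G) := by
      intro a ha
      rw [hOσ] at ha
      have h1 : l⁻¹ * a * l ∈ O (e * k) := by
        have h1 := D.Ocj l⁻¹ _ _ ha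
        have e1 : l⁻¹ * (l * (e * k) * l⁻¹) * l⁻¹⁻¹ = e * k := by group
        rwa [e1, inv_inv] at h1
      have h2 := hBek.2 h1
      have hlN : l ∈ normalizer (L : Set G) := le_normalizer hl
      have h3 : a = l * (l⁻¹ * a * l) * l⁻¹ := by group
      rw [h3]
      exact mul_mem (mul_mem hlN h2) (inv_mem hlN)
    obtain ⟨t, htW, htL, ht2⟩ := hgen (Y ⊔ O (e * s * k)) le_sup_left fun a ha =>
      mem_sup_right (hYO a ha)
    have hW : ∀ w ∈ Y ⊔ O (e * s * k), c' * w * c'⁻¹ ∈ Y ⊔ O (e * s * k) := by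
      have h1 : Y ⊔ O (e * s * k) ≤ (Y ⊔ O (e * s * k)).comap (MulAut.conj c').toMonoidHom := by
        refine sup_le (fun a ha => ?_) (fun a ha => ?_)
        · rw [mem_comap]
          exact mem_sup_left (conj_mem hc'Y ha)
        · rw [mem_comap]
          exact mem_sup_right (conj_mem (D.norm_O hσ) ha)
      exact fun w hw => h1 hw
    refine D.ti htL ht2 (mem_of_sup hON (D.Oodd _) ((sup_le_sup_right D.YL _) (hW t htW)) ?_)
    exact conj_mul_self (sq ht2)

omit [Finite G] in
theorem Data.exists_ne_one (D : Data O L Y B) : ∃ y ∈ Y, y ≠ 1 := by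
  by_contra hno
  push Not at hno
  exact D.Yne ((eq_bot_iff_forall _).mpr hno)

omit [Finite G] in
theorem Data.not_inv (D : Data O L Y B) {w : G} (hw : w ∈ centralizer (Y : Set G))
    (h : ∀ a ∈ Y, w * a * w⁻¹ = a⁻¹) : False := by
  obtain ⟨y, hy, hy1⟩ := D.exists_ne_one
  apply hy1
  have h1 := h y hy
  have h2 : w * y * w⁻¹ = y := by
    rw [← commYK hy hw, mul_inv_cancel_right]
  rw [h2] at h1
  have h3 : y * y = 1 := by
    nth_rewrite 1 [h1]
    exact inv_mul_cancel y
  exact eq_one_of_mem_odd D.Yodd hy (n := 1) (by rw [pow_one, pow_two]; exact h3)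

/-- **(1)** `C(e) ∩ C(Y) ≤ N(L)` -/
theorem Data.C_le (D : Data O L Y B) {e g : G} (he : B e) (hge : g * e = e * g)
    (hgY : g ∈ centralizer (Y : Set G)) : g ∈ normalizer (L : Set G) := by
  obtain ⟨r, -, hr, -, hr2, -, -, -, hre, -⟩ := D.four he
  obtain ⟨s, hs, l, hl, hs2, hse, hsY, hle, hgen⟩ := D.pair he
  have he2 := sq (D.inv he)
  have hss := sq hs2
  have hsn : s ∈ normalizer (Y : Set G) := by
    apply mem_normalizer_of_le
    intro a ha
    rw [hsY a ha]
    exact inv_mem ha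
  have heY := D.cen_mem he
  have hs1 := ne_one hs2
  have hsne : s ≠ e := by
    rintro rfl
    exact D.not_inv heY hsY
  have hrY := D.K_le hr
  have hgn := cen_le_norm Y hgY
  have noodd : ∀ c v : G, c ∈ normalizer (Y : Set G) → v ∈ centralizer (Y : Set G) →
      c * s * c⁻¹ = v → False := by
    intro c v hc hv hcv
    apply D.not_inv hv
    intro a ha
    have h1 := hsY _ (conj_mem' hc ha)
    rw [← hcv]
    calc c * s * c⁻¹ * a * (c * s * c⁻¹)⁻¹ = c * (s * (c⁻¹ * a * c) * s⁻¹) * c⁻¹ := by group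
      _ = c * (c⁻¹ * a * c)⁻¹ * c⁻¹ := by rw [h1]
      _ = a⁻¹ := by group
  -- `(i)` for `s`
  have hcs : ∀ c : G, c * e = e * c → c * s = s * c → c ∈ normalizer (Y : Set G) →
      c ∈ normalizer (L : Set G) := by
    intro c h1 h2 h3
    refine D.cen_le he hs hl hs2 hse hsY hle hgen (le_normalizer hs) hse hss hs1 hsne
      (Or.inr ?_) h1 h2 h3
    rw [hss]
    exact one_mem _
  obtain ⟨v, hv⟩ : ∃ v, v = g * r * g⁻¹ := ⟨_, rfl⟩
  have hv2 : v * v = 1 := by rw [hv]; exact conj_mul_self (sq hr2)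
  have hvY : v ∈ centralizer (Y : Set G) := by rw [hv]; exact cenY_conj hgn hrY
  have hve : v * e = e * v := by
    rw [hv]
    have h1 : g⁻¹ * e = e * g⁻¹ := by
      rw [inv_mul_eq_iff_eq_mul, ← mul_assoc, hge, mul_inv_cancel_right]
    calc g * r * g⁻¹ * e = g * r * (g⁻¹ * e) := by group
      _ = g * (r * e) * g⁻¹ := by rw [h1]; group
      _ = (g * e) * (r * g⁻¹) := by rw [hre]; group
      _ = e * (g * r * g⁻¹) := by rw [hge]; group
  have hvn := cen_le_norm Y hvY
  suffices hvM : v ∈ normalizer (L : Set G) by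
    rw [hv] at hvM hve
    exact D.mem_of_conj he hr hr2 hre hgn hvM hve
  have hzn : ∀ c ∈ zpowers (s * v), c ∈ normalizer (Y : Set G) := fun c hc =>
    (zpowers_le.mpr (mul_mem hsn hvn)) hc
  have hsv_e : s * v * e = e * (s * v) := by
    rw [mul_assoc, hve, ← mul_assoc, hse, mul_assoc]
  have hcomm_e : ∀ m : ℕ, (s * v) ^ m * e = e * (s * v) ^ m := fun m =>
    ((Commute.pow_left (show Commute (s * v) e from hsv_e) m)).eq
  -- the action of `(s v)^m` on `Y`
  have hsvs : s * v * s ∈ centralizer (Y : Set G) := by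
    have h1 := cenY_conj hsn hvY
    have hs' : s⁻¹ = s := inv_eq_of_mul_eq_one_left hss
    rwa [hs'] at h1
  have hsq : (s * v) ^ 2 ∈ centralizer (Y : Set G) := by
    have h1 := mul_mem hsvs hvY
    have h2 : (s * v) ^ 2 = s * v * s * v := by rw [pow_two]; group
    rw [h2]; exact h1
  have heven : ∀ m : ℕ, (s * v) ^ (2 * m) ∈ centralizer (Y : Set G) := by
    intro m
    rw [pow_mul]
    exact pow_mem hsq m
  have hcase : ∀ m : ℕ, (s * v) ^ m ∈ centralizer (Y : Set G) ∨
      (s * v) ^ m * s ∈ centralizer (Y : Set G) := by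
    intro m
    rcases Nat.even_or_odd m with ⟨i, hi⟩ | ⟨i, hi⟩
    · left
      have : m = 2 * i := by omega
      rw [this]; exact heven i
    · right
      rw [hi, pow_succ, mul_assoc]
      exact mul_mem (heven i) hsvs
  rcases dih hss hv2 with ⟨c, hc, hcv⟩ | ⟨m, hm, hu2, hus, huv⟩
  · exact (noodd c v (hzn c hc) hvY hcv).elim
  by_cases hue : (s * v) ^ m = e
  · exfalso
    rcases Nat.even_or_odd m with ⟨j, hj⟩ | hodd
    · obtain ⟨w, hw⟩ : ∃ w, w = (s * v) ^ j := ⟨_, rfl⟩
      have hww : w * w = e := by rw [hw, ← pow_add, ← hj, hue]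
      have hwY : w ∈ normalizer (Y : Set G) := hw ▸ hzn _ (npow_mem_zpowers _ _)
      have hwe : w * e = e * w := hw ▸ hcomm_e j
      have hsw : s * w * s⁻¹ = w⁻¹ := hw ▸ inv_pow hss hv2 (npow_mem_zpowers _ _)
      have hs' : s⁻¹ = s := inv_eq_of_mul_eq_one_left hss
      have he' : e⁻¹ = e := inv_eq_of_mul_eq_one_left he2
      have hws : w * s * w⁻¹ = s * e := by
        have h1 : w * s = s * w⁻¹ := by
          have h2 : s * w⁻¹ = s * (s * w * s⁻¹) := by rw [hsw]
          rw [h2, hs', ← mul_assoc, ← mul_assoc, hss, one_mul]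
        rw [h1, mul_assoc, ← mul_inv_rev, hww, he']
      have hse1 := hse
      -- `v' = w r w⁻¹`
      have hrs : r * s = s * r := (mem_cen.mp hr s hs).symm
      have hv'e : w * r * w⁻¹ * e = e * (w * r * w⁻¹) := by
        have h1 : w⁻¹ * e = e * w⁻¹ := by
          rw [inv_mul_eq_iff_eq_mul, ← mul_assoc, hwe, mul_inv_cancel_right]
        calc w * r * w⁻¹ * e = w * r * (w⁻¹ * e) := by group
          _ = w * (r * e) * w⁻¹ := by rw [h1]; group
          _ = (w * e) * (r * w⁻¹) := by rw [hre]; group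
          _ = e * (w * r * w⁻¹) := by rw [hwe]; group
      have hv's : w * r * w⁻¹ * s = s * (w * r * w⁻¹) := by
        have h1 : s = w * s * w⁻¹ * e := by rw [hws, mul_assoc, he2, mul_one]
        calc w * r * w⁻¹ * s = w * r * w⁻¹ * (w * s * w⁻¹ * e) := by rw [← h1]
          _ = w * (r * s) * w⁻¹ * e := by group
          _ = w * s * w⁻¹ * (w * r * w⁻¹ * e) := by rw [hrs]; group
          _ = (w * s * w⁻¹ * e) * (w * r * w⁻¹) := by rw [hv'e]; group
          _ = s * (w * r * w⁻¹) := by rw [← h1]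
      have hwL := D.mem_of_conj he hr hr2 hre hwY
        (hcs _ hv'e hv's (cen_le_norm Y (cenY_conj hwY hrY))) hv'e
      rcases hcase j with h | h
      · rw [← hw] at h
        exact D.noroot he hwL h hww hwe
      · rw [← hw] at h
        have hq2 : w * s * (w * s) = 1 := by
          calc w * s * (w * s) = w * (s * w * s) := by group
            _ = w * (s * w * s⁻¹) := by rw [hs']
            _ = 1 := by rw [hsw, mul_inv_cancel]
        have he1 : e ≠ 1 := ne_one (D.inv he)
        have hwss : w * s * s = w := by rw [mul_assoc, hss, mul_one]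
        rcases D.cases he (mul_mem hwL (le_normalizer hs)) h hq2 with h1 | h1
        · apply he1
          have h2 : s * (w * s) = w * s * s := mem_cen.mp h1 s hs
          calc e = w * w := hww.symm
            _ = (w * s * s) * (w * s * s) := by rw [hwss]
            _ = (w * s) * (s * (w * s)) * s := by group
            _ = (w * s) * (w * s) * (s * s) := by rw [h2]; group
            _ = 1 := by rw [hq2, hss, one_mul]
        · apply he1
          have h2 : s * (w * s * e) = w * s * e * s := mem_cen.mp h1 s hs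
          -- `w s e` commutes with `s`, so `w s` does
          have h3 : s * (w * s) = w * s * s := by
            have h4 : s * (w * s) * e = w * s * s * e := by
              calc s * (w * s) * e = s * (w * s * e) := by group
                _ = w * s * (e * s) := by rw [h2]; group
                _ = w * s * s * e := by rw [← hse]; group
            exact mul_right_cancel h4
          calc e = w * w := hww.symm
            _ = (w * s * s) * (w * s * s) := by rw [hwss]
            _ = (w * s) * (s * (w * s)) * s := by group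
            _ = (w * s) * (w * s) * (s * s) := by rw [h3]; group
            _ = 1 := by rw [hq2, hss, one_mul]
    · -- `m` odd: `s` and `v e` have a product of odd order
      have hve2 : v * e * (v * e) = 1 := by
        calc v * e * (v * e) = v * (e * v) * e := by group
          _ = (v * v) * (e * e) := by rw [← hve]; group
          _ = 1 := by rw [hv2, he2, one_mul]
      rcases dih hss hve2 with ⟨c, hc, hcv⟩ | ⟨m', hm', hu', -, -⟩
      · refine noodd c (v * e) ?_ (mul_mem hvY heY) hcv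
        exact (zpowers_le.mpr (mul_mem hsn (mul_mem hvn (cen_le_norm Y heY)))) hc
      · have h1 : (s * (v * e)) ^ m = 1 := by
          rw [← mul_assoc, (show Commute (s * v) e from hsv_e).mul_pow, hue]
          obtain ⟨i, hi⟩ := hodd
          rw [hi, pow_succ, pow_mul, pow_two, he2, one_pow, one_mul, he2]
        have h2 := orderOf_dvd_of_pow_eq_one h1
        rw [hm'] at h2
        have h3 : 2 ∣ m := (dvd_mul_right 2 m').trans h2
        exact (Nat.not_even_iff_odd.mpr hodd) (even_iff_two_dvd.mpr h3)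
  · have h1 := hcomm_e m
    have huM : (s * v) ^ m ∈ normalizer (L : Set G) := hcs _ h1 hus (hzn _ (npow_mem_zpowers _ _))
    exact D.cen_le he hs hl hs2 hse hsY hle hgen huM h1 (sq hu2) (ne_one hu2) hue (hcase m) hve
      huv.symm hvn

/-- **(2)** `x` fixes one point of `C(Y) / (C(Y) ∩ N(L))` -/
theorem Data.point (D : Data O L Y B) {x h : G} (hx : B x) (hh : h ∈ centralizer (Y : Set G))
    (hx' : h * x * h⁻¹ ∈ normalizer (L : Set G)) : h ∈ normalizer (L : Set G) := by
  have hx2 := sq (D.inv hx)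
  have hxY := D.cen_mem hx
  have hhn := cen_le_norm Y hh
  have hxi : x⁻¹ = x := inv_eq_of_mul_eq_one_left hx2
  have hx'2 : h * x * h⁻¹ * (h * x * h⁻¹) = 1 := conj_mul_self hx2
  have hK : ∀ u : G, u ∈ centralizer (L : Set G) → ¬ ∀ a ∈ Y, a ∈ O u :=
    fun u hu => D.not_core hx hu
  rcases D.cases hx hx' (mul_mem (mul_mem hh hxY) (inv_mem hh)) hx'2 with h1 | h1
  · exact (hK _ h1 (D.O_conj (D.core hx) hhn)).elim
  · -- `x' x = k ∈ C(L)`
    have h2 : x * (h * x * h⁻¹) ∈ centralizer (L : Set G) := by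
      have := inv_mem h1
      have e1 : (h * x * h⁻¹ * x)⁻¹ = x * (h * x * h⁻¹) := by
        rw [mul_inv_rev, hxi]
        congr 1
        exact inv_eq_of_mul_eq_one_left hx'2
      rwa [e1] at this
    rcases dih hx2 hx'2 with ⟨c, hc, hcv⟩ | ⟨m, hm, hu2, hux, hux'⟩
    · have hcK : c ∈ centralizer (L : Set G) := (zpowers_le.mpr h2) hc
      have h3 : c⁻¹ * h * x = x * (c⁻¹ * h) := by
        calc c⁻¹ * h * x = c⁻¹ * (h * x * h⁻¹) * h := by group
          _ = c⁻¹ * (c * x * c⁻¹) * h := by rw [hcv]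
          _ = x * (c⁻¹ * h) := by group
      have h4 := D.C_le hx h3 (mul_mem (inv_mem (D.K_le hcK)) hh)
      have h5 : h = c * (c⁻¹ * h) := by group
      rw [h5]
      exact mul_mem (cen_le_norm L hcK) h4
    · obtain ⟨u, hu⟩ : ∃ u, u = (x * (h * x * h⁻¹)) ^ m := ⟨_, rfl⟩
      rw [← hu] at hu2 hux hux'
      have huK : u ∈ centralizer (L : Set G) := hu ▸ pow_mem h2 m
      have hwx : h⁻¹ * u * h * x = x * (h⁻¹ * u * h) := by
        calc h⁻¹ * u * h * x = h⁻¹ * (u * (h * x * h⁻¹)) * h := by group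
          _ = h⁻¹ * (h * x * h⁻¹ * u) * h := by rw [hux']
          _ = x * (h⁻¹ * u * h) := by group
      have hwY : h⁻¹ * u * h ∈ centralizer (Y : Set G) :=
        mul_mem (mul_mem (inv_mem hh) (D.K_le huK)) hh
      have hw2 : orderOf (h⁻¹ * u * h) = 2 := by
        have := order_conj h⁻¹ hu2
        rwa [inv_inv] at this
      have hwL := D.C_le hx hwx hwY
      rcases D.cases' hx hwL hwY hw2 hwx with h3 | h3
      · exact D.mem_of_le hhn (D.good hx huK hu2 hux) (cen_conj h3)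
      · exfalso
        apply hK u huK
        have := D.O_conj (D.core h3) hhn
        have e1 : h * (h⁻¹ * u * h) * h⁻¹ = u := by group
        rwa [e1] at this

/-- **(3)** the sign -/
theorem Data.exists_hom (D : Data O L Y B) {x : G} (_hx : B x) :
    ∃ f : ↥(centralizer (Y : Set G)) →* ℤˣ, ∀ e (he : e ∈ centralizer (Y : Set G)), B e →
      f ⟨e, he⟩ = -1 := by
  obtain ⟨σ, hσ⟩ := D.sgn
  obtain ⟨N₀, hN₀⟩ : ∃ N₀ : Subgroup ↥(centralizer (Y : Set G)), ∀ g : ↥(centralizer (Y : Set G)),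
      g ∈ N₀ ↔ ∃ h : (g : G) ∈ normalizer (L : Set G), σ ⟨g, h⟩ = 1 := by
    refine ⟨(σ.ker.map (normalizer (L : Set G)).subtype).subgroupOf (centralizer (Y : Set G)), ?_⟩
    intro g
    rw [mem_subgroupOf, mem_map]
    constructor
    · rintro ⟨⟨y, hy⟩, h1, h2⟩
      change y = (g : G) at h2
      subst h2
      exact ⟨hy, h1⟩
    · rintro ⟨h, h1⟩
      exact ⟨⟨g, h⟩, h1, rfl⟩
  obtain ⟨f, hf⟩ := Sign.exists_sign ((normalizer (L : Set G)).subgroupOf (centralizer (Y : Set G)))
    N₀ (by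
      rintro g hg n hn
      rw [mem_subgroupOf] at hg
      rw [hN₀] at hn ⊢
      obtain ⟨hn1, hn2⟩ := hn
      refine ⟨mul_mem (mul_mem hg hn1) (inv_mem hg), ?_⟩
      have e : (⟨(g * n * g⁻¹ : ↥(centralizer (Y : Set G))), mul_mem (mul_mem hg hn1) (inv_mem hg)⟩ :
          ↥(normalizer (L : Set G))) = ⟨g, hg⟩ * ⟨n, hn1⟩ * ⟨g, hg⟩⁻¹ := rfl
      rw [e, map_mul, map_mul, map_inv, mul_comm (σ ⟨g, hg⟩), mul_inv_cancel_right]
      exact hn2) (by
      rintro g hg h hh hg1 hh1
      rw [mem_subgroupOf] at hg hh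
      rw [hN₀] at hg1 hh1 ⊢
      refine ⟨mul_mem hg hh, ?_⟩
      have e : (⟨(g * h : ↥(centralizer (Y : Set G))), mul_mem hg hh⟩ :
          ↥(normalizer (L : Set G))) = ⟨g, hg⟩ * ⟨h, hh⟩ := rfl
      have h1 : σ ⟨g, hg⟩ = -1 := (Int.units_eq_one_or _).resolve_left fun h => hg1 ⟨hg, h⟩
      have h2 : σ ⟨h, hh⟩ = -1 := (Int.units_eq_one_or _).resolve_left fun h => hh1 ⟨hh, h⟩
      rw [e, map_mul, h1, h2]
      rfl)
  refine ⟨f, fun e heY he => ?_⟩
  apply hf
  · rw [mem_subgroupOf]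
    exact D.mem he
  · rw [hN₀]
    rintro ⟨h1, h2⟩
    rw [hσ e he] at h2
    exact absurd h2 (by decide)
  · exact Subtype.ext (sq (D.inv he))
  · rintro ⟨h, hhY⟩ h1
    rw [mem_subgroupOf] at h1 ⊢
    change h⁻¹ * e * h ∈ normalizer (L : Set G) at h1
    change h ∈ normalizer (L : Set G)
    have h2 := D.point he (h := h⁻¹) (inv_mem hhY) (by rwa [inv_inv])
    have := inv_mem h2
    rwa [inv_inv] at this

/-- **(4)**, first half: the involutions of `C(Y)` with sign `1` lie in `N(L)` -/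
theorem Data.mem_of_sign (D : Data O L Y B) {x : G} (hx : B x)
    {f : ↥(centralizer (Y : Set G)) →* ℤˣ}
    (hf : ∀ e (he : e ∈ centralizer (Y : Set G)), B e → f ⟨e, he⟩ = -1) {d : G}
    (hdY : d ∈ centralizer (Y : Set G)) (hd : d * d = 1) (hfd : f ⟨d, hdY⟩ = 1) :
    d ∈ normalizer (L : Set G) := by
  have hx2 := sq (D.inv hx)
  have hxY := D.cen_mem hx
  have hz : zpowers (x * d) ≤ centralizer (Y : Set G) := zpowers_le.mpr (mul_mem hxY hdY)
  rcases dih hx2 hd with ⟨c, hc, hcv⟩ | ⟨m, hm, hu2, hux, hud⟩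
  · exfalso
    have hcY := hz hc
    have h1 : f ⟨d, hdY⟩ = f ⟨x, hxY⟩ := by
      have e : (⟨d, hdY⟩ : ↥(centralizer (Y : Set G))) = ⟨c, hcY⟩ * ⟨x, hxY⟩ * ⟨c, hcY⟩⁻¹ :=
        Subtype.ext hcv.symm
      rw [e, map_mul, map_mul, map_inv, mul_comm (f ⟨c, hcY⟩), mul_inv_cancel_right]
    rw [h1, hf x hxY hx] at hfd
    exact absurd hfd (by decide)
  · have huY : (x * d) ^ m ∈ centralizer (Y : Set G) := hz (npow_mem_zpowers _ _)
    have huL := D.C_le hx hux huY
    rcases D.cases' hx huL huY hu2 hux with h1 | h1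
    · exact (D.good hx h1 hu2 hux).norm d hud.symm (cen_le_norm Y hdY)
    · exact D.C_le h1 hud.symm hdY

/-- a maximal 2-subgroup of `C(Y) ∩ N(L)` with the elements needed for `lemA` -/
theorem Data.exists_T (D : Data O L Y B) {x : G} (hx : B x) :
    ∃ (T : Subgroup G) (t u z : G), IsSyl (centralizer (Y : Set G) ⊓ normalizer (L : Set G)) T ∧
      x ∈ T ∧ t ∈ T ∧ u ∈ T ∧ z ∈ T ∧ (∀ s ∈ T, s * z = z * s) ∧
      t ∈ centralizer (L : Set G) ∧ u ∈ centralizer (L : Set G) ∧ z ∈ centralizer (L : Set G) ∧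
      orderOf t = 2 ∧ orderOf u = 2 ∧ orderOf z = 2 ∧ t ≠ u ∧ t * u = u * t ∧ t * x = x * t ∧
      u * x = x * u := by
  obtain ⟨t, u, ht, hu, ht2, hu2, htu, htu', htx, hux⟩ := D.four hx
  have hx2 := sq (D.inv hx)
  obtain ⟨T₀, hT₀⟩ : ∃ T₀ : Subgroup G, T₀ = closure ({x, t, u} : Set G) := ⟨_, rfl⟩
  have hxT : x ∈ T₀ := hT₀ ▸ subset_closure (by simp)
  have htT : t ∈ T₀ := hT₀ ▸ subset_closure (by simp)
  have huT : u ∈ T₀ := hT₀ ▸ subset_closure (by simp)
  have hcomm : ∀ a ∈ ({x, t, u} : Set G), ∀ b ∈ ({x, t, u} : Set G), a * b = b * a := by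
    rintro a (rfl | rfl | rfl) b (rfl | rfl | rfl)
    · rfl
    · exact htx.symm
    · exact hux.symm
    · exact htx
    · rfl
    · exact htu'
    · exact hux
    · exact htu'.symm
    · rfl
  have hcomm' : ∀ a ∈ T₀, ∀ b ∈ T₀, a * b = b * a := by
    have h1 : T₀ ≤ centralizer ({x, t, u} : Set G) := by
      rw [hT₀, closure_le]
      intro a ha
      rw [SetLike.mem_coe, mem_centralizer_iff]
      intro b hb
      exact hcomm b hb a ha
    have h2 : T₀ ≤ centralizer (T₀ : Set G) := by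
      nth_rewrite 1 [hT₀]
      rw [closure_le]
      intro a ha
      rw [SetLike.mem_coe, mem_centralizer_iff]
      intro b hb
      exact (mem_centralizer_iff.mp (h1 hb) a ha).symm
    intro a ha b hb
    exact mem_cen.mp (h2 hb) a ha
  have hsq' : ∀ a ∈ T₀, a * a = 1 := by
    intro a ha
    rw [hT₀] at ha
    induction ha using closure_induction with
    | mem a ha =>
      rcases ha with rfl | rfl | rfl
      · exact hx2
      · exact sq ht2
      · exact sq hu2
    | one => rw [one_mul]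
    | mul a b ha hb h1 h2 =>
      have h3 := hcomm' a (hT₀ ▸ ha) b (hT₀ ▸ hb)
      calc a * b * (a * b) = a * (b * a) * b := by group
        _ = (a * a) * (b * b) := by rw [← h3]; group
        _ = 1 := by rw [h1, h2, one_mul]
    | inv a ha h1 =>
      rw [← mul_inv_rev, h1, inv_one]
  have hT₀2 : IsPGroup 2 ↥T₀ := by
    rintro ⟨a, ha⟩
    refine ⟨1, ?_⟩
    rw [pow_one, pow_two]
    exact Subtype.ext (hsq' a ha)
  have hle : T₀ ≤ centralizer (Y : Set G) ⊓ normalizer (L : Set G) := by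
    rw [hT₀, closure_le]
    rintro a (rfl | rfl | rfl)
    · exact ⟨D.cen_mem hx, D.mem hx⟩
    · exact ⟨D.K_le ht, cen_le_norm L ht⟩
    · exact ⟨D.K_le hu, cen_le_norm L hu⟩
  obtain ⟨T, hT, hT₀T⟩ := exists_isSyl hT₀2 hle
  obtain ⟨z, hz, hz2, hzT⟩ := exists_central (N := T ⊓ centralizer (L : Set G)) hT.two inf_le_left (by
      intro s hs
      rw [mem_normalizer_iff]
      intro y
      rw [mem_inf, mem_inf]
      have hsL : s ∈ normalizer (L : Set G) := (hT.le hs).2
      constructor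
      · rintro ⟨h1, h2⟩
        exact ⟨mul_mem (mul_mem hs h1) (inv_mem hs), conjK hsL h2⟩
      · rintro ⟨h1, h2⟩
        have e1 : y = s⁻¹ * (s * y * s⁻¹) * s⁻¹⁻¹ := by group
        rw [e1]
        exact ⟨mul_mem (mul_mem (inv_mem hs) h1) (inv_mem (inv_mem hs)), conjK (inv_mem hsL) h2⟩)
    (by
      intro h
      have : t ∈ (⊥ : Subgroup G) := h ▸ (⟨hT₀T htT, ht⟩ : t ∈ T ⊓ centralizer (L : Set G))
      exact ne_one ht2 (mem_bot.mp this))
  exact ⟨T, t, u, z, hT, hT₀T hxT, hT₀T htT, hT₀T huT, hz.1, hzT, ht, hu, hz.2, ht2, hu2, hz2, htu,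
    htu', htx, hux⟩

/-- **THEOREM H**: `C(Y) ≤ N(L)` -/
theorem Data.cen_le_normalizer (D : Data O L Y B) {x : G} (hx : B x) :
    centralizer (Y : Set G) ≤ normalizer (L : Set G) := by
  obtain ⟨f, hf⟩ := D.exists_hom hx
  have hxY := D.cen_mem hx
  obtain ⟨T, t, u, z, hT, hxT, htT, huT, hzT, hzc, ht, hu, hz, ht2, hu2, hz2, htu, htu', htx, hux⟩ :=
    D.exists_T hx
  have hx2 := sq (D.inv hx)
  have hxi : x⁻¹ = x := inv_eq_of_mul_eq_one_left hx2
  -- the signs of `t`, `u`, `z`
  have hone : ∀ w (hw : w ∈ centralizer (Y : Set G)), w ∈ centralizer (L : Set G) →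
      orderOf w = 2 → w * x = x * w → f ⟨w, hw⟩ = 1 := by
    intro w hw hwK hw2 hwx
    have hB := D.mul hx hwK hw2 hwx
    have h1 := hf (x * w) (mul_mem hxY hw) hB
    have h2 := hf x hxY hx
    have e : (⟨x * w, mul_mem hxY hw⟩ : ↥(centralizer (Y : Set G))) = ⟨x, hxY⟩ * ⟨w, hw⟩ := rfl
    rw [e, map_mul, h2] at h1
    have h3 : f ⟨w, hw⟩ = (-1) * ((-1) * f ⟨w, hw⟩) := by simp
    rw [h3, h1]
    rfl
  -- the subgroup `Om`
  obtain ⟨Om, hOm⟩ : ∃ Om : Subgroup G, Om = closure {d | ∃ hd : d ∈ centralizer (Y : Set G),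
      d * d = 1 ∧ f ⟨d, hd⟩ = 1} := ⟨_, rfl⟩
  have hOmle : Om ≤ centralizer (Y : Set G) ⊓ normalizer (L : Set G) := by
    rw [hOm, closure_le]
    rintro d ⟨hd, hd2, hfd⟩
    exact ⟨hd, D.mem_of_sign hx hf hd hd2 hfd⟩
  have hOmn : ∀ h ∈ centralizer (Y : Set G), ∀ d ∈ Om, h * d * h⁻¹ ∈ Om := by
    intro h hh d hd
    have h1 : Om ≤ Om.comap (MulAut.conj h).toMonoidHom := by
      nth_rewrite 1 [hOm]
      rw [closure_le]
      rintro d ⟨hd, hd2, hfd⟩
      rw [SetLike.mem_coe, mem_comap]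
      change h * d * h⁻¹ ∈ Om
      rw [hOm]
      apply Subgroup.subset_closure
      refine ⟨mul_mem (mul_mem hh hd) (inv_mem hh), conj_mul_self hd2, ?_⟩
      have e : (⟨h * d * h⁻¹, mul_mem (mul_mem hh hd) (inv_mem hh)⟩ :
          ↥(centralizer (Y : Set G))) = ⟨h, hh⟩ * ⟨d, hd⟩ * ⟨h, hh⟩⁻¹ := rfl
      rw [e, map_mul, map_mul, map_inv, mul_comm (f ⟨h, hh⟩), mul_inv_cancel_right]
      exact hfd
    exact h1 hd
  have hmemOm : ∀ w, w ∈ centralizer (L : Set G) → orderOf w = 2 → w * x = x * w → w ∈ Om := by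
    intro w hw hw2 hwx
    rw [hOm]
    exact Subgroup.subset_closure ⟨D.K_le hw, sq hw2, hone w _ hw hw2 hwx⟩
  have hzx : z * x = x * z := (hzc x hxT).symm
  have htO := hmemOm t ht ht2 htx
  have huO := hmemOm u hu hu2 hux
  have hzO := hmemOm z hz hz2 hzx
  -- Frattini
  obtain ⟨P, hP⟩ : ∃ P, P = T ⊓ Om := ⟨_, rfl⟩
  have hPs : IsSyl Om P := by
    rw [hP]
    refine hT.inf hOmle ?_
    intro g hg
    rw [mem_normalizer_iff]
    intro y
    constructor
    · intro hy
      exact hOmn g hg.1 y hy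
    · intro hy
      have := hOmn g⁻¹ (inv_mem hg.1) _ hy
      convert this using 1
      group
  have hN : ∀ g ∈ centralizer (Y : Set G), g ∈ normalizer (P : Set G) →
      g ∈ normalizer (L : Set G) := by
    intro g hg hgP
    have htP : t ∈ P := hP ▸ ⟨htT, htO⟩
    have huP : u ∈ P := hP ▸ ⟨huT, huO⟩
    have key : ∀ w ∈ P, w * (g * z * g⁻¹) = g * z * g⁻¹ * w := by
      intro w hw
      have h1 : g⁻¹ * w * g ∈ P := conj_mem' hgP hw
      rw [hP] at h1
      have h2 := hzc _ h1.1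
      calc w * (g * z * g⁻¹) = g * (g⁻¹ * w * g * z) * g⁻¹ := by group
        _ = g * (z * (g⁻¹ * w * g)) * g⁻¹ := by rw [h2]
        _ = g * z * g⁻¹ * w := by group
    exact D.lemA hx hz hz2 hzx ht hu ht2 hu2 htu htu' htx hux (cen_le_norm Y hg) (key t htP)
      (key u huP)
  intro h hh
  have h1 : cj h P ≤ Om := by
    rintro _ ⟨p, hp, rfl⟩
    exact hOmn h hh p (hPs.le hp)
  obtain ⟨g, hg, h2⟩ := hPs.conj (isPGroup_cj (g := h) hPs.two) h1
  have h3 : cj h P = cj g P := eq_of_le_of_card_ge h2 (by rw [card_cj, card_cj])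
  have hgY : g ∈ centralizer (Y : Set G) := (hOmle hg).1
  have h4 : g⁻¹ * h ∈ normalizer (P : Set G) := by
    rw [mem_normalizer_iff_cj, cj_mul, h3, cj_inv_cj]
  have h5 := hN _ (mul_mem (inv_mem hgY) hh) h4
  have h6 : h = g * (g⁻¹ * h) := by group
  rw [h6]
  exact mul_mem (hOmle hg).2 h5

/-- **THEOREM H**, second part: `N(Y) ≤ N(L)` -/
theorem Data.normalizer_le (D : Data O L Y B) {x : G} (hx : B x) :
    normalizer (Y : Set G) ≤ normalizer (L : Set G) := by
  have hH := D.cen_le_normalizer hx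
  obtain ⟨T, t, u, z, hT, hxT, htT, huT, hzT, hzc, ht, hu, hz, ht2, hu2, hz2, htu, htu', htx, hux⟩ :=
    D.exists_T hx
  rw [inf_of_le_left hH] at hT
  have hzx : z * x = x * z := (hzc x hxT).symm
  intro n hn
  have h1 : cj n T ≤ centralizer (Y : Set G) := by
    rintro _ ⟨p, hp, rfl⟩
    exact cenY_conj hn (hT.le hp)
  obtain ⟨g, hg, h2⟩ := hT.conj (isPGroup_cj (g := n) hT.two) h1
  have h3 : cj n T = cj g T := eq_of_le_of_card_ge h2 (by rw [card_cj, card_cj])
  have h4 : g⁻¹ * n ∈ normalizer (T : Set G) := by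
    rw [mem_normalizer_iff_cj, cj_mul, h3, cj_inv_cj]
  have key : ∀ w ∈ T, w * (g⁻¹ * n * z * (g⁻¹ * n)⁻¹) = g⁻¹ * n * z * (g⁻¹ * n)⁻¹ * w := by
    intro w hw
    obtain ⟨m, hm⟩ : ∃ m, m = g⁻¹ * n := ⟨_, rfl⟩
    rw [← hm] at h4 ⊢
    have h5 := hzc _ (conj_mem' h4 hw)
    calc w * (m * z * m⁻¹) = m * (m⁻¹ * w * m * z) * m⁻¹ := by group
      _ = m * (z * (m⁻¹ * w * m)) * m⁻¹ := by rw [h5]
      _ = m * z * m⁻¹ * w := by group
  have h5 := D.lemA hx hz hz2 hzx ht hu ht2 hu2 htu htu' htx hux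
    (mul_mem (inv_mem (cen_le_norm Y hg)) hn) (key t htT) (key u huT)
  have h6 : n = g * (g⁻¹ * n) := by group
  rw [h6]
  exact mul_mem (hH hg) h5

end main

end Cfsg.Agent.UGT.Blk.HBlk
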