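import Cfsg.Agent.UGT.BL.Pump

/-!
# Pump-ups of a single honest component

As `BL/Pump.lean`, for one subgroup `L` with `C(t) ≤ N(L)` for its involutions (`B1 L`): no adjacency hypothesis.
-/

set_option autoImplicit false

open Cfsg Subgroup
open Cfsg.Agent.SignalizersComponents Cfsg.Agent.Lib
open Cfsg.Agent.SignalizersComponents.IntrinsicBasic
open Cfsg.Agent.SignalizersComponents.IntrinsicIntr
open Cfsg.Agent.SignalizersComponents.PLayerAut
open Cfsg.Agent.Intrinsic.Basic Cfsg.Agent.Intrinsic.Cen Cfsg.Agent.Intrinsic.Diag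
open Cfsg.Agent.McLLyComp.Act
open Cfsg.Agent.UGT.TMCBase
open Cfsg.Agent.UGT.BL (T2 Iv Cm cm_iff Sn exists_fixed_coset)
open scoped commutatorElement

namespace Cfsg.Agent.UGT.Blk

variable {G : Type*} [Group G]

/-- `L` is of type `T2` and `C(t) ≤ N(L)` for the involutions `t` of `L` -/
structure B1 (L : Subgroup G) : Prop where
  ty : T2 ↥L
  b1 : ∀ t, Iv L t → ∀ c, c * t = t * c → c ∈ normalizer (L : Set G)

namespace B1

variable [Finite G] {L : Subgroup G} (h : B1 L)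
include h

/-- (C) -/
theorem odd_cm {O : Subgroup G} (hodd : Odd (Nat.card O)) (hn : L ≤ normalizer (O : Set G)) :
    Cm O L := by
  have hT := h.ty
  obtain ⟨t, ht⟩ := hT.exists_iv
  obtain ⟨v, hv, hvt, htv⟩ := hT.exists_four ht
  have htv' : Iv L (t * v) := by
    refine ⟨L.mul_mem ht.mem hv.mem, ?_, P3.mul_ne_one_of_ne hv.sq (Ne.symm hvt)⟩
    calc t * v * (t * v) = t * (v * t) * v := by group
      _ = (t * t) * (v * v) := by rw [← htv]; group
      _ = 1 := by rw [ht.sq, hv.sq, one_mul]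
  have key : ∀ s, Iv L s → ∀ z ∈ O, z * s = s * z → z ∈ centralizer (L : Set G) := by
    intro s hs z hz hzs
    have hzN := h.b1 s hs z hzs
    rw [mem_centralizer_iff]
    intro l hl
    have h1 : z * l * z⁻¹ * l⁻¹ = 1 := by
      refine hT.odd (N := O) (fun l hl n hn' => (mem_normalizer_iff.1 (hn hl) n).1 hn') hodd ?_ ?_
      · exact L.mul_mem ((mem_normalizer_iff.1 hzN l).1 hl) (L.inv_mem hl)
      · have e : z * l * z⁻¹ * l⁻¹ = z * (l * z⁻¹ * l⁻¹) := by group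
        rw [e]
        exact O.mul_mem hz ((mem_normalizer_iff.1 (hn hl) _).1 (O.inv_mem hz))
    have h2 : z * l * z⁻¹ = l := mul_inv_eq_one.1 h1
    calc l * z = z * l * z⁻¹ * z := by rw [h2]
      _ = z * l := by group
  have h1 : O ≤ centralizer (L : Set G) := P3.odd_gen hodd ht.sq hv.sq htv ht.ne hv.ne (Ne.symm hvt) (hn ht.mem)
    (hn hv.mem) (key t ht) (key v hv) (key _ htv')
  exact cm_iff.2 h1

/-- the core of a group normalised by `L` is centralised by `L` -/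
theorem core_cm {X : Subgroup G} (hn : L ≤ normalizer (X : Set G)) : Cm (core X) L :=
  h.odd_cm (odd_card_core X) (hn.trans (normalizer_le_normalizer_core X))

/-- no diagonal pump-ups -/
theorem no_diag {J : Subgroup G} {τ u : G} (hτ : τ * τ = 1) (huτ : τ * u = u * τ)
    (hLX : IsComp (centralizer ({u} : Set G) ⊓ centralizer ({τ} : Set G)) L)
    (hJ : IsComp (centralizer ({u} : Set G)) J) (hne : cj τ J ≠ J)
    (hd : L = diag (centralizer ({u} : Set G)) J τ) : False := by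
  have hT := h.ty
  obtain ⟨X, hX⟩ : ∃ X, X = centralizer ({u} : Set G) := ⟨_, rfl⟩
  rw [← hX] at hLX hJ hd
  have hτX : τ ∈ X := by rw [hX]; exact mem_c huτ
  obtain ⟨-, hd2, -⟩ := exists_diag hJ hτX hτ hne
  rw [← hd] at hd2
  have hJ' : IsComp X (IntrinsicBasic.cj τ J) := isComp_cj_of_mem hJ hτX
  have hLτ : ∀ l ∈ L, l * τ = τ * l := fun l hl => comm_c (hLX.le hl).2
  have hLX' : L ≤ X := fun l hl => (hLX.le hl).1
  have hLN : L ≤ normalizer (J : Set G) := (isComp_le_L2 hτX hτ hLX).trans hJ.L2_le_normalizer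
  -- `L ∩ J = 1`
  have hinf : ∀ x ∈ L, x ∈ J → x = 1 := by
    rcases hT.le_or (N := J) (fun l hl n hn _ => (mem_normalizer_iff.1 (hLN hl) n).1 hn) with h1 | h1
    · exact h1
    · exfalso
      have h2 : L ≤ IntrinsicBasic.cj τ J := by
        intro l hl
        rw [mem_cj]
        have e : τ⁻¹ * l * τ = l := by
          calc τ⁻¹ * l * τ = τ⁻¹ * (l * τ) := by group
            _ = l := by rw [hLτ l hl]; group
        rw [e]
        exact h1 hl
      have h3 : L ≤ core J := by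
        refine (hT.perfect).trans ((commutator_mono h1 h2).trans ?_)
        exact (hJ.comm_le_core hJ' (Ne.symm hne)).trans inf_le_left
      obtain ⟨t, ht⟩ := hT.exists_iv
      exact ht.ne (eq_one_of_mem_core_sq (h3 ht.mem) ht.sq)
  have hJN : ∀ x ∈ J, x ∈ normalizer (L : Set G) → ∀ l ∈ L, x * l = l * x := by
    intro x hx hxN l hl
    have h1 : x * l * x⁻¹ * l⁻¹ = 1 := by
      refine hinf _ (L.mul_mem ((mem_normalizer_iff.1 hxN l).1 hl) (L.inv_mem hl)) ?_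
      have e : x * l * x⁻¹ * l⁻¹ = x * (l * x⁻¹ * l⁻¹) := by group
      rw [e]
      exact J.mul_mem hx ((mem_normalizer_iff.1 (hLN hl) _).1 (J.inv_mem hx))
    have h2 : x * l * x⁻¹ = l := mul_inv_eq_one.1 h1
    calc x * l = x * l * x⁻¹ * x := by group
      _ = l * x := by rw [h2]
  obtain ⟨m, hm⟩ := hT.exists_iv
  obtain ⟨k, hk, hmk⟩ := hd2 m hm.mem
  -- `[k, m] ∈ core X ∩ J = core J`
  have hmN : m ∈ normalizer (J : Set G) := hLN hm.mem
  have hmX : m ∈ X := hLX' hm.mem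
  have hkX : k ∈ X := hJ.le hk
  have hcore : core J = J ⊓ core X := hJ.core_eq
  have hk' : τ * k * τ⁻¹ ∈ IntrinsicBasic.cj τ J := conj_mem_cj hk
  have e1 := mk_of_diag hJ hτX hmX hk hmk
  have e2 := mk_comm hJ hJ' (Ne.symm hne) hk hk'
  have hkm : k⁻¹ * (m * k * m⁻¹) ∈ core J := by
    rw [hcore]
    refine ⟨J.mul_mem (J.inv_mem hk) ((mem_normalizer_iff.1 hmN k).1 hk), ?_⟩
    have h1 : (QuotientGroup.mk' (oddCore ↥X)) ⟨m, hmX⟩ * (QuotientGroup.mk' (oddCore ↥X)) ⟨k, hkX⟩ =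
        (QuotientGroup.mk' (oddCore ↥X)) ⟨k, hkX⟩ * (QuotientGroup.mk' (oddCore ↥X)) ⟨m, hmX⟩ := by
      rw [e1, mul_assoc, ← e2]
    have h2 : ⁅m, k⁆ ∈ core X := (commutator_mem_core_iff hmX hkX).2 h1
    have e : k⁻¹ * (m * k * m⁻¹) = k⁻¹ * ⁅m, k⁆ * k⁻¹⁻¹ := by rw [commutatorElement_def]; group
    rw [e]
    exact conj_mem_core (le_normalizer (X.inv_mem hkX)) h2
  obtain ⟨n, hn, hnc⟩ := exists_fixed_coset (odd_card_core J) hm.sq
    (fun n hn => conj_mem_core hmN hn) hkm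
  obtain ⟨c, hc⟩ : ∃ c, c = k * n := ⟨_, rfl⟩
  rw [← hc] at hnc
  have hcJ : c ∈ J := by rw [hc]; exact J.mul_mem hk (core_le J hn)
  have hcN := h.b1 m hm c hnc
  have hcL := hJN c hcJ hcN
  have hcL' : ∀ l ∈ L, (τ * c * τ⁻¹) * l = l * (τ * c * τ⁻¹) := by
    intro l hl
    have h1 := hLτ l hl
    have h2 : τ⁻¹ * l = l * τ⁻¹ := by
      calc τ⁻¹ * l = τ⁻¹ * (l * τ) * τ⁻¹ := by group
        _ = l * τ⁻¹ := by rw [h1]; group
    calc (τ * c * τ⁻¹) * l = τ * c * (τ⁻¹ * l) := by group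
      _ = τ * (c * l) * τ⁻¹ := by rw [h2]; group
      _ = (τ * l) * c * τ⁻¹ := by rw [hcL l hl]; group
      _ = l * (τ * c * τ⁻¹) := by rw [← h1]; group
  have hcoreX : Cm (core X) L := h.core_cm (hLX'.trans le_normalizer)
  have hnX : n ∈ core X := by
    have := hcore ▸ hn
    exact this.2
  have hmc : m⁻¹ * (c * (τ * c * τ⁻¹)) ∈ core X := by
    have e : m⁻¹ * (c * (τ * c * τ⁻¹)) = (m⁻¹ * (k * (τ * k * τ⁻¹))) *
        ((τ * k * τ⁻¹)⁻¹ * n * (τ * k * τ⁻¹)⁻¹⁻¹) * (τ * n * τ⁻¹) := by rw [hc]; group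
    rw [e]
    refine mul_mem (mul_mem hmk ?_) ?_
    · exact conj_mem_core (le_normalizer (X.inv_mem (X.mul_mem (X.mul_mem hτX hkX) (X.inv_mem hτX)))) hnX
    · exact conj_mem_core (le_normalizer hτX) hnX
  apply hm.ne
  refine hT.center hm.mem fun l hl => ?_
  have h1 := hcoreX _ hmc l hl
  have h2 := hcL l hl
  have h3 := hcL' l hl
  obtain ⟨o, ho⟩ : ∃ o, o = m⁻¹ * (c * (τ * c * τ⁻¹)) := ⟨_, rfl⟩
  rw [← ho] at h1
  have e : m = (c * (τ * c * τ⁻¹)) * o⁻¹ := by rw [ho]; group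
  have c1 : Commute c l := h2
  have c2 : Commute (τ * c * τ⁻¹) l := h3
  have c3 : Commute o l := h1
  rw [e]
  exact ((c1.mul_left c2).mul_left c3.inv_left).eq

/-- trivial pump-ups -/
theorem eq_of_fixes {J X : Subgroup G} {τ : G} (hτ : τ * τ = 1) (hτX : τ ∈ X)
    (hJ : IsComp X J) (hLJ : L ≤ J) (hs : Sn (J ⊓ centralizer ({τ} : Set G)) L) (hf : Fixes τ J) : L = J := by
  have hT := h.ty
  obtain ⟨h1, h2⟩ := isComp_cen hJ hτX hτ hf
  have h3 : IsComp (X ⊓ centralizer ({τ} : Set G)) L := PumpGen.isComp_of_inf hJ (hT.comp hs)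
  have h4 : L ≤ cen J τ := by
    rw [← (hT.comp hs).pElem_eq]
    exact PComponents.pElem_mono hs.le
  have h5 : L = cen J τ := h3.eq_of_le h1 h4
  rw [← h5] at h2
  refine le_antisymm hLJ (hJ.le_of_two fun k hk n hn => ?_)
  obtain ⟨j, hj, hjk⟩ := exists_mul_of_sup h2 hk
  have h6 := h.core_cm (X := J) (hLJ.trans le_normalizer)
  obtain ⟨o, ho⟩ : ∃ o, o = j⁻¹ * k := ⟨_, rfl⟩
  rw [← ho] at hjk
  have e : k = j * o := by rw [ho]; group
  have h7 : Commute j o := (h6 o hjk j hj).symm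
  have h8 : j ^ 2 ^ n * o ^ 2 ^ n = 1 := by rw [← h7.mul_pow, ← e, hn]
  have h9 : o ^ 2 ^ n = 1 := by
    refine hT.odd (N := core J) (fun l hl x hx => conj_mem_core (le_normalizer (hLJ hl)) hx) (odd_card_core J) ?_
      (pow_mem hjk _)
    rw [eq_inv_of_mul_eq_one_right h8]
    exact L.inv_mem (L.pow_mem hj _)
  rw [e, eq_one_of_mem_core hjk h9, mul_one]
  exact hj

end B1

end Cfsg.Agent.UGT.Blk
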