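import Cfsg.Agent.UGT.Res.CfOf
import Cfsg.Agent.UGT.Res.Gen
import Cfsg.Agent.UGT.Blk.Pump1
import Cfsg.Agent.UGT.Blk.HBlk
import Cfsg.Agent.UGT.Blk.Even

/-!
# Theorem H for the members of blocks

`Pgl G` (residual world), `L` simple with `C(t) ≤ N(L)` for its involutions (`B1 L`), `(x, a, L)` a triple.

* `step`, `hb_of`: `(x, t, L)` is a triple for the involutions `t` of `C(L) ∩ C(x)` (no other pump-ups).
* `inf_le`: LEMMA W: `O(C(x)) ∩ L ≤ O(C(x t))`.
* `HB.mul`: `x t` is bad as well.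
* `HB.coreN`: `O(C(x)) ≤ N(L)`.
* `HB.data`: the hypotheses of Theorem H (`HBlk.Data`).
* `HB.cen_le`: `C(O(C(x)) ∩ L) ≤ N(L)`.
-/

set_option autoImplicit false

open Cfsg Subgroup
open Cfsg.Agent.SignalizersComponents Cfsg.Agent.Lib
open Cfsg.Agent.SignalizersComponents.IntrinsicBasic
open Cfsg.Agent.Intrinsic.Basic Cfsg.Agent.Intrinsic.Cen Cfsg.Agent.Intrinsic.Diag
open Cfsg.Agent.OddHalf.D6
open Cfsg.Agent.McLLyComp.Act (fixes_one fixes_mul)
open Cfsg.Agent.UGT.Triple Cfsg.Agent.UGT.TriBase Cfsg.Agent.UGT.Iface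
open Cfsg.Agent.UGT.Res.Base
open Cfsg.Agent.UGT.Res.KFacts (Pgl)
open Cfsg.Agent.UGT.Res.EFacts Cfsg.Agent.UGT.Res.CfOf
open Cfsg.Agent.UGT.Res.Hon (comm_of_fixes fixes_of_comm cen_eq order_isT isT_conj exists_P isPGroup_of_sq
  inn_comm)
open Cfsg.Agent.UGT.Res
open Cfsg.Agent.UGT.ThE.Base (IsT IsS)
open Cfsg.Agent.UGT.BL (T2 Iv Cm cm_iff Sn)
open scoped commutatorElement

namespace Cfsg.Agent.UGT.Blk.HonB

universe u

variable {G : Type u} [Group G] [Finite G] {x a : G} {L : Subgroup G}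

/-! ### pump-ups -/

theorem core_bot (B : B1 L) : core L = ⊥ := B.ty.core_eq_bot

theorem eq_of_sup (B : B1 L) {J X : Subgroup G} (hJ : IsComp X J) (hLJ : L ≤ J) (h2 : L ⊔ core J = J) :
    L = J := by
  have hT := B.ty
  refine le_antisymm hLJ (hJ.le_of_two fun k hk n hn => ?_)
  obtain ⟨j, hj, hjk⟩ := exists_mul_of_sup h2 hk
  have h6 := B.core_cm (X := J) (hLJ.trans le_normalizer)
  obtain ⟨o, ho⟩ : ∃ o, o = j⁻¹ * k := ⟨_, rfl⟩
  rw [← ho] at hjk
  have e : k = j * o := by rw [ho]; group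
  have h7 : Commute j o := (h6 o hjk j hj).symm
  have h8 : j ^ 2 ^ n * o ^ 2 ^ n = 1 := by rw [← h7.mul_pow, ← e, hn]
  have h9 : o ^ 2 ^ n = 1 := by
    refine hT.odd (N := core J) (fun l hl x hx => conj_mem_core (le_normalizer (hLJ hl)) hx) (odd_card_core J) ?_
      (pow_mem hjk _)
    rw [eq_inv_of_mul_eq_one_right h8]
    exact L.inv_mem (L.pow_mem hj _)
  rw [e, eq_one_of_mem_core hjk h9, mul_one]
  exact hj

/-- **pump-ups are trivial** -/
theorem step (H : Pgl G) (B : B1 L) (T : IsTriple x a L) {c : G} (hc : orderOf c = 2)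
    (hca : c * a = a * c) (hcx : c * x = x * c) (hcL : c ∈ centralizer (L : Set G)) : IsTriple x c L := by
  have hf := fixes_of_comm hcL
  obtain ⟨N, hN, hor⟩ := T.pump hc hca hcx hf
  have hce := cen_eq T (core_bot B) (sq_of_order hc) hca hf
  obtain ⟨h1, -⟩ := isComp_cen T.comp (mem_c hca) (sq_of_order hc) hf
  rcases hor with ⟨h2, h3⟩ | ⟨h2, h3⟩
  · have h4 := H.rtriv.triv T hc hca hcx hf hN h2 h3
    rw [hce] at h3 h4
    rwa [← eq_of_sup B hN.comp h3 h4] at hN
  · exfalso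
    rw [hce] at h1 h3
    rw [inf_comm] at h1
    exact B.no_diag (sq_of_order T.inva) hca.symm h1 hN.comp h2 h3

/-! ### `HB` -/

/-- `(x, t, L)` is a triple for all involutions `t` of `C(L) ∩ C(x)`, and there is a four-group of them. -/
structure HB (x : G) (L : Subgroup G) : Prop where
  ox : orderOf x = 2
  good : ∀ {t : G}, IsT L x t → IsTriple x t L
  four : ∃ t u : G, IsT L x t ∧ IsT L x u ∧ t ≠ u ∧ t * u = u * t

theorem hb_of (H : Pgl G) (B : B1 L) (T : IsTriple x a L)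
    (four : ∃ t u : G, IsT L x t ∧ IsT L x u ∧ t ≠ u ∧ t * u = u * t) : HB x L := by
  refine ⟨T.invx, ?_, four⟩
  intro t ht
  have hka : a ∈ centralizer (L : Set G) := by
    rw [mem_centralizer_iff]
    intro l hl
    exact comm_c (T.comp.le hl)
  obtain ⟨P, z, hP2, hPL, hPx, htP, hzP, hz, hzc, hcj⟩ := exists_P ht
  obtain ⟨g, hgL, hgx, hg⟩ := hcj (zpowers a) (isPGroup_of_sq (sq_of_order T.inva))
    (zpowers_le.mpr hka) (fun r hr => by
      obtain ⟨k, rfl⟩ := mem_zpowers_iff.mp hr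
      exact (Commute.zpow_left (show Commute a x from T.comm) k).eq)
  have hgP := hg a (mem_zpowers a)
  have T' := T.cj g
  rw [hgx, mul_inv_cancel_right, mem_normalizer_iff_cj.mp (ThE.Base.K_le_M hgL)] at T'
  have Tz := step H B T' (order_isT hz) (hzc _ hgP).symm hz.comm hz.mem
  exact step H B Tz (order_isT ht) (hzc _ htP) ht.comm ht.mem

theorem HB.partner (h : HB x L) {t : G} (ht : IsT L x t) : ∃ u, IsT L x u ∧ u ≠ t ∧ u * t = t * u := by
  obtain ⟨P, z, hP2, hPL, hPx, htP, hzP, hz, hzc, hcj⟩ := exists_P ht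
  by_cases hzt : z = t
  · subst hzt
    obtain ⟨t₁, u₁, h1, h2, h3, h4⟩ := h.four
    have h5 : IsPGroup 2 ↥(zpowers t₁ ⊔ zpowers u₁) := by
      refine Tri.isPGroup_sup_zpowers (isPGroup_of_sq h1.sq) ?_ (n := 1) ?_
      · rw [mem_normalizer_iff_cj, IntrinsicBasic.cj, MonoidHom.map_zpowers]
        have : (MulAut.conj u₁).toMonoidHom t₁ = t₁ := by
          simp only [MulEquiv.coe_toMonoidHom, MulAut.conj_apply]
          rw [← h4, mul_inv_cancel_right]
        rw [this]
      · rw [pow_one, pow_two, h2.sq]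
    obtain ⟨g, hgL, hgx, hg⟩ := hcj (zpowers t₁ ⊔ zpowers u₁) h5
      (sup_le (zpowers_le.mpr h1.mem) (zpowers_le.mpr h2.mem)) (by
        have : zpowers t₁ ⊔ zpowers u₁ ≤ centralizer ({x} : Set G) :=
          sup_le (zpowers_le.mpr (mem_c h1.comm)) (zpowers_le.mpr (mem_c h2.comm))
        exact fun r hr => comm_c (this hr))
    have g1 := hg t₁ (mem_sup_left (mem_zpowers t₁))
    have g2 := hg u₁ (mem_sup_right (mem_zpowers u₁))
    have k1 := isT_conj (ThE.Base.K_le_M hgL) hgx h1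
    have k2 := isT_conj (ThE.Base.K_le_M hgL) hgx h2
    by_cases hne : g * t₁ * g⁻¹ = z
    · refine ⟨_, k2, ?_, hzc _ g2⟩
      rintro h6
      apply h3
      have h7 := hne.trans h6.symm
      simpa using h7
    · exact ⟨_, k1, hne, hzc _ g1⟩
  · exact ⟨z, hz, hzt, (hzc _ htP).symm⟩

omit [Finite G] in
theorem isT_mul {t u : G} (ht : IsT L x t) (hu : IsT L x u) (hne : t ≠ u) (hc : t * u = u * t) :
    IsT L x (t * u) := by
  refine ⟨mul_mem ht.mem hu.mem, (Commute.mul_left (show Commute t x from ht.comm) hu.comm).eq, ?_, ?_⟩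
  · calc t * u * (t * u) = t * (u * t) * u := by group
      _ = t * t * (u * u) := by rw [← hc]; group
      _ = 1 := by rw [ht.sq, hu.sq, one_mul]
  · intro h
    apply hne
    have := eq_inv_of_mul_eq_one_left h
    rwa [inv_eq_of_mul_eq_one_left hu.sq] at this

/-- **`O(C(x)) ≤ N(L)`** -/
theorem HB.coreN (h : HB x L) : core (centralizer ({x} : Set G)) ≤ normalizer (L : Set G) := by
  obtain ⟨t₀, u₀, h1, h2, h3, h4⟩ := h.four
  have key : ∀ t, IsT L x t → ∀ y ∈ core (centralizer ({x} : Set G)) ⊓ centralizer ({t} : Set G),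
      y ∈ normalizer (L : Set G) := fun t ht y hy =>
    (h.good ht).mem_normalizer_of_core hy.1 hy.2
  have hcj : ∀ {t : G}, IsT L x t → ∀ y ∈ core (centralizer ({x} : Set G)),
      t * y * t⁻¹ ∈ core (centralizer ({x} : Set G)) := fun ht y hy => conj_core (mem_c ht.comm) hy
  exact Lib.KleinGen.le_of_klein _ _ (odd_card_core _) t₀ u₀ h1.sq h2.sq h4 (hcj h1) (hcj h2)
    (fun y hy => key t₀ h1 y hy) (fun y hy => key u₀ h2 y hy)
    (fun y hy => key _ (isT_mul h1 h2 h3 h4) y hy)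

/-! ### the K-facts of `x` on `L` -/

theorem odd_of_core {y : G} (hy : y ∈ core (centralizer ({x} : Set G))) : Odd (orderOf y) :=
  Odd.of_dvd_nat (odd_card_core _) (Subgroup.orderOf_dvd_natCard _ hy)

theorem HB.cf (H : Pgl G) (B : B1 L) (h : HB x L) {F : Type*} [Field F] [Finite F]
    (R : Cfsg.Agent.GH.L2Aut.Rep F L) : Cf R x := by
  obtain ⟨t, u, ht, -⟩ := h.four
  exact cf_of H (h.good ht) (core_bot B) R

section

variable {F : Type*} [Field F] [Finite F] {R : Cfsg.Agent.GH.L2Aut.Rep F L}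

omit [Finite G] in
/-- there is an involution in `C_L(x)` -/
theorem exists_s (c : Cf R x) : ∃ s, IsS L x s := by
  obtain ⟨⟨s, hs⟩, h1, h2, h3⟩ := PglType.exists_fix_involution R c.sq (c.o1 c.xN)
  exact ⟨s, ⟨hs, (act_fix c.xN hs).mp h1, congrArg Subtype.val h2, fun h => h3 (Subtype.ext h)⟩⟩

omit [Finite G] in
/-- the involutions of `C_L(x)` invert the elements of odd order of `C_L(x)` -/
theorem inverts (c : Cf R x) {s : G} (hs : IsS L x s) {y : G} (hy : y ∈ L) (hyx : y * x = x * y)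
    (hyo : Odd (orderOf y)) : s * y * s⁻¹ = y⁻¹ := by
  have := PglType.inverts R c.sq (c.o1 c.xN) (v := ⟨s, hs.mem⟩) (b := ⟨y, hy⟩) ((act_fix c.xN hs.mem).mpr hs.comm)
    (Subtype.ext hs.sq) (fun h => hs.ne (congrArg Subtype.val h)) ((act_fix c.xN hy).mpr hyx)
    (by rwa [Subgroup.orderOf_mk])
  exact congrArg Subtype.val this

end

/-! ### LEMMA W -/

/-- `y² ` acts as an inner automorphism on the components of `C(x t)` -/
theorem inn_sq (H : Pgl G) (B : B1 L) {t s y : G} {J : Subgroup G} (ht : IsT L x t)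
    (T : IsTriple x (x * t) J) (hs : IsS L x s) (hy : y ∈ core (centralizer ({x} : Set G))) (hyL : y ∈ L)
    (hsy : y * s * y⁻¹ * s⁻¹ = y * y) : Inn (y * y) J := by
  have cs : Commute s (x * t) := Commute.mul_right hs.comm (mem_centralizer_iff.mp ht.mem s hs.mem)
  have cy : Commute y (x * t) :=
    Commute.mul_right (comm_c (core_le _ hy)) (mem_centralizer_iff.mp ht.mem y hyL)
  have hyJ := T.mem_normalizer_of_core hy (mem_c cy)
  by_cases hsJ : s ∈ normalizer (J : Set G)
  · rw [← hsy]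
    exact inn_comm H T hyJ hsJ
  · -- `J J^s`
    have hsX : s ∈ centralizer ({x * t} : Set G) := mem_c cs.eq
    have hne : IntrinsicBasic.cj s J ≠ J := fun h => hsJ (mem_normalizer_iff_cj.mpr h)
    have T' := T.cj s
    rw [hs.comm, mul_inv_cancel_right, cs.eq, mul_inv_cancel_right] at T'
    have hyJ' := T'.mem_normalizer_of_core hy (mem_c cy)
    obtain ⟨h1, -⟩ := exists_diag T.comp hsX hs.sq hne
    have h2 : diag (centralizer ({x * t} : Set G)) J s ≤ normalizer (L : Set G) := by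
      intro m hm
      exact B.b1 s ⟨hs.mem, hs.sq, hs.ne⟩ m (comm_c (h1.le hm).2)
    have h3 := B.ty.cm_of_perfect (D := diag (centralizer ({x * t} : Set G)) J s) (h1.perfect).ge h2
      (t := s) ⟨hs.mem, hs.sq, hs.ne⟩ (fun m hm => comm_c (h1.le hm).2)
    have hf : Fixes y J := by
      refine fixes_of_comm_diag T.comp hsX hs.sq hne (mem_c cy.eq) hyJ hyJ' fun m hm => ?_
      have h4 : y * m = m * y := (h3 m hm y hyL).symm
      rw [commutatorElement_def, h4, mul_inv_cancel_right, mul_inv_cancel]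
      exact one_mem _
    refine ⟨1, one_mem _, ?_⟩
    rw [inv_one, mul_one]
    exact fixes_mul hf hf

omit [Finite G] in
/-- an element of odd order is a power of its square -/
theorem mem_of_sq_mem {A : Subgroup G} {y : G} (h : y * y ∈ A) (ho : Odd (orderOf y)) : y ∈ A := by
  obtain ⟨k, hk⟩ := ho
  have h1 : (y * y) ^ (k + 1) = y := by
    rw [← pow_two, ← pow_mul, show 2 * (k + 1) = orderOf y + 1 by omega, pow_succ, pow_orderOf_eq_one,
      one_mul]
  rw [← h1]
  exact A.pow_mem h _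

/-- **LEMMA W**: `O(C(x)) ∩ L ≤ O(C(x t))` -/
theorem HB.inf_le (H : Pgl G) (B : B1 L) (h : HB x L) {t : G} (ht : IsT L x t) :
    core (centralizer ({x} : Set G)) ⊓ L ≤ core (centralizer ({x * t} : Set G)) ⊓ L := by
  rintro y ⟨hy, hyL⟩
  refine ⟨?_, hyL⟩
  have T := h.good ht
  obtain ⟨F, _, _, h5, ⟨R⟩⟩ := exists_R H T (core_bot B)
  have c := h.cf H B R
  obtain ⟨s, hs⟩ := exists_s c
  have hyx : y * x = x * y := comm_c (core_le _ hy)
  have hsy : y * s * y⁻¹ * s⁻¹ = y * y := by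
    have h2 := inverts c hs (inv_mem hyL) (by
      have : Commute y x := hyx
      exact this.inv_left.eq) (by rw [orderOf_inv]; exact odd_of_core hy)
    calc y * s * y⁻¹ * s⁻¹ = y * (s * y⁻¹ * s⁻¹) := by group
      _ = y * y := by rw [h2, inv_inv]
  obtain ⟨u, hu, hne, hc⟩ := h.partner ht
  have hxt : x ≠ t := by
    rintro rfl
    exact T.not_fixes (fixes_of_comm ht.mem)
  have he : orderOf (x * t) = 2 := order_mul (sq_of_order h.ox) ht.sq ht.comm.symm hxt
  have htriv : ∀ {w : G}, IsT L x w → w * t = t * w → Triv x L w L := by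
    intro w hw hwt
    refine ⟨h.good hw, ?_, ?_⟩
    · rw [cen_eq T (core_bot B) hw.sq hwt (fixes_of_comm hw.mem)]
    · rw [cen_eq T (core_bot B) hw.sq hwt (fixes_of_comm hw.mem), core_bot B, sup_bot_eq]
  have hce : ∀ {w : G}, IsT L x w → w * t = t * w → y * y ∈ cen L w := by
    intro w hw hwt
    rw [cen_eq T (core_bot B) hw.sq hwt (fixes_of_comm hw.mem)]
    exact mul_mem hyL hyL
  have htu := isT_mul ht hu hne.symm hc.symm
  have htut : t * u * t = t * (t * u) := by rw [mul_assoc, hc]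
  have h1 : y * y ∈ core (centralizer ({x * t} : Set G)) :=
    lemmaW_inn H.rworld (fun J T' => inn_sq H B ht T' hs hy hyL hsy) T (mul_mem hy hy) rfl hc
      (fixes_of_comm ht.mem) (fixes_of_comm hu.mem) (htriv ht rfl) (htriv hu hc) (htriv htu htut)
      (hce ht rfl) (hce hu hc) (hce htu htut) ht.comm
      ((show Commute y t from mem_centralizer_iff.mp ht.mem y hyL).mul_left
        (mem_centralizer_iff.mp ht.mem y hyL)).symm.eq rfl hc.symm (fixes_of_comm ht.mem) he
  exact mem_of_sq_mem h1 (odd_of_core hy)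

/-- `x t` is bad -/
theorem HB.mul (H : Pgl G) (B : B1 L) (h : HB x L) {t : G} (ht : IsT L x t) : HB (x * t) L := by
  have T := h.good ht
  obtain ⟨u, hu, hne, hc⟩ := h.partner ht
  have hxt : x ≠ t := by
    rintro rfl
    exact T.not_fixes (fixes_of_comm ht.mem)
  have he : orderOf (x * t) = 2 := order_mul (sq_of_order h.ox) ht.sq ht.comm.symm hxt
  obtain ⟨y, hy, hyL, hf⟩ := H.exists_y T
  have ctx : Commute t x := ht.comm
  have cux : Commute u x := hu.comm
  have cut : Commute u t := hc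
  have T' : IsTriple (x * t) t L := by
    refine ⟨he, order_isT ht, (ctx.mul_right (Commute.refl t)).eq, T.comp, y, (h.inf_le H B ht ⟨hy, hyL⟩).1,
      ?_, hf⟩
    exact mem_c (mem_centralizer_iff.mp ht.mem y hyL)
  refine hb_of H B T' ⟨t, u, ⟨ht.mem, (ctx.mul_right (Commute.refl t)).eq, ht.sq, ht.ne⟩,
    ⟨hu.mem, (cux.mul_right cut).eq, hu.sq, hu.ne⟩, hne.symm, hc.symm⟩

theorem HB.inf_eq (H : Pgl G) (B : B1 L) (h : HB x L) {t : G} (ht : IsT L x t) :
    core (centralizer ({x * t} : Set G)) ⊓ L = core (centralizer ({x} : Set G)) ⊓ L := by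
  apply le_antisymm
  · have h1 := h.mul H B ht
    have ctx : Commute t x := ht.comm
    have h2 := h1.inf_le H B (t := t) ⟨ht.mem, (ctx.mul_right (Commute.refl t)).eq, ht.sq, ht.ne⟩
    rwa [mul_assoc, ht.sq, mul_one] at h2
  · exact h.inf_le H B ht

/-! ### Theorem H -/

/-- the bad elements with the same `Y` -/
def Bd (L Y : Subgroup G) (e : G) : Prop := HB e L ∧ core (centralizer ({e} : Set G)) ⊓ L = Y

theorem good (h : HB x L) {t : G} (B : B1 L) (hY : core (centralizer ({x} : Set G)) ⊓ L ≠ ⊥) (ht : IsT L x t) :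
    ThH.Good L (core (centralizer ({x} : Set G)) ⊓ L) t := by
  have T := h.good ht
  obtain ⟨y, hy, hy1⟩ : ∃ y ∈ core (centralizer ({x} : Set G)) ⊓ L, y ≠ 1 := by
    by_contra hcon
    push Not at hcon
    exact hY ((eq_bot_iff_forall _).mpr hcon)
  have hfix : ∀ {c : G}, c * t = t * c → cj c L ≠ L → ∀ z ∈ cj c L, z ∈ centralizer (L : Set G) := by
    intro c hct hne z hz
    exact comm_of_fixes (core_bot B) (T.comp.fixes_of_mem (isComp_cj_of_mem T.comp (mem_c hct)) hne.symm hz)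
  constructor
  · intro c hct hcY
    rw [mem_normalizer_iff_cj]
    by_contra hne
    have h1 : y ∈ cj c L := by
      have h2 := (mem_normalizer_iff.mp (inv_mem hcY) y).mp hy
      rw [inv_inv] at h2
      have h3 := conj_mem_cj (g := c) h2.2
      convert h3 using 1
      group
    have h2 := hfix hct hne y h1
    exact hy1 (B.ty.center hy.2 fun l hl => (mem_centralizer_iff.mp h2 l hl).symm)
  · intro c hct a ha
    by_cases hc : cj c L = L
    · have h1 : c ∈ normalizer (L : Set G) := mem_normalizer_iff_cj.mpr hc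
      exact le_normalizer (ThE.Base.L_conj h1 ha.2)
    · exact ThE.Base.K_le_M (hfix hct hc _ (conj_mem_cj ha.2))

omit [Finite G] in
theorem isT_of {t : G} (ht : t ∈ centralizer (L : Set G)) (h2 : orderOf t = 2) (hc : t * x = x * t) :
    IsT L x t := ⟨ht, hc, sq_of_order h2, ne_one_of_order h2⟩

omit [Finite G] in
theorem core_conj (g t a : G) (ha : a ∈ core (centralizer ({t} : Set G))) :
    g * a * g⁻¹ ∈ core (centralizer ({g * t * g⁻¹} : Set G)) := by
  have hc : centralizer ({g * t * g⁻¹} : Set G) = cj g (centralizer ({t} : Set G)) :=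
    (cj_centralizer g t).symm
  rw [hc, Cfsg.Agent.Intrinsic.Basic.core_cj]
  exact conj_mem_cj ha

/-- **the hypotheses of Theorem H** -/
theorem HB.data (H : Pgl G) (B : B1 L) (ti : ∀ {t g : G}, t ∈ L → orderOf t = 2 → g * t * g⁻¹ ∈ L →
    g ∈ normalizer (L : Set G)) (h : HB x L) :
    HBlk.Data (fun t => core (centralizer ({t} : Set G))) L (core (centralizer ({x} : Set G)) ⊓ L)
      (Bd L (core (centralizer ({x} : Set G)) ⊓ L)) := by
  obtain ⟨Y, hY⟩ : ∃ Y, Y = core (centralizer ({x} : Set G)) ⊓ L := ⟨_, rfl⟩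
  obtain ⟨t₀, u₀, ht₀, -⟩ := h.four
  have T₀ := h.good ht₀
  obtain ⟨F, _, _, h5, ⟨R⟩⟩ := exists_R H T₀ (core_bot B)
  obtain ⟨y, hy, hyL, hyf⟩ := H.exists_y T₀
  have hyY : y ∈ Y := by rw [hY]; exact ⟨hy, hyL⟩
  have hy1 : y ≠ 1 := by
    rintro rfl
    exact hyf (fixes_one L)
  have hYL : Y ≤ L := by rw [hY]; exact inf_le_right
  have hYbot : Y ≠ ⊥ := fun h1 => hy1 (mem_bot.mp (h1 ▸ hyY))
  have hodd : Odd (Nat.card Y) := by
    rw [hY]
    exact Odd.of_dvd_nat (odd_card_core _) (card_dvd_of_le inf_le_left)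
  have hcx : ∀ {e : G}, Bd L Y e → ∀ a ∈ Y, a ∈ core (centralizer ({e} : Set G)) ∧ a ∈ L := by
    intro e he a ha
    have : a ∈ core (centralizer ({e} : Set G)) ⊓ L := by rw [he.2]; exact ha
    exact this
  have LZ : ∀ a ∈ L, a ∈ centralizer (L : Set G) → a = 1 := fun a ha hac =>
    EFacts.eq_one_of_mem_centralizer R ha hac
  rw [← hY]
  refine
    { Ocj := core_conj
      Oodd := fun t => odd_card_core _
      YL := hYL
      Yodd := hodd
      Yne := hYbot
      gen := fun N hN => EFacts.gen R (by omega) hYL hYbot N hN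
      inv := fun he => he.1.ox
      mem := fun he => (he.1.cf H B R).xN
      core := fun he a ha => (hcx he a ha).1
      coreN := fun he => he.1.coreN
      comm := fun he a ha => (comm_c (core_le _ (hcx he a ha).1)).symm
      mul := ?_
      four := ?_
      good := ?_
      aut := ?_
      pair := ?_
      ti := ti
      sgn := ?_ }
  · intro e t he ht ht2 hc
    have hT := isT_of ht ht2 hc
    exact ⟨he.1.mul H B hT, by rw [he.1.inf_eq H B hT, he.2]⟩
  · intro e he
    obtain ⟨t, u, ht, hu, hne, hc⟩ := he.1.four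
    exact ⟨t, u, ht.mem, hu.mem, order_isT ht, order_isT hu, hne, hc, ht.comm, hu.comm⟩
  · intro e t he ht ht2 hc
    have hT := isT_of ht ht2 hc
    have := HonB.good he.1 B (by rw [he.2]; exact hYbot) hT
    rwa [he.2] at this
  · intro e c he hc hcY h2
    exact (he.1.cf H B R).aut hyL hy1 (odd_of_core hy) (comm_c (core_le _ (hcx he y hyY).1)) hc
      (mem_centralizer_iff.mp hcY y hyY).symm h2
  · intro e he
    have ce := he.1.cf H B R
    obtain ⟨s, hs⟩ := exists_s ce
    have hs' := (act_fix ce.xN hs.mem).mpr hs.comm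
    have hss : (⟨s, hs.mem⟩ : L) * ⟨s, hs.mem⟩ = 1 := Subtype.ext hs.sq
    have hs2 : orderOf s = 2 := orderOf_eq_prime (by rw [pow_two]; exact hs.sq) hs.ne
    obtain ⟨⟨l, hl⟩, h1⟩ := Gen.exists_pair R ce.sq (ce.o1 ce.xN) hs' hss
    have hlN := le_normalizer hl
    have hsN := le_normalizer hs.mem
    have hlm : l * e * l⁻¹ ∈ normalizer (L : Set G) := mul_mem (mul_mem hlN ce.xN) (inv_mem hlN)
    have h2 : l * e * l⁻¹ = e * s := by
      have h3 : act L (l * e * l⁻¹) hlm = act L (e * s) (mul_mem ce.xN hsN) := by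
        rw [← act_mul ce.xN hsN, ← act_mul (mul_mem hlN ce.xN) (inv_mem hlN), ← act_mul hlN ce.xN,
          EFacts.act_inv hlN, EFacts.act_of_mem hl, EFacts.act_of_mem hs.mem]
        exact h1
      have h4 : (e * s)⁻¹ * (l * e * l⁻¹) ∈ centralizer (L : Set G) := by
        rw [← act_one_iff' (mul_mem (inv_mem (mul_mem ce.xN hsN)) hlm),
          ← act_mul (inv_mem (mul_mem ce.xN hsN)) hlm, EFacts.act_inv (mul_mem ce.xN hsN), h3,
          inv_mul_cancel]
      have h5 : (e * s)⁻¹ * (l * e * l⁻¹) ∈ L := by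
        have e1 : (e * s)⁻¹ * (l * e * l⁻¹) = s⁻¹ * (e⁻¹ * l * e) * l⁻¹ := by group
        rw [e1]
        exact mul_mem (mul_mem (inv_mem hs.mem) (ThE.Base.L_conj' ce.xN hl)) (inv_mem hl)
      have h6 := EFacts.eq_one_of_mem_centralizer R h5 h4
      exact (inv_mul_eq_one.mp h6).symm
    have hinv : ∀ t ∈ L, orderOf t = 2 → t * e = e * t → ∀ y ∈ Y, t * y * t⁻¹ = y⁻¹ := by
      intro t ht ht2 hte z hz
      have h3 := hcx he z hz
      exact inverts ce ⟨ht, hte, sq_of_order ht2, ne_one_of_order ht2⟩ h3.2 (comm_c (core_le _ h3.1))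
        (odd_of_core h3.1)
    refine ⟨s, hs.mem, l, hl, hs2, hs.comm, hinv s hs.mem hs2 hs.comm, h2, ?_⟩
    intro N hYN hlYN
    have heK : e ∉ centralizer (L : Set G) := by
      intro h3
      have h4 := ce.xLK 1 (one_mem _)
      rw [mul_one] at h4
      exact h4 h3
    exact Even.exists_involution ce.xN ce.xx heK LZ
      (fun a ha ha1 hao hae c hc hca hc2 => ce.aut ha ha1 hao hae hc hca ⟨1, by rw [pow_one, pow_two]; exact hc2⟩)
      hs.mem hs2 hs.comm hl h2 hinv hYL (fun a ha => (comm_c (core_le _ (hcx he a ha).1)).symm) hYbot N hYN hlYN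
  · refine ⟨R.o1.comp L.normalizerMonoidHom, fun e he => ?_⟩
    exact (he.1.cf H B R).o1 _

/-- **THEOREM H** for `L` -/
theorem HB.cen_le (H : Pgl G) (B : B1 L) (ti : ∀ {t g : G}, t ∈ L → orderOf t = 2 → g * t * g⁻¹ ∈ L →
    g ∈ normalizer (L : Set G)) (h : HB x L) :
    centralizer ((core (centralizer ({x} : Set G)) ⊓ L : Subgroup G) : Set G) ≤ normalizer (L : Set G) :=
  (h.data H B ti).cen_le_normalizer (x := x) ⟨h, rfl⟩

end Cfsg.Agent.UGT.Blk.HonB
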