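import Cfsg.Agent.UGT.Blk.Adj
import Cfsg.Agent.UGT.Blk.LFRep
import Cfsg.Agent.UGT.Blk.SysOf

/-!
# The inputs of the adjacency files from bad involutions

`BadFor L x`: `L ≅ L₂(q)`, `q ≥ 5` odd, `x` an involution of PGL type on `L`, `L` is a component of `C(t)` for the
involutions `t` of `C(L) ∩ C(x)`, and Theorem H for `x`.

* `BadFor.root`: `Root L (pgl R)`;
* `prodH_of`: `ProdH`;
* `BSys.base`, `BSys.noAdj_comm`.
-/

set_option autoImplicit false

open Subgroup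
open Cfsg.Agent.SignalizersComponents.IntrinsicBasic
open Cfsg.Agent.OddHalf.D6 (act act_apply act_mul act_congr act_one_iff act_eq_iff)
open Cfsg.Agent.UGT.Res.EFacts (act_one_iff' act_of_mem act_inv act_comm' act_sq act_fix Cf)

namespace Cfsg.Agent.UGT.Blk

variable {G : Type*} [Group G] {L : Subgroup G}

theorem Root.of_cf {F : Type*} [Field F] [Finite F] (R : Cfsg.Agent.GH.L2Aut.Rep F L) {x : G} (C : Cf R x)
    (hy : ∀ c : G, (∀ y ∈ L, y * x = x * y → Odd (orderOf y) → c * y = y * c) → c ∈ normalizer (L : Set G)) :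
    Root L (pgl R) := by
  intro u hu huu hni
  obtain ⟨hun, hup⟩ := (mem_pgl R).mp hu
  have hα := act_sq hun huu
  have hI : act L u hun ∉ (MulAut.conj : L →* MulAut L).range := by
    rintro ⟨a, ha⟩
    exact hni ((inn_iff hun).mpr ⟨a, ha.symm⟩)
  obtain ⟨B, hB1, hB2, hB3, hB4⟩ := R.dtype_cent hup hI hα
  have hfin := R.finite
  have hodd : ∀ y ∈ B, Odd (orderOf y) := fun y hy => hB3.of_dvd_nat (Subgroup.orderOf_dvd_natCard B hy)
  have hBsq : ∀ y ∈ B, y * y = 1 → y = 1 := by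
    intro y hy h
    exact Cfsg.Agent.OddHalf.D6.eq_one_of_sq h (hodd y hy)
  refine ⟨B.map L.subtype, ?_, ?_, ?_, ?_, ?_⟩
  · rintro _ ⟨y, -, rfl⟩
    exact y.2
  · rintro _ ⟨y, hy, rfl⟩
    exact (act_fix hun y.2).mp (hB1 y hy)
  · rintro _ ⟨y, hy, rfl⟩ h
    exact congrArg Subtype.val (hBsq y hy (Subtype.ext h))
  · rintro t ht ht2 htu _ ⟨y, hy, rfl⟩
    have h1 : act L u hun ⟨t, ht⟩ = ⟨t, ht⟩ := (act_fix hun ht).mpr htu
    rcases hB4 _ h1 with h2 | ⟨-, h2⟩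
    · exact absurd (hBsq _ h2 (sub_sq ht ht2)) (sub_ne ht ht2)
    · exact congrArg Subtype.val (h2 y hy)
  · intro c hc
    obtain ⟨h1, h2⟩ := Cfsg.Agent.OddHalf.D6.PglType.pgl_of R C.sq (C.o1 C.xN)
    obtain ⟨l, hl⟩ := R.dtype_conj hup hI hα h1 h2 C.sq
    have key : (l : G) * c * (l : G)⁻¹ ∈ normalizer (L : Set G) := by
      apply hy
      intro y hyL hyx hyo
      have h3 : act L x C.xN ⟨y, hyL⟩ = ⟨y, hyL⟩ := (act_fix C.xN hyL).mpr hyx
      rw [← hl] at h3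
      have h4 : act L u hun (l⁻¹ * ⟨y, hyL⟩ * l) = l⁻¹ * ⟨y, hyL⟩ * l := by
        have h5 : (MulAut.conj l * act L u hun * (MulAut.conj l)⁻¹) ⟨y, hyL⟩ =
            l * act L u hun (l⁻¹ * ⟨y, hyL⟩ * l) * l⁻¹ := by
          simp [MulAut.mul_apply, MulAut.conj_apply, ← map_inv, mul_assoc]
        rw [h5] at h3
        calc act L u hun (l⁻¹ * ⟨y, hyL⟩ * l) = l⁻¹ * (l * act L u hun (l⁻¹ * ⟨y, hyL⟩ * l) * l⁻¹) * l := by group
          _ = l⁻¹ * ⟨y, hyL⟩ * l := by rw [h3]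
      have h6 : l⁻¹ * ⟨y, hyL⟩ * l ∈ B := by
        rcases hB4 _ h4 with h7 | ⟨h7, -⟩
        · exact h7
        · have h8 : (⟨y, hyL⟩ : L) * ⟨y, hyL⟩ = 1 := by
            calc (⟨y, hyL⟩ : L) * ⟨y, hyL⟩ = l * (l⁻¹ * ⟨y, hyL⟩ * l * (l⁻¹ * ⟨y, hyL⟩ * l)) * l⁻¹ := by group
              _ = 1 := by rw [h7]; group
          have h9 := Cfsg.Agent.OddHalf.D6.eq_one_of_sq (congrArg Subtype.val h8 : y * y = 1) hyo
          have h10 : (⟨y, hyL⟩ : L) = 1 := Subtype.ext h9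
          rw [h10, mul_one, inv_mul_cancel]; exact one_mem _
      have h7 := mem_centralizer_iff.mp hc _ ⟨_, h6, rfl⟩
      have h8 : (l : G)⁻¹ * y * l * c = c * ((l : G)⁻¹ * y * l) := h7
      calc (l : G) * c * (l : G)⁻¹ * y = l * (c * ((l : G)⁻¹ * y * l)) * (l : G)⁻¹ := by group
        _ = y * (l * c * (l : G)⁻¹) := by rw [← h8]; group
    have hlN : (l : G) ∈ normalizer (L : Set G) := le_normalizer l.2
    have h9 := mul_mem (mul_mem (inv_mem hlN) key) hlN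
    have h10 : (l : G)⁻¹ * (l * c * (l : G)⁻¹) * l = c := by group
    rwa [h10] at h9

/-- a bad involution of `L` -/
structure BadFor (L : Subgroup G) (x : G) : Prop where
  rep : ∃ (F : Type) (_ : Field F) (_ : Finite F) (R : Cfsg.Agent.GH.L2Aut.Rep F L), 5 ≤ Nat.card F ∧ Cf R x
  /-- (h1) -/
  h1 : ∀ t : G, orderOf t = 2 → t ∈ centralizer (L : Set G) → t * x = x * t → Cmp (centralizer ({t} : Set G)) L
  /-- Theorem H -/
  hy : ∀ c : G, (∀ y ∈ L, y * x = x * y → Odd (orderOf y) → c * y = y * c) → c ∈ normalizer (L : Set G)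

/-- members with bad involutions and partners -/
structure BSys (SS : Set (Subgroup G)) : Prop where
  cj : ∀ L ∈ SS, ∀ g : G, cj g L ∈ SS
  part : ∀ L ∈ SS, ∃ P ∈ SS, Rel ⊤ L P
  bad : ∀ L ∈ SS, ∃ x, BadFor L x

variable {SS : Set (Subgroup G)}

theorem BSys.lf (h : BSys SS) : ∃ PG : Subgroup G → Subgroup G, ∀ L ∈ SS, LF L (PG L) ∧ Root L (PG L) := by
  classical
  have h1 : ∀ L ∈ SS, ∃ PG, LF L PG ∧ Root L PG := by
    intro L hL
    obtain ⟨x, hx⟩ := h.bad L hL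
    obtain ⟨F, _, _, R, h5, C⟩ := hx.rep
    exact ⟨pgl R, LF.of_rep R h5, Root.of_cf R C hx.hy⟩
  refine ⟨fun L => if hL : L ∈ SS then (h1 L hL).choose else ⊥, fun L hL => ?_⟩
  simp only [dif_pos hL]
  exact (h1 L hL).choose_spec

theorem BSys.base (h : BSys SS) : Base SS := by
  obtain ⟨PG, hPG⟩ := h.lf
  refine ⟨h.cj, ?_, fun L hL => (hPG L hL).1.perfect, fun L hL => (hPG L hL).1.even, ?_, ?_, h.part⟩
  · intro L hL
    obtain ⟨x, hx⟩ := h.bad L hL
    obtain ⟨F, _, _, R, h5, C⟩ := hx.rep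
    exact TT.PGLSolv.isSimple R (by omega)
  · intro L hL t ht u hu ht2 hu2
    exact (hPG L hL).1.conj2 t ht u hu ht2 hu2
  · intro L hL t ht ht2 D hD hn hc
    exact (hPG L hL).1.solv t ht ht2 D hD hn hc

/-- an involution `x` of `N(L) ∩ N(P)` or swapping `L`, `P` centralizes a product `t s` -/
theorem exists_prod {PG : Subgroup G → Subgroup G} (F : ∀ L ∈ SS, LF L (PG L)) {L P : Subgroup G} (hL : L ∈ SS)
    (hP : P ∈ SS) (hc : Comm L P) {x : G} (hx : x * x = 1)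
    (hs : (cj x L = L ∧ cj x P = P) ∨ cj x L = P) {t s : G} (ht : t ∈ L) (hs' : s ∈ P) (ht2 : orderOf t = 2)
    (hs2 : orderOf s = 2) :
    ∃ g, g ∈ L ⊔ P ∧ g * (t * s) * g⁻¹ * x = x * (g * (t * s) * g⁻¹) := by
  have FL := F L hL
  have FP := F P hP
  have main : ∀ t' ∈ L, ∀ s' ∈ P, orderOf t' = 2 → orderOf s' = 2 → t' * s' * x = x * (t' * s') →
      ∃ g, g ∈ L ⊔ P ∧ g * (t * s) * g⁻¹ * x = x * (g * (t * s) * g⁻¹) := by
    intro t' ht' s' hs'' h1 h2 h3
    obtain ⟨l, hl, hlt⟩ := FL.conj2 t ht t' ht' ht2 h1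
    obtain ⟨p, hp, hps⟩ := FP.conj2 s hs' s' hs'' hs2 h2
    refine ⟨l * p, mul_mem (mem_sup_left hl) (mem_sup_right hp), ?_⟩
    have e : l * p * (t * s) * (l * p)⁻¹ = t' * s' := by
      have c1 := hc t ht p hp
      have c2 := hc l hl (p * s * p⁻¹) (P.mul_mem (P.mul_mem hp hs') (P.inv_mem hp))
      calc l * p * (t * s) * (l * p)⁻¹ = l * (p * t) * s * p⁻¹ * l⁻¹ := by group
        _ = l * (t * p) * s * p⁻¹ * l⁻¹ := by rw [c1]
        _ = l * t * l⁻¹ * (l * (p * s * p⁻¹)) * l⁻¹ := by group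
        _ = l * t * l⁻¹ * (p * s * p⁻¹) := by rw [c2]; group
        _ = t' * s' := by rw [hlt, hps]
    rw [e]; exact h3
  rcases hs with ⟨h1, h2⟩ | h1
  · obtain ⟨t', ht', h3, h4⟩ := FL.fix x (mem_normalizer_iff_cj.mpr h1) hx
    obtain ⟨s', hs'', h5, h6⟩ := FP.fix x (mem_normalizer_iff_cj.mpr h2) hx
    exact main t' ht' s' hs'' h3 h5 (by rw [mul_assoc, h6, ← mul_assoc, h4, mul_assoc])
  · have h3 : x * t * x⁻¹ ∈ P := by rw [← h1]; exact conj_mem_cj ht
    refine main t ht _ h3 ht2 (ord2_conj ht2 x) ?_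
    have h4 : x⁻¹ = x := inv_eq_of_mul_eq_one_right hx
    have h5 := hc t ht _ h3
    calc t * (x * t * x⁻¹) * x = t * x * t := by group
      _ = x * (x * t * x⁻¹ * t) := by
          rw [h4]
          calc t * x * t = (x * x) * t * x * t := by rw [hx, one_mul]
            _ = x * (x * t * x * t) := by group
      _ = x * (t * (x * t * x⁻¹)) := by rw [h5]

theorem prodH_of [Finite G] {rel : Subgroup G → Subgroup G → Prop} {PG : Subgroup G → Subgroup G} (S : Sys SS rel)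
    (F : ∀ L ∈ SS, LF L (PG L)) (hsp : ∀ L ∈ SS, SP L)
    (h : ∀ N ∈ SS, ∃ x, x * x = 1 ∧ x ∈ normalizer (N : Set G) ∧
      ∀ t : G, orderOf t = 2 → t ∈ centralizer (N : Set G) → t * x = x * t → Cmp (centralizer ({t} : Set G)) N) :
    ProdH SS rel := by
  have key : ∀ L P N : Subgroup G, L ∈ SS → Cls3 rel L P N → ∀ t ∈ L, ∀ s ∈ P, orderOf t = 2 → orderOf s = 2 →
      Cmp (centralizer ({t * s} : Set G)) N := by
    intro L P N hL C t ht s hs ht2 hs2
    have hP := S.rel_mem L hL P C.rP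
    have hN := S.rel_mem L hL N C.rN
    have cLP := S.comm L hL P C.rP C.LP.symm
    have rNP : rel N P := S.trans _ _ _ (S.symm _ _ C.rN) C.rP
    have rNL := S.symm _ _ C.rN
    have cNL := S.comm N hN L rNL C.LN
    have cNP := S.comm N hN P rNP C.PN
    obtain ⟨x, hxx, hxn, hx1⟩ := h N hN
    have hxN := mem_normalizer_iff_cj.mp hxn
    have mv : ∀ E, rel N E → E ≠ N → cj x E = L ∨ cj x E = P := by
      intro E hE hEN
      have h1 : rel N (cj x E) := by
        have := S.relcj N E hE x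
        rwa [hxN] at this
      rcases C.all _ (S.trans _ _ _ C.rN h1) with e | e | e
      · exact Or.inl e
      · exact Or.inr e
      · exfalso
        apply hEN
        apply cj_injective x
        rw [e, hxN]
    have hcase : (cj x L = L ∧ cj x P = P) ∨ cj x L = P := by
      rcases mv L rNL C.LN with e | e
      · left
        refine ⟨e, ?_⟩
        rcases mv P rNP C.PN with e' | e'
        · exact absurd (cj_injective x (e.trans e'.symm)) C.LP
        · exact e'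
      · exact Or.inr e
    obtain ⟨g, hg, hgx⟩ := exists_prod F hL hP cLP hxx hcase ht hs ht2 hs2
    have hts : orderOf (t * s) = 2 := by
      refine ord2_mul ht2 hs2 (cLP t ht s hs) ?_
      rintro rfl
      exact inv2_ne ht2 ((F L hL).cen_bot ht (cLP.symm.le hs))
    have hgN : g ∈ centralizer (N : Set G) := by
      have : L ⊔ P ≤ centralizer (N : Set G) := sup_le cNL.symm.le cNP.symm.le
      exact this hg
    have htsN : t * s ∈ centralizer (N : Set G) := mul_mem (cNL.symm.le ht) (cNP.symm.le hs)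
    have h1 := hx1 _ (ord2_conj hts g) (mul_mem (mul_mem hgN htsN) (inv_mem hgN)) hgx
    have h2 := h1.cj g⁻¹
    have e1 : cj g⁻¹ N = N := mem_normalizer_iff_cj.mp (cen_le_norm (inv_mem hgN))
    have e2 : g⁻¹ * (g * (t * s) * g⁻¹) * g⁻¹⁻¹ = t * s := by group
    rw [e1, cj_centralizer, e2] at h2
    exact h2
  intro L P N L' P' N' hL hL' C C' t ht s hs t' ht' s' hs' ht2 hs2 ht2' hs2' he
  have h1 := key L P N hL C t ht s hs ht2 hs2
  have h2 := key L' P' N' hL' C' t' ht' s' hs' ht2' hs2'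
  rw [← he] at h2
  by_cases hne : N = N'
  · exact Or.inl hne
  · exact Or.inr (h1.comm_of_ne h2 (hsp N (S.rel_mem L hL N C.rN)) (hsp N' (S.rel_mem L' hL' N' C'.rN)) hne)

/-- **(A) for members with bad involutions** -/
theorem BSys.noAdj_comm [Finite G] (h : BSys SS) {L K : Subgroup G} (hL : L ∈ SS) (hK : K ∈ SS) {t u : G}
    (ht : t ∈ L) (hu : u ∈ K) (ht2 : orderOf t = 2) (hu2 : orderOf u = 2) (htu : t * u = u * t) :
    L = K ∨ Comm L K := by
  obtain ⟨PG, hPG⟩ := h.lf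
  have hB := h.base
  have F : ∀ L ∈ SS, LF L (PG L) := fun L hL => (hPG L hL).1
  have hP : ProdH SS (rl SS) := by
    refine prodH_of hB.sys F (fun L hL => hB.sp hL) ?_
    intro N hN
    obtain ⟨x, hx⟩ := h.bad N hN
    obtain ⟨F, _, _, R, h5, C⟩ := hx.rep
    exact ⟨x, C.xx, C.xN, hx.h1⟩
  exact Blk.noAdj_comm hB.sys F (fun L hL => (hPG L hL).2) hP hL hK ht hu ht2 hu2 htu

end Cfsg.Agent.UGT.Blk
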