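import Cfsg.Agent.UGT.Blk.SysOf
import Cfsg.Agent.UGT.Blk.FusHalf
import Cfsg.Agent.PermParts.OfProd
import Cfsg.Agent.Lib.SylowNormalInf

/-!
# The closing for blocks

`Blk Λ H`: `Λ` is a set (of at least two) pairwise commuting non-abelian simple groups of even order, `H` its
stabiliser, and for `J ⊆ Λ` with `2 |J| ≤ |Λ|`, every involution `u ∈ ⟨J⟩` and every `g` with `g u g⁻¹ ∈ H` we have
`g ∈ H`.

* `Blk.commutator_mem`: for a Sylow 2-subgroup `S` of `G` in `H`: `[x^g, y] ∈ O(G)` for `x ∈ S ∩ A`, `y ∈ S ∩ B`,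
  `A ≠ B` in `Λ` and `g ∈ K° = ⟨(S ∩ ⟨Λ⟩)^G⟩`;
* `Blk.false_of`: `G` is not simple.
-/

set_option autoImplicit false
set_option linter.style.haveILetI false

open Subgroup Cfsg
open Cfsg.Agent.SignalizersComponents
open Cfsg.Agent.SignalizersComponents.IntrinsicBasic
open Cfsg.Agent.Lib.GoldschmidtFusion Cfsg.Agent.ClassTwoFusion.Ess

namespace Cfsg.Agent.UGT.Blk

universe u

variable {G : Type u} [Group G]

theorem SP.of_nab {A : Subgroup G} (hs : IsSimpleGroup ↥A) (hn : ¬ Comm A A) : SP A := by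
  refine ⟨hs, ?_⟩
  have h1 : (commutator ↥A).Normal := inferInstance
  rcases h1.eq_bot_or_eq_top with h2 | h2
  · exfalso
    apply hn
    have h3 : ⁅A, A⁆ = ⊥ := by
      have h4 : (⁅(⊤ : Subgroup ↥A), ⊤⁆ : Subgroup ↥A) = ⊥ := h2
      have h5 := congrArg (Subgroup.map A.subtype) h4
      rwa [Subgroup.map_commutator, ← MonoidHom.range_eq_map, Subgroup.range_subtype, Subgroup.map_bot] at h5
    exact comm_iff_le_centralizer.mpr (commutator_eq_bot_iff_le_centralizer.mp h3)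
  · have h4 : (⁅(⊤ : Subgroup ↥A), ⊤⁆ : Subgroup ↥A) = ⊤ := h2
    have h5 := congrArg (Subgroup.map A.subtype) h4
    rwa [Subgroup.map_commutator, ← MonoidHom.range_eq_map, Subgroup.range_subtype] at h5

/-- a power of a nontrivial 2-element is an involution -/
theorem exists_pow_orderOf {T : Subgroup G} (hT : IsPGroup 2 T) {c : G} (hc : c ∈ T) (hc1 : c ≠ 1) :
    ∃ n : ℕ, orderOf (c ^ n) = 2 := by
  obtain ⟨k, hk⟩ := hT ⟨c, hc⟩
  have hk' : c ^ 2 ^ k = 1 := congrArg Subtype.val hk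
  clear hk
  induction k with
  | zero => exact absurd (by simpa using hk') hc1
  | succ k ih =>
    by_cases h : c ^ 2 ^ k = 1
    · exact ih h
    · refine ⟨2 ^ k, ord_of_sq ?_ h⟩
      rw [← pow_add, ← two_mul, ← pow_succ']
      exact hk'

/-- every involution of a 2-group with two commuting involutions commutes with another involution -/
theorem exists_partner [Finite G] {P : Subgroup G} (hP : IsPGroup 2 P) {a b : G} (ha : a ∈ P) (hb : b ∈ P)
    (oa : orderOf a = 2) (ob : orderOf b = 2) (hne : a ≠ b) {x : G} (hx : x ∈ P)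
    (ox : orderOf x = 2) : ∃ y ∈ P, orderOf y = 2 ∧ y ≠ x ∧ x * y = y * x := by
  have hPne : P ≠ ⊥ := by
    intro h
    rw [h, mem_bot] at hx
    exact ne_one_of_ord ox hx
  obtain ⟨z, hz, oz, hzc⟩ := OddHalf.D3.Fus.exists_fix hP le_rfl le_rfl hPne (fun x hx d hd =>
    mul_mem (mul_mem hx hd) (inv_mem hx))
  by_cases hxz : z = x
  · subst hxz
    by_cases haz : a = z
    · refine ⟨b, hb, ob, ?_, (hzc b hb).symm⟩
      rintro rfl
      exact hne haz
    · exact ⟨a, ha, oa, haz, (hzc a ha).symm⟩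
  · exact ⟨z, hz, oz, hxz, hzc x hx⟩

/-- commuting simple groups; small products control fusion into the stabiliser `H` -/
structure Blk (Λ : Set (Subgroup G)) (H : Subgroup G) : Prop where
  comm : ∀ A ∈ Λ, ∀ B ∈ Λ, A ≠ B → Comm A B
  sim : ∀ A ∈ Λ, IsSimpleGroup ↥A
  nab : ∀ A ∈ Λ, ¬ Comm A A
  even : ∀ A ∈ Λ, ∃ t ∈ A, orderOf t = 2
  four : ∀ A ∈ Λ, ∀ t ∈ A, orderOf t = 2 → ∃ v ∈ A, orderOf v = 2 ∧ v ≠ t ∧ t * v = v * t
  stab : ∀ g : G, g ∈ H ↔ ∀ A ∈ Λ, cj g A ∈ Λ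
  two : ∃ A ∈ Λ, ∃ B ∈ Λ, A ≠ B
  sc : ∀ J : Set (Subgroup G), J ⊆ Λ → 2 * J.ncard ≤ Λ.ncard → ∀ u ∈ sSup J, orderOf u = 2 →
    ∀ g : G, g * u * g⁻¹ ∈ H → g ∈ H

namespace Blk

variable {Λ : Set (Subgroup G)} {H : Subgroup G} (h : Blk Λ H)
include h

theorem sp {A : Subgroup G} (hA : A ∈ Λ) : SP A := SP.of_nab (h.sim A hA) (h.nab A hA)

theorem cj_mem {g : G} (hg : g ∈ H) {A : Subgroup G} (hA : A ∈ Λ) : cj g A ∈ Λ := (h.stab g).mp hg A hA

theorem le {A : Subgroup G} (hA : A ∈ Λ) : A ≤ H := by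
  intro a ha
  rw [h.stab]
  intro B hB
  by_cases hAB : A = B
  · subst hAB
    rw [cj_eq_self_of_mem ha]; exact hA
  · have h1 : a ∈ centralizer (B : Set G) := comm_iff_le_centralizer.mp (h.comm A hA B hB hAB) ha
    rw [mem_normalizer_iff_cj.mp (centralizer_le_normalizer _ h1)]
    exact hB

theorem join_le : sSup Λ ≤ H := sSup_le fun _ hA => h.le hA

theorem conj_mem_join {g x : G} (hg : g ∈ H) (hx : x ∈ sSup Λ) : g * x * g⁻¹ ∈ sSup Λ :=
  OddHalf.D3.Fus.conj_mem_sSup (fun _ hA => h.cj_mem hg hA) hx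

theorem join_le_normalizer {A : Subgroup G} (hA : A ∈ Λ) : sSup Λ ≤ normalizer (A : Set G) := by
  refine sSup_le fun B hB => ?_
  by_cases hAB : B = A
  · rw [hAB]; exact le_normalizer
  · exact (comm_iff_le_centralizer.mp (h.comm B hB A hA hAB)).trans (centralizer_le_normalizer _)

theorem small [Finite G] (A : Subgroup G) : 2 * ({A} : Set (Subgroup G)).ncard ≤ Λ.ncard := by
  obtain ⟨B, hB, C, hC, hBC⟩ := h.two
  have h1 : ({B, C} : Set (Subgroup G)) ⊆ Λ := by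
    rintro D (rfl | rfl)
    · exact hB
    · exact hC
  have h2 := Set.ncard_le_ncard h1 (Set.toFinite _)
  rw [Set.ncard_pair hBC] at h2
  rw [Set.ncard_singleton]
  omega

theorem sc_mem [Finite G] {A : Subgroup G} (hA : A ∈ Λ) {u : G} (hu : u ∈ A) (ou : orderOf u = 2) {g : G}
    (hg : g * u * g⁻¹ ∈ H) : g ∈ H :=
  h.sc {A} (by simpa using hA) (h.small A) u (by simpa using hu) ou g hg

/-- a Sylow 2-subgroup of `G` in `H` -/
theorem exists_sylow [Finite G] : ∃ S : Sylow 2 G, (S : Subgroup G) ≤ H := by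
  haveI : Fact (Nat.Prime 2) := ⟨Nat.prime_two⟩
  obtain ⟨A, hA, -⟩ := h.two
  obtain ⟨u, hu, ou⟩ := h.even A hA
  have huz : IsPGroup 2 (zpowers u) := by
    refine IsPGroup.of_card (n := 1) ?_
    rw [Nat.card_zpowers, ou, pow_one]
  obtain ⟨T, hT1, hT2, hT3, hT4⟩ := exists_sylow_in (p := 2) (N := H) (D := zpowers u)
    (by rw [zpowers_le]; exact h.le hA hu) huz
  have huT : u ∈ T := hT1 (mem_zpowers u)
  obtain ⟨Q, hQ⟩ := hT3.exists_le_sylow
  refine ⟨Q, ?_⟩
  by_cases hTQ : T = (Q : Subgroup G)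
  · rw [← hTQ]; exact hT2
  · exfalso
    have hlt : T < (Q : Subgroup G) := lt_of_le_of_ne hQ hTQ
    have h1 := lt_inf_normalizer Q.isPGroup' hlt
    have h2 : (Q : Subgroup G) ⊓ normalizer (T : Set G) ≤ H := by
      intro g hg
      exact h.sc_mem hA hu ou (hT2 ((mem_normalizer_iff.1 hg.2 u).1 huT))
    have h3 : IsPGroup 2 ((Q : Subgroup G) ⊓ normalizer (T : Set G) : Subgroup G) := Q.isPGroup'.to_le inf_le_left
    obtain ⟨n, hn, hnT⟩ := exists_conj_le_in (p := 2) hT3 hT4 h2 h3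
    have h4 := Subgroup.card_le_of_le hnT
    rw [card_map_conj] at h4
    have h5 : Nat.card T < Nat.card ((Q : Subgroup G) ⊓ normalizer (T : Set G) : Subgroup G) :=
      Set.ncard_lt_ncard (by exact_mod_cast h1) (Set.toFinite _)
    omega

/-- 2-subgroups of the members are conjugate into `S` -/
theorem exists_conj_mem [Finite G] {S : Sylow 2 G} (hS : (S : Subgroup G) ≤ H)
    {L E : Subgroup G} (hL : L ∈ Λ) (hE : E ≤ L) (hE2 : IsPGroup 2 E) :
    ∃ k ∈ L, ∀ x ∈ E, k * x * k⁻¹ ∈ (S : Subgroup G) := by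
  haveI : Fact (Nat.Prime 2) := ⟨Nat.prime_two⟩
  set J : Subgroup G := sSup Λ with hJ
  have hJH : J ≤ H := h.join_le
  -- the subgroup `S ∩ J` of `J`
  haveI hJn : (J.subgroupOf H).Normal := by
    refine ⟨fun x hx g => ?_⟩
    exact h.conj_mem_join g.2 hx
  have hSH : IsPGroup 2 ((S : Subgroup G).subgroupOf H) :=
    S.isPGroup'.comap_of_injective H.subtype H.subtype_injective
  have hSi : ¬ 2 ∣ ((S : Subgroup G).subgroupOf H).index := by
    intro h1
    exact S.not_dvd_index (h1.trans (Subgroup.relIndex_dvd_index_of_le hS))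
  set SH : Sylow 2 ↥H := hSH.toSylow hSi with hSHd
  have hd1 : ¬ 2 ∣ (SH : Subgroup ↥H).relIndex (J.subgroupOf H) :=
    Cfsg.Agent.Lib.SylowNormalInf.not_dvd_relIndex SH (J.subgroupOf H)
  set SJ : Sylow 2 ↥(J.subgroupOf H) :=
    (Cfsg.Agent.Lib.SylowNormalInf.isPGroup_subgroupOf SH (J.subgroupOf H)).toSylow hd1 with hSJ
  have hLJ : L ≤ J := le_sSup hL
  haveI hLn : ((L.subgroupOf H).subgroupOf (J.subgroupOf H)).Normal := by
    refine ⟨fun x hx g => ?_⟩
    exact (mem_normalizer_iff.1 (h.join_le_normalizer hL g.2) _).1 hx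
  have hd2 : ¬ 2 ∣ (SJ : Subgroup ↥(J.subgroupOf H)).relIndex ((L.subgroupOf H).subgroupOf (J.subgroupOf H)) :=
    Cfsg.Agent.Lib.SylowNormalInf.not_dvd_relIndex SJ _
  set f : ↥(J.subgroupOf H) →* G := H.subtype.comp (J.subgroupOf H).subtype with hf
  have hfi : Function.Injective f := fun a b hab => Subtype.ext (Subtype.ext hab)
  have hmapL : ((L.subgroupOf H).subgroupOf (J.subgroupOf H)).map f = L := by
    ext x
    constructor
    · rintro ⟨y, hy, rfl⟩
      exact hy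
    · intro hx
      exact ⟨⟨⟨x, hJH (hLJ hx)⟩, hLJ hx⟩, hx, rfl⟩
  have hmapS : (SJ : Subgroup ↥(J.subgroupOf H)).map f ≤ (S : Subgroup G) := by
    rintro _ ⟨y, hy, rfl⟩
    exact hy
  have hd3 : ¬ 2 ∣ ((SJ : Subgroup ↥(J.subgroupOf H)).map f ⊓ L).relIndex L := by
    intro h1
    apply hd2
    rw [Subgroup.inf_relIndex_right] at h1
    have h2 : ((SJ : Subgroup ↥(J.subgroupOf H)).map f).relIndex
        (((L.subgroupOf H).subgroupOf (J.subgroupOf H)).map f) =
        (SJ : Subgroup ↥(J.subgroupOf H)).relIndex ((L.subgroupOf H).subgroupOf (J.subgroupOf H)) :=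
      relIndex_map_map_of_injective _ _ hfi
    rw [hmapL] at h2
    rwa [h2] at h1
  obtain ⟨k, hk, hkE⟩ := exists_conj_le_in (p := 2) (N := L) (R := (SJ : Subgroup ↥(J.subgroupOf H)).map f ⊓ L)
    (S.isPGroup'.to_le (inf_le_left.trans hmapS)) hd3 hE hE2
  exact ⟨k, hk, fun x hx => hmapS (hkE ⟨x, hx, rfl⟩).1⟩

/-- `S ∩ A` contains an involution -/
theorem exists_inv [Finite G] {S : Sylow 2 G} (hS : (S : Subgroup G) ≤ H) {A : Subgroup G} (hA : A ∈ Λ) :
    ∃ x ∈ (S : Subgroup G) ⊓ A, orderOf x = 2 := by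
  obtain ⟨t, ht, ot⟩ := h.even A hA
  have hz : IsPGroup 2 (zpowers t) := by
    refine IsPGroup.of_card (n := 1) ?_
    rw [Nat.card_zpowers, ot, pow_one]
  obtain ⟨k, hk, hkS⟩ := h.exists_conj_mem hS hA (by rw [zpowers_le]; exact ht) hz
  exact ⟨k * t * k⁻¹, mem_inf.2 ⟨hkS t (mem_zpowers t), A.mul_mem (A.mul_mem hk ht) (A.inv_mem hk)⟩,
    by rw [orderOf_conj', ot]⟩

theorem inf_ne_bot [Finite G] {S : Sylow 2 G} (hS : (S : Subgroup G) ≤ H) {A : Subgroup G} (hA : A ∈ Λ) :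
    (S : Subgroup G) ⊓ A ≠ ⊥ := by
  obtain ⟨x, hx, ox⟩ := h.exists_inv hS hA
  intro hb
  rw [hb, mem_bot] at hx
  exact ne_one_of_ord ox hx

theorem rich_inf [Finite G] {S : Sylow 2 G} (hS : (S : Subgroup G) ≤ H) {A : Subgroup G} (hA : A ∈ Λ) :
    ∀ x ∈ (S : Subgroup G) ⊓ A, orderOf x = 2 →
      ∃ y ∈ (S : Subgroup G) ⊓ A, orderOf y = 2 ∧ y ≠ x ∧ x * y = y * x := by
  obtain ⟨a, ha, oa⟩ := h.even A hA
  obtain ⟨b, hb, ob, hba, hab⟩ := h.four A hA a ha oa
  -- the four-group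
  set E : Subgroup G := closure {a, b} with hE
  have hEA : E ≤ A := by
    rw [hE, closure_le]
    rintro z (rfl | rfl)
    · exact ha
    · exact hb
  have hE2 : IsPGroup 2 ↥E := by
    have h1 : ∀ z ∈ E, z * z = 1 ∧ z * a = a * z ∧ z * b = b * z := by
      intro z hz
      induction hz using closure_induction with
      | mem z hz =>
        rcases hz with rfl | rfl
        · exact ⟨sq_of_ord oa, rfl, hab⟩
        · exact ⟨sq_of_ord ob, hab.symm, rfl⟩
      | one => simp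
      | mul x y hx hy hx' hy' =>
        have hxy : x * y = y * x := by
          have h2 : E ≤ centralizer ({x} : Set G) := by
            rw [hE, closure_le]
            rintro w (rfl | rfl)
            · exact mem_cen.mpr hx'.2.1.symm
            · exact mem_cen.mpr hx'.2.2.symm
          exact (mem_cen.mp (h2 hy)).symm
        refine ⟨?_, ?_, ?_⟩
        · calc x * y * (x * y) = x * (y * x) * y := by group
            _ = x * (x * y) * y := by rw [hxy]
            _ = (x * x) * (y * y) := by group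
            _ = 1 := by rw [hx'.1, hy'.1, one_mul]
        · exact ((show Commute x a from hx'.2.1).mul_left (show Commute y a from hy'.2.1)).eq
        · exact ((show Commute x b from hx'.2.2).mul_left (show Commute y b from hy'.2.2)).eq
      | inv x hx hx' =>
        refine ⟨?_, ?_, ?_⟩
        · rw [← mul_inv_rev, hx'.1, inv_one]
        · exact (show Commute x a from hx'.2.1).inv_left.eq
        · exact (show Commute x b from hx'.2.2).inv_left.eq
    rintro ⟨z, hz⟩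
    refine ⟨1, Subtype.ext ?_⟩
    change z ^ 2 ^ 1 = 1
    rw [pow_one, pow_two]
    exact (h1 z hz).1
  obtain ⟨k, hk, hkS⟩ := h.exists_conj_mem hS hA hEA hE2
  have key : ∀ c ∈ E, k * c * k⁻¹ ∈ (S : Subgroup G) ⊓ A := fun c hc =>
    mem_inf.2 ⟨hkS _ hc, A.mul_mem (A.mul_mem hk (hEA hc)) (A.inv_mem hk)⟩
  have haE : a ∈ E := subset_closure (Or.inl rfl)
  have hbE : b ∈ E := subset_closure (Or.inr rfl)
  intro x hx ox
  refine exists_partner (P := (S : Subgroup G) ⊓ A) (S.isPGroup'.to_le inf_le_left) (key a haE) (key b hbE)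
    (by rw [orderOf_conj']; exact oa) (by rw [orderOf_conj']; exact ob) ?_ hx ox
  intro h1
  apply hba
  have e : ∀ c : G, c = k⁻¹ * (k * c * k⁻¹) * k := fun c => by group
  rw [e b, ← h1, ← e a]

/-- an element of `A ∩ B` is trivial -/
theorem eq_one_of_mem {A B : Subgroup G} (hA : A ∈ Λ) (hB : B ∈ Λ) (hne : A ≠ B) {x : G} (hx : x ∈ A) (hx' : x ∈ B) :
    x = 1 := (h.sp hA).eq_one_of_comm hx fun y hy => h.comm A hA B hB hne y hy x hx'

theorem inf_inj [Finite G] {S : Sylow 2 G} (hS : (S : Subgroup G) ≤ H) :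
    Set.InjOn (fun L : Subgroup G => (S : Subgroup G) ⊓ L) Λ := by
  intro A hA B hB hAB
  by_contra hne
  obtain ⟨x, hx, ox⟩ := h.exists_inv hS hA
  have hxB : x ∈ (S : Subgroup G) ⊓ B := by
    have h1 : (S : Subgroup G) ⊓ A = (S : Subgroup G) ⊓ B := hAB
    rw [← h1]; exact hx
  exact ne_one_of_ord ox (h.eq_one_of_mem hA hB hne hx.2 hxB.2)

/-- the frame of the parts `S ∩ A` -/
theorem frame [Finite G] {S : Sylow 2 G} (hS : (S : Subgroup G) ≤ H) :
    FusHalf.Frame (S : Subgroup G) H ((fun L => (S : Subgroup G) ⊓ L) '' Λ) where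
  le := by
    rintro _ ⟨L, -, rfl⟩
    exact inf_le_left
  comm := by
    rintro _ ⟨L, hL, rfl⟩ _ ⟨M, hM, rfl⟩ hne a ha b hb
    have hLM : L ≠ M := by rintro rfl; exact hne rfl
    exact h.comm L hL M hM hLM a ha.2 b hb.2
  perm := by
    rintro s hs _ ⟨L, hL, rfl⟩
    refine ⟨cj s L, h.cj_mem (hS hs) hL, ?_⟩
    ext x
    change x ∈ (S : Subgroup G) ⊓ cj s L ↔ x ∈ cj s ((S : Subgroup G) ⊓ L)
    rw [mem_cj, mem_inf, mem_inf, mem_cj]
    constructor
    · rintro ⟨h1, h2⟩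
      exact ⟨mul_mem (mul_mem (inv_mem hs) h1) hs, h2⟩
    · rintro ⟨h1, h2⟩
      refine ⟨?_, h2⟩
      have e : x = s * (s⁻¹ * x * s) * s⁻¹ := by group
      rw [e]
      exact mul_mem (mul_mem hs h1) (inv_mem hs)
  ne := by
    rintro _ ⟨L, hL, rfl⟩
    exact h.inf_ne_bot hS hL
  rich := by
    rintro _ ⟨L, hL, rfl⟩
    exact h.rich_inf hS hL
  two := by
    obtain ⟨A, hA, B, hB, hAB⟩ := h.two
    refine ⟨_, ⟨A, hA, rfl⟩, _, ⟨B, hB, rfl⟩, fun h1 => hAB (h.inf_inj hS hA hB h1)⟩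
  sc := by
    intro J hJ hJne u hu ou g hg
    set J' : Set (Subgroup G) := {L | L ∈ Λ ∧ (S : Subgroup G) ⊓ L ∈ J} with hJ'
    have hinj := h.inf_inj hS
    refine h.sc J' (fun L hL => hL.1) ?_ u ?_ ou g (hS hg)
    · have h1 : J'.ncard ≤ J.ncard :=
        Set.ncard_le_ncard_of_injOn (fun L => (S : Subgroup G) ⊓ L) (fun L hL => hL.2)
          (fun A hA B hB hAB => hinj hA.1 hB.1 hAB) (Set.toFinite _)
      have h2 : ((fun L => (S : Subgroup G) ⊓ L) '' Λ).ncard ≤ Λ.ncard := Set.ncard_image_le (Set.toFinite _)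
      omega
    · have h1 : sSup J ≤ sSup J' := by
        refine sSup_le fun A hA => ?_
        obtain ⟨L, hL, rfl⟩ := hJ hA
        exact inf_le_right.trans (le_sSup ⟨hL, hA⟩)
      exact h1 hu

/-- `S ∩ ⟨Λ⟩` is strongly closed. -/
theorem isStronglyClosed [Finite G] {S : Sylow 2 G} (hS : (S : Subgroup G) ≤ H) :
    Cfsg.IsStronglyClosed ((S : Subgroup G) ⊓ sSup Λ) (S : Subgroup G) := by
  haveI : Fact (Nat.Prime 2) := ⟨Nat.prime_two⟩
  have hfr := h.frame hS
  refine Cfsg.Agent.ClassTwoFusion.Ess.isStronglyClosed S _ inf_le_left ?_ ?_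
  · intro g hg a ha
    have hgH : g ∈ H := by
      obtain ⟨A, hA, -⟩ := h.two
      obtain ⟨x, hx, ox⟩ := h.exists_inv hS hA
      exact h.sc_mem hA hx.2 ox (hS ((mem_normalizer_iff.1 hg _).1 hx.1))
    exact ⟨(mem_normalizer_iff.1 hg a).1 ha.1, h.conj_mem_join hgH ha.2⟩
  · intro X hX g hg a ha haX
    have hgH := hfr.normalizer_le hX hg
    exact ⟨hX.lt.le ((mem_normalizer_iff.1 hg a).1 haX), h.conj_mem_join hgH ha.2⟩

/-- the conjugates of `S ∩ ⟨Λ⟩` -/
def fam0 (Λ : Set (Subgroup G)) (S : Subgroup G) : Set G := {x : G | ∃ g : G, g * x * g⁻¹ ∈ S ⊓ sSup Λ}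

theorem data [Finite G] {S : Sylow 2 G} (hS : (S : Subgroup G) ≤ H) :
    Cfsg.Agent.PermParts.OfProd.Data (fam0 Λ (S : Subgroup G)) S
      (fun L : ↥Λ => (S : Subgroup G) ⊓ (L : Subgroup G)) := by
  haveI : Fact (Nat.Prime 2) := ⟨Nat.prime_two⟩
  have hcl := h.isStronglyClosed hS
  have hfam := Cfsg.Agent.TwoFusion.ClosedFam.isClosedFam_of_isStronglyClosed S _ hcl
  refine ⟨hfam, ?_, ?_, ?_, ?_⟩
  · intro L x hx
    exact ⟨⟨1, by simpa using ⟨hx.1, le_sSup L.2 hx.2⟩⟩, hx.1⟩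
  · rintro L x hx q hq ⟨g, hg⟩
    have hqW : q ∈ (S : Subgroup G) ⊓ sSup Λ := by
      have e : g⁻¹ * (g * q * g⁻¹) * g⁻¹⁻¹ = q := by group
      have := hcl.2 _ hg g⁻¹ (by rw [e]; exact hq)
      rwa [e] at this
    exact mem_inf.2 ⟨(S : Subgroup G).mul_mem ((S : Subgroup G).mul_mem hq hx.1) ((S : Subgroup G).inv_mem hq),
      (mem_normalizer_iff.1 (h.join_le_normalizer L.2 hqW.2) x).1 hx.2⟩
  · intro L x hx hx'
    have hle : (⨆ j : {j // j ≠ L}, (S : Subgroup G) ⊓ ((j : ↥Λ) : Subgroup G) : Subgroup G) ≤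
        centralizer ((L : Subgroup G) : Set G) := by
      refine iSup_le fun j => inf_le_right.trans ?_
      exact comm_iff_le_centralizer.mp (h.comm _ j.1.2 _ L.2 (fun e => j.2 (Subtype.ext e)))
    have hxc := hle hx'
    exact (h.sp L.2).eq_one_of_comm hx.2 fun k hk => mem_centralizer_iff.1 hxc k hk
  · intro L x hx g hg
    by_cases hx1 : x = 1
    · refine ⟨L, ?_⟩
      rw [hx1]
      have e : g * 1 * g⁻¹ = 1 := by group
      rw [e]; exact one_mem _
    · obtain ⟨n, hn⟩ := exists_pow_orderOf S.isPGroup' hx.1 hx1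
      have hgH : g ∈ H := by
        refine h.sc_mem L.2 (pow_mem hx.2 n) hn ?_
        rw [← conj_pow]
        exact hS (pow_mem hg n)
      exact ⟨⟨cj g L, h.cj_mem hgH L.2⟩, hg, conj_mem_cj hx.2⟩

end Blk

end Cfsg.Agent.UGT.Blk
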