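import Cfsg.Agent.UGT.Blk.Inputs
import Cfsg.Agent.UGT.Blk.HonB
import Cfsg.Agent.UGT.BL.Bridge
import Cfsg.Agent.UGT.BL.BlkDefs

/-!
# Blocks: no commuting pairs in the residual world

`Pgl G`, `G` simple. `SS` is a conjugation invariant set of simple subgroups, every member `L` has a partner for `Rel ⊤`
and an involution `x` such that `(x, a, L)` is a triple, with a four-group of involutions in `C(L) ∩ C(x)`. Then `False`
(given the closing of Theorem BL).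

* `MemB L`: the hypothesis on a member `L`.
* `bsys`: `BSys SS`, `noAdj_of`: `NoAdj SS`, `sys_of`: `BL.Sys SS`.
* `false_of_members`.
* `false_of_pair`: one pair `L ~ P` with `MemB L`, `MemB P`.
-/

set_option autoImplicit false

open Cfsg Subgroup
open Cfsg.Agent.SignalizersComponents
open Cfsg.Agent.SignalizersComponents.IntrinsicBasic
open Cfsg.Agent.Intrinsic.Basic
open Cfsg.Agent.UGT.Triple Cfsg.Agent.UGT.TriBase
open Cfsg.Agent.UGT.Res.KFacts (Pgl)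
open Cfsg.Agent.UGT.Res.EFacts (Cf)
open Cfsg.Agent.UGT.Res.CfOf (exists_R)
open Cfsg.Agent.UGT.ThE.Base (IsT IsS)
open Cfsg.Agent.UGT.BL (T2 Iv Sn)

namespace Cfsg.Agent.UGT.Blk.Top

universe u

variable {G : Type u} [Group G]

/-- `(x, a, L)` is a triple, `O(L) = 1`, `C(L) ∩ C(x)` has a four-group -/
def MemB (L : Subgroup G) : Prop := ∃ x a : G, IsTriple x a L ∧ core L = ⊥ ∧
  ∃ t u : G, IsT L x t ∧ IsT L x u ∧ t ≠ u ∧ t * u = u * t

theorem isT_cj {L : Subgroup G} {x t : G} (h : IsT L x t) (g : G) :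
    IsT (IntrinsicBasic.cj g L) (g * x * g⁻¹) (g * t * g⁻¹) := by
  refine ⟨?_, ?_, ?_, fun h1 => h.ne ?_⟩
  · rw [mem_centralizer_iff]
    intro l hl
    have h1 := mem_centralizer_iff.mp h.mem (g⁻¹ * l * g) (mem_cj.mp hl)
    calc l * (g * t * g⁻¹) = g * (g⁻¹ * l * g * t) * g⁻¹ := by group
      _ = g * (t * (g⁻¹ * l * g)) * g⁻¹ := by rw [h1]
      _ = g * t * g⁻¹ * l := by group
  · calc g * t * g⁻¹ * (g * x * g⁻¹) = g * (t * x) * g⁻¹ := by group
      _ = g * x * g⁻¹ * (g * t * g⁻¹) := by rw [h.comm]; group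
  · calc g * t * g⁻¹ * (g * t * g⁻¹) = g * (t * t) * g⁻¹ := by group
      _ = 1 := by rw [h.sq]; group
  · have : t = g⁻¹ * (g * t * g⁻¹) * g := by group
    rw [this, h1]; group

theorem MemB.cj {L : Subgroup G} (h : MemB L) (g : G) : MemB (IntrinsicBasic.cj g L) := by
  obtain ⟨x, a, T, hc, t, u, ht, hu, hne, htu⟩ := h
  refine ⟨g * x * g⁻¹, g * a * g⁻¹, T.cj g, ?_, g * t * g⁻¹, g * u * g⁻¹, isT_cj ht g, isT_cj hu g, ?_, ?_⟩
  · rw [core_cj, hc, IntrinsicBasic.cj, Subgroup.map_bot]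
  · intro h1
    exact hne (by simpa using h1)
  · calc g * t * g⁻¹ * (g * u * g⁻¹) = g * (t * u) * g⁻¹ := by group
      _ = g * u * g⁻¹ * (g * t * g⁻¹) := by rw [htu]; group

variable [Finite G]

/-- the hypotheses -/
structure Mems (SS : Set (Subgroup G)) : Prop where
  cj : ∀ L ∈ SS, ∀ g : G, IntrinsicBasic.cj g L ∈ SS
  part : ∀ L ∈ SS, ∃ P ∈ SS, Rel ⊤ L P
  bad : ∀ L ∈ SS, MemB L

variable {SS : Set (Subgroup G)}

omit [Finite G] in
theorem exists_rep (H : Pgl G) {L : Subgroup G} (h : MemB L) :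
    ∃ (F : Type) (_ : Field F) (_ : Finite F), 5 ≤ Nat.card F ∧ Nonempty (Cfsg.Agent.GH.L2Aut.Rep F L) := by
  obtain ⟨x, a, T, hc, -⟩ := h
  exact exists_R H T hc

omit [Finite G] in
theorem Mems.base (H : Pgl G) (M : Mems SS) : Base SS := by
  have key : ∀ L ∈ SS, IsSimpleGroup ↥L ∧ ∃ PG, LF L PG := by
    intro L hL
    obtain ⟨F, _, _, h5, ⟨R⟩⟩ := exists_rep H (M.bad L hL)
    exact ⟨TT.PGLSolv.isSimple R (by omega), pgl R, LF.of_rep R h5⟩
  refine ⟨M.cj, fun L hL => (key L hL).1, ?_, ?_, ?_, ?_, M.part⟩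
  · intro L hL
    obtain ⟨-, PG, h⟩ := key L hL
    exact h.perfect
  · intro L hL
    obtain ⟨-, PG, h⟩ := key L hL
    exact h.even
  · intro L hL t ht u hu ht2 hu2
    obtain ⟨-, PG, h⟩ := key L hL
    exact h.conj2 t ht u hu ht2 hu2
  · intro L hL t ht ht2 D hD hn hc
    obtain ⟨-, PG, h⟩ := key L hL
    exact h.solv t ht ht2 D hD hn hc

omit [Finite G] in
theorem Mems.t2 (H : Pgl G) (M : Mems SS) {L : Subgroup G} (hL : L ∈ SS) : T2 ↥L := by
  obtain ⟨F, _, _, h5, ⟨R⟩⟩ := exists_rep H (M.bad L hL)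
  exact T2.of_rep R (by omega)

theorem Mems.b1 (H : Pgl G) (M : Mems SS) {L : Subgroup G} (hL : L ∈ SS) : B1 L := by
  refine ⟨M.t2 H hL, fun t ht c hc => ?_⟩
  exact (M.base H).sys.cenle L hL t ht.mem (orderOf_eq_prime (by rw [pow_two]; exact ht.sq) ht.ne) (mem_c hc)

theorem Mems.ti (H : Pgl G) (M : Mems SS) {L : Subgroup G} (hL : L ∈ SS) {t g : G} (ht : t ∈ L)
    (ht2 : orderOf t = 2) (hg : g * t * g⁻¹ ∈ L) : g ∈ normalizer (L : Set G) := by
  rw [mem_normalizer_iff_cj]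
  exact ((M.base H).sys.ti L hL _ (M.cj L hL g) _ hg (conj_mem_cj ht) (by rw [orderOf_conj', ht2])).symm

omit [Finite G] in
theorem cmp_of_comp {X L : Subgroup G} (h : IsComp X L) : Cmp X L :=
  ⟨(Sn.of_comp h).le, (Sn.of_comp h).sn⟩

/-- **(h1) and Theorem H for the members** -/
theorem Mems.badFor (H : Pgl G) (M : Mems SS) {L : Subgroup G} (hL : L ∈ SS) : ∃ x, BadFor L x := by
  have B := M.b1 H hL
  obtain ⟨x, a, T, hc, four⟩ := M.bad L hL
  obtain ⟨F, _, _, h5, ⟨R⟩⟩ := exists_R H T hc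
  have h := HonB.hb_of H B T four
  refine ⟨x, ⟨F, _, _, R, h5, h.cf H B R⟩, ?_, ?_⟩
  · intro t ht2 ht htx
    exact cmp_of_comp (h.good (HonB.isT_of ht ht2 htx)).comp
  · intro c hc
    refine h.cen_le H B (fun ht ht2 hg => M.ti H hL ht ht2 hg) ?_
    rw [mem_centralizer_iff]
    rintro y ⟨hy, hyL⟩
    exact (hc y hyL (comm_c (core_le _ hy)) (HonB.odd_of_core hy)).symm

theorem Mems.bsys (H : Pgl G) (M : Mems SS) : BSys SS := ⟨M.cj, M.part, fun _ hL => M.badFor H hL⟩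

theorem _root_.Cfsg.Agent.UGT.Blk.BSys.noAdj (h : BSys SS) : NoAdj SS := by
  obtain ⟨PG, hPG⟩ := h.lf
  have hB := h.base
  have F : ∀ L ∈ SS, LF L (PG L) := fun L hL => (hPG L hL).1
  have hP : ProdH SS (rl SS) := by
    refine prodH_of hB.sys F (fun L hL => hB.sp hL) ?_
    intro N hN
    obtain ⟨x, hx⟩ := h.bad N hN
    obtain ⟨F, _, _, R, h5, C⟩ := hx.rep
    exact ⟨x, C.xx, C.xN, hx.h1⟩
  exact Blk.noAdj hB.sys F (fun L hL => (hPG L hL).2) hP

theorem Mems.sys (H : Pgl G) (M : Mems SS) (hne : SS.Nonempty) : BL.Sys SS :=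
  BL.sys_of_blk (M.base H) (M.bsys H).noAdj (fun _ hL => M.t2 H hL) hne

/-! ### one pair -/

/-- the conjugates of `L`, `P` -/
def SS₂ (L P : Subgroup G) : Set (Subgroup G) := {K | ∃ g : G, K = IntrinsicBasic.cj g L ∨ K = IntrinsicBasic.cj g P}

omit [Finite G] in
theorem mems_of_pair {L P : Subgroup G} (h : Rel ⊤ L P) (hL : MemB L) (hP : MemB P) : Mems (SS₂ L P) := by
  refine ⟨?_, ?_, ?_⟩
  · rintro K ⟨g, hg⟩ k
    refine ⟨k * g, ?_⟩
    rcases hg with rfl | rfl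
    · left; rw [cj_mul]
    · right; rw [cj_mul]
  · rintro K ⟨g, rfl | rfl⟩
    · exact ⟨_, ⟨g, Or.inr rfl⟩, h.cj g⟩
    · exact ⟨_, ⟨g, Or.inl rfl⟩, (h.cj g).symm⟩
  · rintro K ⟨g, rfl | rfl⟩
    · exact hL.cj g
    · exact hP.cj g

theorem sys_of_pair (H : Pgl G) {L P : Subgroup G} (h : Rel ⊤ L P) (hL : MemB L) (hP : MemB P) :
    BL.Sys (SS₂ L P) :=
  (mems_of_pair h hL hP).sys H ⟨L, 1, Or.inl (cj_one L).symm⟩

/-! ### both members in one centralizer -/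

theorem memB_of_pair (H : Pgl G) {x e : G} {N N' : Subgroup G} (T : IsTriple x e N) (T' : IsTriple x e N')
    (hb : core N = ⊥) (hb' : core N' = ⊥) (hc : ∀ n ∈ N, ∀ n' ∈ N', n * n' = n' * n) : MemB N := by
  obtain ⟨F, _, _, h5, ⟨R⟩⟩ := exists_R H T' hb'
  have hLF := LF.of_rep R h5
  obtain ⟨s, hs, hs2, hsx⟩ := hLF.fix x T'.x_mem (sq_of_order T'.invx)
  have heN : e ∈ centralizer (N : Set G) := by
    rw [mem_centralizer_iff]
    intro l hl
    exact comm_c (T.comp.le hl)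
  have hsN : s ∈ centralizer (N : Set G) := by
    rw [mem_centralizer_iff]
    intro l hl
    exact hc l hl s hs
  have hse : s * e = e * s := comm_c (T'.comp.le hs)
  refine ⟨x, e, T, hb, e, s, ⟨heN, T.comm, sq_of_order T.inva, ne_one_of_order T.inva⟩,
    ⟨hsN, hsx, sq_of_order hs2, ne_one_of_order hs2⟩, ?_, hse.symm⟩
  rintro rfl
  have h2 : T2 ↥N' := T2.of_rep R (by omega)
  exact ne_one_of_order hs2 (h2.center hs fun l hl => (comm_c (T'.comp.le hl)).symm)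

end Cfsg.Agent.UGT.Blk.Top
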